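import Cfsg.Agent.HSUniq.ClassChecks

/-!
The check on the points fixed by the second involution.
-/

set_option autoImplicit false
set_option maxRecDepth 100000
set_option maxHeartbeats 0
set_option Elab.async false

namespace CfsgLib.HSUniq.Cls

open CfsgLib.Coset

theorem short_ok : (Nat.blt short 7680 && !Nat.beq (numComm short) 64) = true := by decide +kernel

/-- The certificate at a point fixed by the second involution. -/
noncomputable def fixCert (i : Nat) : Bool :=
  fixed.any fun e => Nat.beq e.1 i &&
    cond (Nat.beq e.2.1 0)
      (allList (fun l => Nat.blt l 16) e.2.2 && same (e.2.2 ++ uW ++ winv e.2.2) (pth short) &&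
        same (e.2.2 ++ zW i ++ winv e.2.2) tW)
      (Nat.ble e.2.1 45 &&
        same (winv (yList.getD (e.2.1 - 1) []) ++ tW ++ yList.getD (e.2.1 - 1) []) (zW i))

theorem fixed_ok : allBelow 13 5775 (fun i => !same (zW i ++ uW) (uW ++ zW i) || fixCert i) = true := by
  decide +kernel

end CfsgLib.HSUniq.Cls
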