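import Cfsg.Agent.HSUniq.ClassModel
import Cfsg.Agent.HSUniq.ClassChecksFixed
import Mathlib.GroupTheory.Sylow

/-!
The two classes of involutions of the Higman–Sims group, and the local facts at the second class.
-/

set_option autoImplicit false
set_option maxRecDepth 100000

namespace CfsgLib.HSUniq.Cls

open Cfsg CfsgLib.Coset
open scoped Pointwise

theorem card_inf_conj {G : Type*} [Group G] (g a b : G) :
    Nat.card (Subgroup.centralizer ({g * a * g⁻¹} : Set G) ⊓
        Subgroup.centralizer ({g * b * g⁻¹} : Set G) : Subgroup G) =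
      Nat.card (Subgroup.centralizer ({a} : Set G) ⊓ Subgroup.centralizer ({b} : Set G) : Subgroup G) := by
  refine (Nat.card_congr ((MulAut.conj g).toEquiv.subtypeEquiv fun x => ?_)).symm
  show x ∈ Subgroup.centralizer ({a} : Set G) ⊓ Subgroup.centralizer ({b} : Set G) ↔
    g * x * g⁻¹ ∈ Subgroup.centralizer ({g * a * g⁻¹} : Set G) ⊓
      Subgroup.centralizer ({g * b * g⁻¹} : Set G)
  simp only [Subgroup.mem_inf, Subgroup.mem_centralizer_singleton_iff]
  have key : ∀ c, x * c = c * x ↔ g * x * g⁻¹ * (g * c * g⁻¹) = g * c * g⁻¹ * (g * x * g⁻¹) := fun c => by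
    rw [show g * x * g⁻¹ * (g * c * g⁻¹) = g * (x * c) * g⁻¹ by group,
      show g * c * g⁻¹ * (g * x * g⁻¹) = g * (c * x) * g⁻¹ by group, mul_left_inj, mul_right_inj]
  rw [key a, key b]

theorem ju_lt : ju < 7680 := by
  have h := u_invol
  simp only [Bool.and_eq_true, Nat.blt_eq] at h
  exact h.2

/-- The second involution. -/
noncomputable def ups : M := el ju

theorem ev_uW : ev L uW = ups := rfl

theorem lett_uW : Lett uW := lett_pth ju_lt

theorem orderOf_ups : orderOf ups = 2 := by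
  have h := u_invol
  simp only [Bool.and_eq_true, Bool.not_eq_true'] at h
  refine orderOf_eq_prime ?_ fun e => ?_
  · rw [sq, ups, el_mul ju_lt ju_lt, show mulC ju ju = 0 from Nat.eq_of_beq_eq_true h.1.1, el_zero]
  · have := el_inj ju_lt (by decide) (e.trans el_zero.symm)
    rw [this] at h
    exact Bool.noConfusion h.1.2

theorem ups_comm_tau : ups * tau = tau * ups :=
  Subgroup.mem_centralizer_singleton_iff.1 (cent_tau.symm ▸ el_mem ju_lt)

theorem card_node {j : Nat} (hj : j < 7680) :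
    Nat.card (Subgroup.centralizer ({el j} : Set M) ⊓ Subgroup.centralizer ({tau} : Set M) : Subgroup M) =
      numComm j := by
  classical
  set Ls := (List.range 7680).filter fun i => comC i j with hLs
  have hlt : ∀ i ∈ Ls, i < 7680 := fun i hi => List.mem_range.1 (List.mem_filter.1 hi).1
  have e : ((Subgroup.centralizer ({el j} : Set M) ⊓ Subgroup.centralizer ({tau} : Set M) : Subgroup M) : Set M) =
      ((Ls.map el).toFinset : Set M) := by
    ext g
    simp only [SetLike.mem_coe, Subgroup.mem_inf, cent_tau, List.coe_toFinset, Set.mem_ofPred_eq,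
      List.mem_map, Subgroup.mem_centralizer_singleton_iff]
    constructor
    · rintro ⟨hc, hg⟩
      obtain ⟨i, hi, rfl⟩ := exists_el hg
      exact ⟨i, List.mem_filter.2 ⟨List.mem_range.2 hi, (comC_iff hi hj).2 hc⟩, rfl⟩
    · rintro ⟨i, hi, rfl⟩
      exact ⟨(comC_iff (hlt i hi) hj).1 (List.mem_filter.1 hi).2, el_mem (hlt i hi)⟩
  show Nat.card ((Subgroup.centralizer ({el j} : Set M) ⊓ Subgroup.centralizer ({tau} : Set M) : Subgroup M) : Set M) = _
  rw [e, Nat.card_coe_set_eq, Set.ncard_coe_finset, List.toFinset_card_of_nodup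
    ((List.nodup_range.filter _).map_on fun a ha b hb h => el_inj (hlt a ha) (hlt b hb) h), List.length_map]
  rfl

theorem card_both : Nat.card (Subgroup.centralizer ({ups} : Set M) ⊓
    Subgroup.centralizer ({tau} : Set M) : Subgroup M) = 64 := by
  rw [ups, card_node ju_lt, numComm, sList_eq, sList_length.1]

theorem mem_sList {i : Nat} : i ∈ sList ↔ i < 7680 ∧ comC i ju = true := by
  rw [← sList_eq, List.mem_filter, List.mem_range]

/-- The conjugator of a position of the long orbit. -/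
noncomputable def yv (k : Nat) : M := ev L (yList.getD k [])

theorem lett_y (k : Nat) : Lett (yList.getD k []) := fun l hl =>
  letters_getD sList_length.2.2.2 k l hl

theorem yv_comm {k : Nat} (hk : k < 45) : yv k * ups = ups * yv k := by
  have h := List.all_eq_true.1 yList_ok k (List.mem_range.2 hk)
  rw [Bool.and_eq_true] at h
  have h' := eq_of_same (lett_append (lett_y k) lett_uW) (lett_append lett_uW (lett_y k)) h.1
  rwa [ev_append, ev_append] at h'

theorem ev_yconj (k : Nat) :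
    ev L (winv (yList.getD k []) ++ tW ++ yList.getD k []) = (yv k)⁻¹ * tau * yv k := by
  rw [ev_append, ev_append, ev_winv]; rfl

theorem lett_yconj (k : Nat) : Lett (winv (yList.getD k []) ++ tW ++ yList.getD k []) :=
  lett_append (lett_append (lett_winv (lett_y k)) lett_tW) (lett_y k)

theorem yconj_inj {k l : Nat} (hk : k < 45) (hl : l < 45)
    (h : (yv k)⁻¹ * tau * yv k = (yv l)⁻¹ * tau * yv l) : k = l := by
  by_contra hne
  wlog hlk : l < k generalizing k l
  · exact this hl hk h.symm (Ne.symm hne) (by omega)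
  have h1 := List.all_eq_true.1 yList_ok k (List.mem_range.2 hk)
  rw [Bool.and_eq_true] at h1
  have h2 := List.all_eq_true.1 h1.2 l (List.mem_range.2 hlk)
  rw [Bool.not_eq_true'] at h2
  exact ne_of_same (lett_yconj k) (lett_yconj l) h2 (by rw [ev_yconj, ev_yconj, h])

/-- A conjugate of the first involution commuting with the second is in the long orbit or has another
centraliser there. -/
theorem orbit_or {z : M} (hz : IsConj tau z) (hc : z * ups = ups * z) :
    (∃ k < 45, z = (yv k)⁻¹ * tau * yv k) ∨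
      Nat.card (Subgroup.centralizer ({ups} : Set M) ⊓ Subgroup.centralizer ({z} : Set M) : Subgroup M) ≠ 64 := by
  obtain ⟨i, hi, rfl⟩ := exists_zW hz
  have h := of_allBelow fixed_ok i hi
  rw [same_of_eq (lett_append (lett_zW hi) lett_uW) (lett_append lett_uW (lett_zW hi))
    (by rw [ev_append, ev_append, ev_uW, hc]), Bool.not_true, Bool.false_or] at h
  obtain ⟨e, -, h⟩ := List.any_eq_true.1 h
  rw [Bool.and_eq_true] at h
  obtain ⟨-, h⟩ := h
  cases hf : Nat.beq e.2.1 0 with
  | true =>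
    rw [hf, cond_true] at h
    simp only [Bool.and_eq_true, allList_iff, Nat.blt_eq] at h
    obtain ⟨⟨hg, h1⟩, h2⟩ := h
    have hs := short_ok
    simp only [Bool.and_eq_true, Nat.blt_eq, Bool.not_eq_true'] at hs
    have hgl : Lett e.2.2 := hg
    have e1 := eq_of_same (lett_append (lett_append hgl lett_uW) (lett_winv hgl)) (lett_pth hs.1) h1
    have e2 := eq_of_same (lett_append (lett_append hgl (lett_zW hi)) (lett_winv hgl)) lett_tW h2
    rw [ev_append, ev_append, ev_winv, ev_uW] at e1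
    rw [ev_append, ev_append, ev_winv] at e2
    refine Or.inr fun hcard => ?_
    rw [← card_inf_conj (ev L e.2.2), e1, e2] at hcard
    rw [show ev L tW = tau from rfl, show ev L (pth short) = el short from rfl, card_node hs.1] at hcard
    rw [hcard] at hs
    exact Bool.noConfusion hs.2
  | false =>
    rw [hf, cond_false, Bool.and_eq_true, Nat.ble_eq] at h
    have hne : e.2.1 ≠ 0 := fun e0 => by rw [e0] at hf; exact Bool.noConfusion hf
    refine Or.inl ⟨e.2.1 - 1, by omega, ?_⟩
    rw [← ev_yconj, eq_of_same (lett_yconj _) (lett_zW hi) h.2]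

theorem exists_cW {g : M} (hg : g * ups = ups * g) : ∃ s ∈ sList, ∃ k < 45, g = el s * yv k := by
  have hz : IsConj tau (g⁻¹ * tau * g) := isConj_iff.2 ⟨g⁻¹, by rw [inv_inv]⟩
  have hgu : g⁻¹ * ups * g = ups := by rw [mul_assoc, ← hg, inv_mul_cancel_left]
  have hc : g⁻¹ * tau * g * ups = ups * (g⁻¹ * tau * g) := by
    conv_lhs => rw [← hgu]
    conv_rhs => rw [← hgu]
    calc g⁻¹ * tau * g * (g⁻¹ * ups * g) = g⁻¹ * (tau * ups) * g := by group
      _ = g⁻¹ * (ups * tau) * g := by rw [ups_comm_tau]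
      _ = _ := by group
  have hcard : Nat.card (Subgroup.centralizer ({ups} : Set M) ⊓
      Subgroup.centralizer ({g⁻¹ * tau * g} : Set M) : Subgroup M) = 64 := by
    rw [← card_inf_conj g, show g * ups * g⁻¹ = ups by rw [hg, mul_inv_cancel_right],
      show g * (g⁻¹ * tau * g) * g⁻¹ = tau by group, card_both]
  rcases orbit_or hz hc with ⟨k, hk, e⟩ | h
  swap
  · exact absurd hcard h
  have h1 : g * (yv k)⁻¹ * tau = tau * (g * (yv k)⁻¹) := by
    have e' : tau = g * ((yv k)⁻¹ * tau * yv k) * g⁻¹ := by rw [← e]; group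
    conv_rhs => rw [e']
    group
  obtain ⟨s, hs, es⟩ := exists_el (g := g * (yv k)⁻¹) (cent_tau ▸ Subgroup.mem_centralizer_singleton_iff.2 h1)
  refine ⟨s, mem_sList.2 ⟨hs, (comC_iff hs ju_lt).2 ?_⟩, k, hk, by rw [← es, inv_mul_cancel_right]⟩
  rw [← es]
  show g * (yv k)⁻¹ * ups = ups * (g * (yv k)⁻¹)
  have hy : (yv k)⁻¹ * ups = ups * (yv k)⁻¹ := (Commute.inv_left (yv_comm hk)).eq
  rw [mul_assoc, hy, ← mul_assoc, hg, mul_assoc]

theorem el_comm_ups {s : Nat} (hs : s ∈ sList) : el s * ups = ups * el s := by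
  obtain ⟨h, hc⟩ := mem_sList.1 hs
  exact (comC_iff h ju_lt).1 hc

theorem el_comm_tau {s : Nat} (hs : s < 7680) : el s * tau = tau * el s :=
  Subgroup.mem_centralizer_singleton_iff.1 (cent_tau.symm ▸ el_mem hs)

theorem card_ups : Nat.card (Subgroup.centralizer ({ups} : Set M)) = 2880 := by
  classical
  have hs : ∀ a : Fin sList.length, sList.get a ∈ sList := fun a => List.get_mem _ _
  let f : Fin sList.length × Fin 45 → Subgroup.centralizer ({ups} : Set M) := fun p =>
    ⟨el (sList.get p.1) * yv p.2, Subgroup.mem_centralizer_singleton_iff.2 (by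
      rw [mul_assoc, yv_comm p.2.2, ← mul_assoc, el_comm_ups (hs p.1), mul_assoc])⟩
  have hf : Function.Bijective f := by
    constructor
    · rintro ⟨a, b⟩ ⟨a', b'⟩ e
      have e' : el (sList.get a) * yv b = el (sList.get a') * yv b' := congrArg Subtype.val e
      have h1 := el_comm_tau (mem_sList.1 (hs a)).1
      have h2 := el_comm_tau (mem_sList.1 (hs a')).1
      have key : ∀ (c y : M), c * tau = tau * c → (c * y)⁻¹ * tau * (c * y) = y⁻¹ * tau * y := fun c y hc => by
        calc (c * y)⁻¹ * tau * (c * y) = y⁻¹ * (c⁻¹ * (tau * c)) * y := by group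
          _ = _ := by rw [← hc, inv_mul_cancel_left]
      have hb : (b : Nat) = b' := yconj_inj b.2 b'.2 (by rw [← key _ _ h1, e', key _ _ h2])
      obtain rfl := Fin.ext hb
      have ha := el_inj (mem_sList.1 (hs a)).1 (mem_sList.1 (hs a')).1 (mul_right_cancel e')
      exact Prod.ext ((List.Nodup.get_inj_iff sList_length.2.1).1 ha) rfl
    · rintro ⟨g, hg⟩
      obtain ⟨s, hs', k, hk, rfl⟩ := exists_cW (Subgroup.mem_centralizer_singleton_iff.1 hg)
      obtain ⟨a, rfl⟩ := List.mem_iff_get.1 hs'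
      exact ⟨(a, ⟨k, hk⟩), rfl⟩
  rw [← Nat.card_eq_of_bijective f hf, Nat.card_prod, Nat.card_fin, Nat.card_fin, sList_length.1]

theorem conj_bad {i : Nat} (hi : i ∈ badList) : IsConj tau (el i) := by
  obtain ⟨e, -, h⟩ := List.any_eq_true.1 (List.all_eq_true.1 bad_ok i hi)
  simp only [Bool.and_eq_true, allList_iff, Nat.blt_eq] at h
  obtain ⟨⟨-, h1⟩, hl⟩ := h
  have hi' : i < 7680 := (by decide : ∀ i ∈ badList, i < 7680) i hi
  have hl' : Lett e.2.2 := hl
  have e1 := eq_of_same (lett_pth hi') (lett_append (lett_append (lett_winv hl') lett_tW) hl') h1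
  rw [ev_append, ev_append, ev_winv] at e1
  exact isConj_iff.2 ⟨(ev L e.2.2)⁻¹, by rw [inv_inv]; exact e1.symm⟩

theorem classes {x : M} (hx : orderOf x = 2) : IsConj tau x ∨ IsConj ups x := by
  haveI : Fact (Nat.Prime 2) := ⟨Nat.prime_two⟩
  obtain ⟨Q⟩ : Nonempty (Sylow 2 HH) := inferInstance
  obtain ⟨n, hn⟩ := IsPGroup.iff_card.1 Q.isPGroup'
  have h1 := Subgroup.card_mul_index (Q : Subgroup HH)
  rw [card_HH, hn] at h1
  have hndvd := Q.not_dvd_index
  set K := (Q : Subgroup HH).map HH.subtype with hK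
  have hKp : IsPGroup 2 K := Q.isPGroup'.map _
  have hKdvd : ¬ 2 ∣ K.index := by
    rw [hK, Subgroup.index_map_subtype, index_HH]
    exact fun h => (Nat.prime_two.dvd_mul.1 h).elim hndvd (by decide)
  obtain ⟨P, hP⟩ := (IsPGroup.of_card (n := 1) (p := 2) (G := Subgroup.zpowers x)
    (by rw [Nat.card_zpowers, hx, pow_one])).exists_le_sylow
  obtain ⟨g, hg⟩ := MulAction.exists_smul_eq M P (hKp.toSylow hKdvd)
  have hgx : g * x * g⁻¹ ∈ HH := by
    have : MulAut.conj g • x ∈ ((hKp.toSylow hKdvd : Sylow 2 M) : Subgroup M) := by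
      rw [← hg, Sylow.coe_subgroup_smul]
      exact Subgroup.smul_mem_pointwise_smul x (MulAut.conj g) _ (hP (Subgroup.mem_zpowers x))
    exact Subgroup.map_subtype_le _ this
  obtain ⟨i, hi, e⟩ := exists_el hgx
  have hx2 : x * x = 1 := by rw [← sq, ← hx, pow_orderOf_eq_one]
  have hsq : mulC i i = 0 := by
    refine el_inj (mulC_lt hi hi) (by decide) ?_
    rw [← el_mul hi hi, ← e, el_zero, show g * x * g⁻¹ * (g * x * g⁻¹) = g * (x * x) * g⁻¹ by group, hx2]
    group
  have hi0 : i ≠ 0 := fun h0 => by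
    rw [h0, el_zero, conj_eq_one_iff] at e
    rw [e, orderOf_one] at hx
    omega
  have h := of_allBelow invol_ok i hi
  rw [Bool.or_eq_true, Bool.or_eq_true, Bool.not_eq_true'] at h
  rcases h with (h | h) | h
  · exact absurd (Nat.eq_of_beq_eq_true h) hi0
  · rw [show follow (tget TH.Tb) i (pthC i) = 0 from hsq] at h
    exact Bool.noConfusion h
  obtain ⟨e', -, h⟩ := List.any_eq_true.1 h
  simp only [Bool.and_eq_true, allList_iff, Nat.blt_eq] at h
  obtain ⟨⟨-, h1⟩, hl⟩ := h
  have hl' : Lett e'.2.2 := hl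
  have hxg : IsConj (g * x * g⁻¹) x := isConj_iff.2 ⟨g⁻¹, by group⟩
  rw [e] at hxg
  cases hf : Nat.beq e'.2.1 0 with
  | true =>
    rw [hf, cond_true] at h1
    have e1 := eq_of_same (lett_pth hi) (lett_append (lett_append (lett_winv hl') lett_tW) hl') h1
    rw [ev_append, ev_append, ev_winv] at e1
    exact Or.inl ((isConj_iff.2 ⟨(ev L e'.2.2)⁻¹, by rw [inv_inv]; exact e1.symm⟩ : IsConj tau (el i)).trans hxg)
  | false =>
    rw [hf, cond_false] at h1
    have e1 := eq_of_same (lett_pth hi) (lett_append (lett_append (lett_winv hl') lett_uW) hl') h1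
    rw [ev_append, ev_append, ev_winv] at e1
    exact Or.inr ((isConj_iff.2 ⟨(ev L e'.2.2)⁻¹, by rw [inv_inv]; exact e1.symm⟩ : IsConj ups (el i)).trans hxg)

theorem eight_has {P : Subgroup M}
    (hP : P ≤ Subgroup.centralizer ({ups} : Set M) ⊓ Subgroup.centralizer ({tau} : Set M)) (hu : ups ∈ P)
    (hc : Nat.card P = 8) : ∃ z ∈ P, IsConj tau z := by
  classical
  by_contra hno
  have hno' : ∀ i, el i ∈ P → i ∉ badList := fun i hi hb => hno ⟨el i, hi, conj_bad hb⟩
  have hnode : ∀ g ∈ P, ∃ i ∈ sList, g = el i := fun g hg => by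
    obtain ⟨h1, h2⟩ := hP hg
    rw [cent_tau] at h2
    obtain ⟨i, hi, rfl⟩ := exists_el h2
    exact ⟨i, mem_sList.2 ⟨hi, (comC_iff hi ju_lt).2 (Subgroup.mem_centralizer_singleton_iff.1 h1)⟩, rfl⟩
  have pick : ∀ l : List Nat, l.length < 8 → ∃ i ∈ sList, el i ∈ P ∧ i ∉ l := by
    intro l hl
    by_contra hall
    have hsub : (P : Set M) ⊆ ((l.map el).toFinset : Set M) := fun g hg => by
      obtain ⟨i, hi, rfl⟩ := hnode g hg
      have : i ∈ l := by by_contra h; exact hall ⟨i, hi, hg, h⟩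
      simpa using ⟨i, this, rfl⟩
    have h := Set.ncard_le_ncard hsub (Finset.finite_toSet _)
    rw [Set.ncard_coe_finset, ← Nat.card_coe_set_eq] at h
    have h' : 8 ≤ (l.map el).toFinset.card := hc ▸ h
    have := h'.trans (List.toFinset_card_le _)
    rw [List.length_map] at this
    omega
  obtain ⟨a, ha, haP, hal⟩ := pick [0, ju] (by decide)
  obtain ⟨b, hb, hbP, hbl⟩ := pick [0, ju, a, mulC a ju] (by simp)
  have h := List.all_eq_true.1 pairs_ok a ha
  simp only [Bool.or_eq_true, List.contains_iff_mem, Nat.beq_eq, List.all_eq_true, List.any_eq_true] at h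
  simp only [List.mem_cons, List.not_mem_nil, or_false, not_or] at hal
  rcases h with ((h | h) | h) | h
  · exact hno' a haP h
  · exact hal.1 h
  · exact hal.2 h
  rcases h b hb with (h | h) | ⟨p, -, h⟩
  · exact hno' b hbP h
  · exact hbl h
  refine hno' _ ?_ h
  have hlt : ∀ x, [ju, a, b].getD x 0 < 7680 ∧ el ([ju, a, b].getD x 0) ∈ P := fun x => by
    rcases x with _ | _ | _ | x
    · exact ⟨ju_lt, hu⟩
    · exact ⟨(mem_sList.1 ha).1, haP⟩
    · exact ⟨(mem_sList.1 hb).1, hbP⟩
    · refine ⟨by simp, ?_⟩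
      rw [show [ju, a, b].getD (x + 3) 0 = 0 by simp, el_zero]
      exact one_mem P
  suffices ∀ (p : List Nat) (r : Nat), r < 7680 → el r ∈ P →
      p.foldl (fun r x => mulC r ([ju, a, b].getD x 0)) r < 7680 ∧
        el (p.foldl (fun r x => mulC r ([ju, a, b].getD x 0)) r) ∈ P from
    (this p 0 (by decide) (by rw [el_zero]; exact one_mem P)).2
  intro p
  induction p with
  | nil => exact fun r hr hrP => ⟨hr, hrP⟩
  | cons x p ih =>
    intro r hr hrP
    exact ih _ (mulC_lt hr (hlt x).1) (by rw [← el_mul hr (hlt x).1]; exact mul_mem hrP (hlt x).2)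

theorem conj_cent {c g : M} (hc : c * ups = ups * c) (hg : g ∈ Subgroup.centralizer ({ups} : Set M)) :
    c * g * c⁻¹ ∈ Subgroup.centralizer ({ups} : Set M) := by
  have hC : c ∈ Subgroup.centralizer ({ups} : Set M) := Subgroup.mem_centralizer_singleton_iff.2 hc
  exact mul_mem (mul_mem hC hg) (inv_mem hC)

theorem no_eight {D : Subgroup M} (hD : D ≤ Subgroup.centralizer ({ups} : Set M)) (hu : ups ∈ D)
    (hno : ∀ z ∈ D, ¬ IsConj tau z) : ¬ 8 ∣ Nat.card D := by
  haveI : Fact (Nat.Prime 2) := ⟨Nat.prime_two⟩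
  intro h8
  set C := Subgroup.centralizer ({ups} : Set M) with hC
  obtain ⟨K0, hK0, hle⟩ := Sylow.exists_subgroup_card_pow_prime_le 2 (n := 1) (m := 3)
    (show 2 ^ 3 ∣ Nat.card D from h8) (Subgroup.zpowers (⟨ups, hu⟩ : D))
    (by rw [Nat.card_zpowers, Subgroup.orderOf_mk, orderOf_ups, pow_one]) (by norm_num)
  set K := K0.map D.subtype with hK
  have hKc : Nat.card K = 8 := by
    rw [hK, Subgroup.card_map_of_injective D.subtype_injective, hK0]; norm_num
  have hKu : ups ∈ K := ⟨⟨ups, hu⟩, hle (Subgroup.mem_zpowers _), rfl⟩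
  have hKD : K ≤ D := Subgroup.map_subtype_le _
  set S := C ⊓ Subgroup.centralizer ({tau} : Set M) with hS
  have hSi : ¬ 2 ∣ (S.subgroupOf C).index := by
    have h := Subgroup.card_mul_index (S.subgroupOf C)
    rw [Nat.card_congr (Subgroup.subgroupOfEquivOfLe (inf_le_left : S ≤ C)).toEquiv, card_both, card_ups] at h
    omega
  have hSp : IsPGroup 2 (S.subgroupOf C) := (IsPGroup.of_card (n := 6) (p := 2) (G := S) card_both).of_equiv
    (Subgroup.subgroupOfEquivOfLe (inf_le_left : S ≤ C)).symm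
  have hKC : K ≤ C := hKD.trans hD
  obtain ⟨P, hP⟩ := ((IsPGroup.of_card (n := 3) (p := 2) (G := K) (by rw [hKc]; norm_num)).of_equiv
    (Subgroup.subgroupOfEquivOfLe hKC).symm).exists_le_sylow
  obtain ⟨c, hcP⟩ := MulAction.exists_smul_eq C P (hSp.toSylow hSi)
  have hcu : (c : M) * ups = ups * c := Subgroup.mem_centralizer_singleton_iff.1 c.2
  have hmem : ∀ g ∈ K, (c : M) * g * (c : M)⁻¹ ∈ S := fun g hg => by
    have : MulAut.conj c • (⟨g, hKC hg⟩ : C) ∈ ((hSp.toSylow hSi : Sylow 2 C) : Subgroup C) := by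
      rw [← hcP, Sylow.coe_subgroup_smul]
      exact Subgroup.smul_mem_pointwise_smul (⟨g, hKC hg⟩ : C) (MulAut.conj c) _ (hP hg)
    exact this
  obtain ⟨z, ⟨g, hg, rfl⟩, hz⟩ := eight_has (P := K.map (MulAut.conj (c : M)).toMonoidHom)
    (by rintro _ ⟨g, hg, rfl⟩; exact hmem g hg)
    ⟨ups, hKu, show (c : M) * ups * (c : M)⁻¹ = ups by rw [hcu, mul_inv_cancel_right]⟩
    (by rw [Subgroup.card_map_of_injective (MulEquiv.injective _), hKc])
  exact hno g (hKD hg) (hz.trans (isConj_iff.2 ⟨(c : M)⁻¹, by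
    show (c : M)⁻¹ * ((c : M) * g * (c : M)⁻¹) * (c : M)⁻¹⁻¹ = g; group⟩))

theorem five_facts : five.1 < 7680 ∧ five.2 < 45 ∧ five.1 ∈ sList ∧ Lett fW ∧
    (ev L fW) ^ 5 = 1 ∧ ev L fW ≠ 1 := by
  have h := five_ok
  simp only [Bool.and_eq_true, List.contains_iff_mem, Nat.blt_eq, Bool.not_eq_true'] at h
  obtain ⟨⟨⟨h1, h2⟩, h3⟩, h4⟩ := h
  have hlt := (mem_sList.1 h1).1
  have hl : Lett fW := lett_append (lett_pth hlt) (lett_y _)
  refine ⟨hlt, h2, h1, hl, ?_, fun e => ne_of_same hl lett_nil h4 (by rw [e, ev_nil])⟩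
  have e := eq_of_same (lett_append (lett_append (lett_append (lett_append hl hl) hl) hl) hl) lett_nil h3
  simpa [ev_append, ev_nil, pow_succ, mul_assoc] using e

theorem three_five {D : Subgroup M} (hu : ups ∈ D)
    (hf : ev L fW ∈ D) {g : M} (hg : g ∈ D) (hgu : g * ups = ups * g) (h3 : orderOf g = 3) :
    ∃ z ∈ D, IsConj tau z := by
  obtain ⟨s, hs, k, hk, rfl⟩ := exists_cW hgu
  have hlt := (mem_sList.1 hs).1
  have hl : Lett (cW s k) := lett_append (lett_pth hlt) (lett_y k)
  have hev : ev L (cW s k) = el s * yv k := by rw [cW, ev_append]; rfl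
  have h := List.all_eq_true.1 (List.all_eq_true.1 threes_ok s hs) k (List.mem_range.2 hk)
  have e3 : same (cW s k ++ cW s k ++ cW s k) [] = true := by
    refine same_of_eq (lett_append (lett_append hl hl) hl) lett_nil ?_
    rw [ev_append, ev_append, ev_nil, hev, ← sq, ← pow_succ, show (2 + 1 : ℕ) = orderOf (el s * yv k) from h3.symm,
      pow_orderOf_eq_one]
  have e1 : same (cW s k) [] = false := by
    cases hh : same (cW s k) []
    · rfl
    · have e := eq_of_same hl lett_nil hh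
      rw [hev, ev_nil] at e
      rw [e, orderOf_one] at h3
      omega
  rw [e3, e1, Bool.not_true, Bool.false_or, Bool.false_or] at h
  obtain ⟨e, -, h⟩ := List.any_eq_true.1 h
  simp only [Bool.and_eq_true, Nat.blt_eq, allList_iff] at h
  obtain ⟨⟨⟨⟨-, -⟩, hi⟩, hp⟩, hsame⟩ := h
  obtain ⟨-, -, -, hfl, -, -⟩ := five_facts
  have hcase : ∀ x, Lett ([uW, cW s k, fW, winv (cW s k), winv fW].getD x []) ∧
      ev L ([uW, cW s k, fW, winv (cW s k), winv fW].getD x []) ∈ D := fun x => by
    rcases x with _ | _ | _ | _ | _ | x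
    · exact ⟨lett_uW, hu⟩
    · exact ⟨hl, by show ev L (cW s k) ∈ D; rw [hev]; exact hg⟩
    · exact ⟨hfl, hf⟩
    · exact ⟨lett_winv hl, by show ev L (winv (cW s k)) ∈ D; rw [ev_winv, hev]; exact inv_mem hg⟩
    · exact ⟨lett_winv hfl, by show ev L (winv fW) ∈ D; rw [ev_winv]; exact inv_mem hf⟩
    · rw [show [uW, cW s k, fW, winv (cW s k), winv fW].getD (x + 5) [] = [] by simp]
      exact ⟨lett_nil, by rw [ev_nil]; exact one_mem D⟩
  have hw : ∀ p : List Nat, Lett (patW (cW s k) fW p) ∧ ev L (patW (cW s k) fW p) ∈ D := fun p => by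
    induction p with
    | nil => exact ⟨lett_nil, by rw [patW, List.flatMap_nil, ev_nil]; exact one_mem D⟩
    | cons x p ih =>
      rw [patW, List.flatMap_cons]
      exact ⟨lett_append (hcase x).1 ih.1, by rw [ev_append]; exact mul_mem (hcase x).2 ih.2⟩
  exact ⟨_, (hw e.2.2.1).2, (eq_of_same (hw e.2.2.1).1 (lett_zW hi) hsame) ▸ isConj_zW⟩

theorem large_has {D : Subgroup M} (hD : D ≤ Subgroup.centralizer ({ups} : Set M)) (hu : ups ∈ D)
    (h45 : 45 ≤ Nat.card D) : ∃ z ∈ D, IsConj tau z := by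
  by_contra hno
  have hno' : ∀ z ∈ D, ¬ IsConj tau z := fun z hz h => hno ⟨z, hz, h⟩
  haveI : Fact (Nat.Prime 3) := ⟨by norm_num⟩
  haveI : Fact (Nat.Prime 5) := ⟨by norm_num⟩
  set C := Subgroup.centralizer ({ups} : Set M) with hC
  have h8 := no_eight hD hu hno'
  have hdvd := Subgroup.card_dvd_of_le hD
  rw [card_ups] at hdvd
  have h2 : 2 ∣ Nat.card D := by
    have := orderOf_dvd_natCard (⟨ups, hu⟩ : D)
    rwa [Subgroup.orderOf_mk, orderOf_ups] at this
  have key : ∀ d ∈ Nat.divisors 2880, ¬ 8 ∣ d → 45 ≤ d → 2 ∣ d → 3 ∣ d ∧ 5 ∣ d := by decide +kernel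
  obtain ⟨h3, h5⟩ := key _ (Nat.mem_divisors.2 ⟨hdvd, by decide⟩) h8 h45 h2
  obtain ⟨f', hf'⟩ := exists_prime_orderOf_dvd_card' (G := D) 5 h5
  obtain ⟨g, hg⟩ := exists_prime_orderOf_dvd_card' (G := D) 3 h3
  obtain ⟨-, hk, hs, -, hp5, hne⟩ := five_facts
  have hfC : ev L fW ∈ C := by
    refine Subgroup.mem_centralizer_singleton_iff.2 ?_
    rw [fW, cW, ev_append]
    show el five.1 * yv five.2 * ups = ups * (el five.1 * yv five.2)
    rw [mul_assoc, yv_comm hk, ← mul_assoc, el_comm_ups hs, mul_assoc]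
  have hidx : ∀ x : C, orderOf x = 5 → ¬ 5 ∣ (Subgroup.zpowers x).index := fun x hx => by
    have h := (Subgroup.zpowers x).card_mul_index
    rw [Nat.card_zpowers, hx, card_ups] at h
    omega
  have o1 : orderOf (⟨(f' : M), hD f'.2⟩ : C) = 5 := by rw [Subgroup.orderOf_mk, Subgroup.orderOf_coe, hf']
  have o2 : orderOf (⟨ev L fW, hfC⟩ : C) = 5 := by rw [Subgroup.orderOf_mk]; exact orderOf_eq_prime hp5 hne
  have hP1 := IsPGroup.of_card (n := 1) (p := 5) (G := Subgroup.zpowers (⟨(f' : M), hD f'.2⟩ : C))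
    (by rw [Nat.card_zpowers, o1, pow_one])
  have hP2 := IsPGroup.of_card (n := 1) (p := 5) (G := Subgroup.zpowers (⟨ev L fW, hfC⟩ : C))
    (by rw [Nat.card_zpowers, o2, pow_one])
  obtain ⟨c, hc⟩ := MulAction.exists_smul_eq C (hP1.toSylow (hidx _ o1)) (hP2.toSylow (hidx _ o2))
  have hmem : (⟨ev L fW, hfC⟩ : C) ∈ ((hP2.toSylow (hidx _ o2) : Sylow 5 C) : Subgroup C) :=
    Subgroup.mem_zpowers _
  rw [← hc, Sylow.coe_subgroup_smul, Subgroup.mem_pointwise_smul_iff_inv_smul_mem] at hmem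
  obtain ⟨n, hn⟩ := Subgroup.mem_zpowers_iff.1 hmem
  have hn' : ((f' : M)) ^ n = (c : M)⁻¹ * ev L fW * c := by
    have := congrArg (fun x : C => (x : M)) hn
    simpa using this
  have hcu : (c : M) * ups = ups * c := Subgroup.mem_centralizer_singleton_iff.1 c.2
  set D' := D.map (MulAut.conj (c : M)).toMonoidHom with hD'
  have hu' : ups ∈ D' := ⟨ups, hu, show (c : M) * ups * (c : M)⁻¹ = ups by rw [hcu, mul_inv_cancel_right]⟩
  have hf2 : ev L fW ∈ D' := ⟨(f' : M) ^ n, zpow_mem f'.2 n, by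
    show (c : M) * (f' : M) ^ n * (c : M)⁻¹ = _
    rw [hn']; group⟩
  obtain ⟨z, ⟨z0, hz0, rfl⟩, hz⟩ := three_five (D := D') hu' hf2 (g := (c : M) * g * (c : M)⁻¹) ⟨g, g.2, rfl⟩
    (Subgroup.mem_centralizer_singleton_iff.1 (conj_cent hcu (hD g.2)))
    (by
      rw [show (c : M) * g * (c : M)⁻¹ = MulAut.conj (c : M) (g : M) from rfl, MulEquiv.orderOf_eq,
        Subgroup.orderOf_coe, hg])
  exact hno' z0 hz0 (hz.trans (isConj_iff.2 ⟨(c : M)⁻¹, by
    show (c : M)⁻¹ * ((c : M) * z0 * (c : M)⁻¹) * (c : M)⁻¹⁻¹ = z0; group⟩))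

end CfsgLib.HSUniq.Cls

namespace CfsgLib.HSUniq

open Cfsg Cls

/-- The second class of involutions of the Higman–Sims group and its local facts. -/
theorem exists_second_class : ∃ (tau ups : Spor.HS) (v : Spor.HS), orderOf tau = 2 ∧ orderOf ups = 2 ∧
    Nat.card (Subgroup.centralizer ({tau} : Set Spor.HS)) = 7680 ∧
    Nat.card (Subgroup.centralizer ({ups} : Set Spor.HS)) = 2880 ∧
    (∀ x, orderOf x = 2 → IsConj tau x ∨ IsConj ups x) ∧
    v * ups = ups * v ∧ IsConj tau v ∧
    Nat.card (Subgroup.centralizer ({ups} : Set Spor.HS) ⊓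
      Subgroup.centralizer ({v} : Set Spor.HS) : Subgroup Spor.HS) = 64 ∧
    (∀ z, z * ups = ups * z → IsConj tau z →
      Nat.card (Subgroup.centralizer ({ups} : Set Spor.HS) ⊓
        Subgroup.centralizer ({z} : Set Spor.HS) : Subgroup Spor.HS) = 64 →
      ∃ y ∈ Subgroup.centralizer ({ups} : Set Spor.HS), y * v * y⁻¹ = z) ∧
    (∀ D ≤ Subgroup.centralizer ({ups} : Set Spor.HS), ups ∈ D → 45 ≤ Nat.card D →
      ∃ z ∈ D, IsConj tau z) := by
  obtain ⟨e⟩ := Cls.iso
  have hcent : ∀ a : M, (Subgroup.centralizer ({a} : Set M)).map e.toMonoidHom =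
      Subgroup.centralizer ({e a} : Set Spor.HS) := by
    intro a
    ext x
    obtain ⟨x, rfl⟩ := e.surjective x
    rw [Subgroup.mem_centralizer_singleton_iff, show e x = e.toMonoidHom x from rfl,
      Subgroup.mem_map_iff_mem e.injective, Subgroup.mem_centralizer_singleton_iff]
    show _ ↔ e x * e a = e a * e x
    rw [← map_mul, ← map_mul, e.injective.eq_iff]
  have hcard1 : ∀ a : M, Nat.card (Subgroup.centralizer ({e a} : Set Spor.HS)) =
      Nat.card (Subgroup.centralizer ({a} : Set M)) := fun a => by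
    rw [← hcent a, Subgroup.card_map_of_injective e.injective]
  have hcard2 : ∀ a b : M, Nat.card (Subgroup.centralizer ({e a} : Set Spor.HS) ⊓
      Subgroup.centralizer ({e b} : Set Spor.HS) : Subgroup Spor.HS) =
      Nat.card (Subgroup.centralizer ({a} : Set M) ⊓ Subgroup.centralizer ({b} : Set M) : Subgroup M) := fun a b => by
    rw [← hcent a, ← hcent b, ← Subgroup.map_inf _ _ _ e.injective, Subgroup.card_map_of_injective e.injective]
  have hconj : ∀ {a b : M}, IsConj (e a) (e b) ↔ IsConj a b := fun {a b} =>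
    ⟨fun h => by
      have := e.symm.toMonoidHom.map_isConj h
      simpa using this, fun h => e.toMonoidHom.map_isConj h⟩
  refine ⟨e tau, e ups, e tau, by rw [MulEquiv.orderOf_eq, orderOf_tau],
    by rw [MulEquiv.orderOf_eq, orderOf_ups], by rw [hcard1, cent_tau, card_HH],
    by rw [hcard1, card_ups], fun x hx => ?_, by rw [← map_mul, ← map_mul, ups_comm_tau],
    IsConj.refl _, by rw [hcard2, card_both], fun z hc hz hcard => ?_, fun D hD hu h45 => ?_⟩
  · obtain ⟨x, rfl⟩ := e.surjective x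
    rw [MulEquiv.orderOf_eq] at hx
    exact (classes hx).imp hconj.2 hconj.2
  · obtain ⟨z, rfl⟩ := e.surjective z
    rw [← map_mul, ← map_mul, e.injective.eq_iff] at hc
    rw [hcard2] at hcard
    rcases orbit_or (hconj.1 hz) hc with ⟨k, hk, hk'⟩ | h
    · refine ⟨e (yv k)⁻¹, ?_, ?_⟩
      · rw [Subgroup.mem_centralizer_singleton_iff, ← map_mul, ← map_mul, e.injective.eq_iff]
        exact (Commute.inv_left (yv_comm hk)).eq
      · rw [← map_inv, inv_inv, ← map_mul, ← map_mul, hk']
    · exact absurd hcard h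
  · set D0 := D.comap e.toMonoidHom with hD0
    have hle : D0 ≤ Subgroup.centralizer ({ups} : Set M) := fun x hx => by
      have := hD (show e x ∈ D from hx)
      rw [Subgroup.mem_centralizer_singleton_iff, ← map_mul, ← map_mul, e.injective.eq_iff] at this
      exact Subgroup.mem_centralizer_singleton_iff.2 this
    have hc : Nat.card D0 = Nat.card D := by
      have h1 : D0.map e.toMonoidHom = D := by
        rw [hD0]; exact Subgroup.map_comap_eq_self_of_surjective e.surjective D
      rw [← h1, Subgroup.card_map_of_injective e.injective]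
    obtain ⟨z, hz, hz'⟩ := large_has hle hu (hc ▸ h45)
    exact ⟨e z, hz, hconj.2 hz'⟩

end CfsgLib.HSUniq
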