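import Cfsg.Agent.Invol.Dihedral
import Mathlib.GroupTheory.Index
import Mathlib.GroupTheory.Subgroup.Simple
import Mathlib.Algebra.Order.BigOperators.Group.Finset

/-!
A finite group with a subgroup of Higman–Sims type containing the centralizer of an involution of
the first class equals that subgroup.
-/

set_option autoImplicit false
set_option linter.style.haveILetI false

namespace CfsgLib.HSUniq

open Subgroup

/-- What the closing argument uses about the two classes of involutions. -/
def TwoClasses (S : Type*) [Group S] : Prop :=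
  ∃ (τ ups v : S), orderOf τ = 2 ∧ orderOf ups = 2 ∧
    Nat.card (centralizer ({τ} : Set S)) = 7680 ∧
    Nat.card (centralizer ({ups} : Set S)) = 2880 ∧
    (∀ x : S, orderOf x = 2 → IsConj τ x ∨ IsConj ups x) ∧
    v * ups = ups * v ∧ IsConj τ v ∧
    Nat.card (centralizer ({ups} : Set S) ⊓ centralizer ({v} : Set S) : Subgroup S) = 64 ∧
    (∀ z : S, z * ups = ups * z → IsConj τ z →
      Nat.card (centralizer ({ups} : Set S) ⊓ centralizer ({z} : Set S) : Subgroup S) = 64 →
      ∃ y ∈ centralizer ({ups} : Set S), y * v * y⁻¹ = z) ∧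
    (∀ D : Subgroup S, D ≤ centralizer ({ups} : Set S) → ups ∈ D → 45 ≤ Nat.card D →
      ∃ z ∈ D, IsConj τ z)

section

variable {G : Type*} [Group G]

theorem centralizer_map_conj (g x : G) :
    (centralizer ({x} : Set G)).map (MulAut.conj g).toMonoidHom
      = centralizer ({g * x * g⁻¹} : Set G) := by
  ext z
  constructor
  · rintro ⟨y, hy, rfl⟩
    have hy' := mem_centralizer_singleton_iff.mp hy
    rw [mem_centralizer_singleton_iff, MulEquiv.coe_toMonoidHom, MulAut.conj_apply]
    calc g * y * g⁻¹ * (g * x * g⁻¹) = g * (y * x) * g⁻¹ := by group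
      _ = g * (x * y) * g⁻¹ := by rw [hy']
      _ = _ := by group
  · intro hz
    have hz' := mem_centralizer_singleton_iff.mp hz
    refine ⟨g⁻¹ * z * g, ?_, ?_⟩
    · rw [SetLike.mem_coe, mem_centralizer_singleton_iff]
      calc g⁻¹ * z * g * x = g⁻¹ * (z * (g * x * g⁻¹)) * g := by group
        _ = g⁻¹ * (g * x * g⁻¹ * z) * g := by rw [hz']
        _ = _ := by group
    · rw [MulEquiv.coe_toMonoidHom, MulAut.conj_apply]; group

theorem centralizer_le_of_conj {G₀ : Subgroup G} {x y : G} (h : centralizer ({x} : Set G) ≤ G₀)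
    (hy : ∃ a ∈ G₀, a * x * a⁻¹ = y) : centralizer ({y} : Set G) ≤ G₀ := by
  obtain ⟨a, ha, rfl⟩ := hy
  rw [← centralizer_map_conj]
  rintro _ ⟨b, hb, rfl⟩
  rw [MulEquiv.coe_toMonoidHom, MulAut.conj_apply]
  exact mul_mem (mul_mem ha (h hb)) (inv_mem ha)

theorem card_map_centralizer {S : Type*} [Group S] (f : S →* G) (hf : Function.Injective f)
    (x : S) :
    Nat.card (centralizer ({f x} : Set G) ⊓ f.range : Subgroup G)
      = Nat.card (centralizer ({x} : Set S)) := by
  have h : (centralizer ({x} : Set S)).map f = centralizer ({f x} : Set G) ⊓ f.range := by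
    ext z
    constructor
    · rintro ⟨a, ha, rfl⟩
      exact ⟨mem_centralizer_singleton_iff.mpr
        (by rw [← map_mul, ← map_mul, mem_centralizer_singleton_iff.mp ha]), a, rfl⟩
    · rintro ⟨hz, a, rfl⟩
      refine ⟨a, mem_centralizer_singleton_iff.mpr (hf ?_), rfl⟩
      rw [map_mul, map_mul]
      exact mem_centralizer_singleton_iff.mp hz
  rw [← h]
  exact Nat.card_congr ((centralizer ({x} : Set S)).equivMapOfInjective f hf).toEquiv.symm

theorem card_map_inf {S : Type*} [Group S] (f : S →* G) (hf : Function.Injective f) (x y : S) :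
    Nat.card (centralizer ({f x} : Set G) ⊓ centralizer ({f y} : Set G) ⊓ f.range : Subgroup G)
      = Nat.card (centralizer ({x} : Set S) ⊓ centralizer ({y} : Set S) : Subgroup S) := by
  have h : (centralizer ({x} : Set S) ⊓ centralizer ({y} : Set S)).map f
      = centralizer ({f x} : Set G) ⊓ centralizer ({f y} : Set G) ⊓ f.range := by
    ext z
    constructor
    · rintro ⟨a, ⟨ha, hb⟩, rfl⟩
      exact ⟨⟨mem_centralizer_singleton_iff.mpr
        (by rw [← map_mul, ← map_mul, mem_centralizer_singleton_iff.mp ha]),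
        mem_centralizer_singleton_iff.mpr
        (by rw [← map_mul, ← map_mul, mem_centralizer_singleton_iff.mp hb])⟩, a, rfl⟩
    · rintro ⟨⟨hz, hz'⟩, a, rfl⟩
      refine ⟨a, ⟨mem_centralizer_singleton_iff.mpr (hf ?_),
        mem_centralizer_singleton_iff.mpr (hf ?_)⟩, rfl⟩
      · rw [map_mul, map_mul]
        exact mem_centralizer_singleton_iff.mp hz
      · rw [map_mul, map_mul]
        exact mem_centralizer_singleton_iff.mp hz'
  rw [← h]
  exact Nat.card_congr
    ((centralizer ({x} : Set S) ⊓ centralizer ({y} : Set S)).equivMapOfInjective f hf).toEquiv.symm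

/-- The class of `v` in `Y` is the index of its centralizer in `Y`. -/
theorem card_class [Finite G] (Y : Subgroup G) {v : G} (T : Finset G)
    (hT : ∀ z, z ∈ T ↔ ∃ y ∈ Y, y * v * y⁻¹ = z) :
    T.card * Nat.card (Y ⊓ centralizer ({v} : Set G) : Subgroup G) = Nat.card Y := by
  classical
  letI : Fintype Y := Fintype.ofFinite Y
  let φ : Y → G := fun y => (y : G) * v * (y : G)⁻¹
  have hmap : ∀ y ∈ (Finset.univ : Finset Y), φ y ∈ T :=
    fun y _ => (hT _).mpr ⟨y, y.2, rfl⟩
  rw [Nat.card_eq_fintype_card (α := Y), ← Finset.card_univ,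
    Finset.card_eq_sum_card_fiberwise hmap,
    Finset.sum_const_nat (m := Nat.card (Y ⊓ centralizer ({v} : Set G) : Subgroup G))]
  intro z hz
  obtain ⟨y, hy, rfl⟩ := (hT z).mp hz
  rw [← Fintype.card_coe, ← Nat.card_eq_fintype_card]
  refine Nat.card_congr
    { toFun := fun a => ⟨y⁻¹ * ((a : Y) : G), mem_inf.mpr ⟨?_, ?_⟩⟩
      invFun := fun c => ⟨⟨y * (c : G), mul_mem hy (mem_inf.mp c.2).1⟩, ?_⟩
      left_inv := fun a => by ext; simp
      right_inv := fun c => by ext; simp }
  · exact mul_mem (inv_mem hy) (a : Y).2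
  · have h := (Finset.mem_filter.mp a.2).2
    rw [mem_centralizer_singleton_iff]
    calc y⁻¹ * ((a : Y) : G) * v = y⁻¹ * φ (a : Y) * ((a : Y) : G) := by
            simp only [φ]; group
      _ = y⁻¹ * (y * v * y⁻¹) * ((a : Y) : G) := by rw [h]
      _ = _ := by group
  · have h := mem_centralizer_singleton_iff.mp c.2.2
    refine Finset.mem_filter.mpr ⟨Finset.mem_univ _, ?_⟩
    simp only [φ]
    calc y * (c : G) * v * (y * (c : G))⁻¹ = y * ((c : G) * v) * (c : G)⁻¹ * y⁻¹ := by group
      _ = y * (v * (c : G)) * (c : G)⁻¹ * y⁻¹ := by rw [h]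
      _ = _ := by group

/-- Among the fibers over the cosets other than `H` itself, one is at least as big as the fiber
over `H`, if the whole is the fiber over `H` times the index. -/
theorem exists_big_coset [Finite G] {H Y : Subgroup G} (hHY : H ≤ Y) (hne : H ≠ Y) (T : Finset G)
    (hTY : ∀ z ∈ T, z ∈ Y) (k : ℕ) (hk : 0 < k)
    (hTH : Nat.card {z // z ∈ T ∧ z ∈ H} = k)
    (hT : T.card * Nat.card H = k * Nat.card Y) :
    ∃ i ∈ T, i ∉ H ∧ k ≤ Nat.card {z // z ∈ T ∧ i⁻¹ * z ∈ H} := by
  classical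
  let Q := T.image (fun z : G => (QuotientGroup.mk z : G ⧸ H))
  have hfib : ∀ i : G, Nat.card {z // z ∈ T ∧ i⁻¹ * z ∈ H}
      = (T.filter fun z => (QuotientGroup.mk z : G ⧸ H) = QuotientGroup.mk i).card := by
    intro i
    rw [← Fintype.card_coe, ← Nat.card_eq_fintype_card]
    refine Nat.card_congr (Equiv.subtypeEquivRight fun z => ?_)
    rw [Finset.mem_filter, eq_comm, QuotientGroup.eq]
  have hone : (T.filter fun z => (QuotientGroup.mk z : G ⧸ H) = QuotientGroup.mk 1).card = k := by
    rw [← hfib 1, ← hTH]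
    exact Nat.card_congr (Equiv.subtypeEquivRight fun z => by simp)
  by_contra hcon
  simp only [not_exists, not_and, not_le] at hcon
  have hlt : ∀ q ∈ Q, q ≠ QuotientGroup.mk 1 →
      (T.filter fun z => (QuotientGroup.mk z : G ⧸ H) = q).card < k := by
    intro q hq hq1
    obtain ⟨i, hi, rfl⟩ := Finset.mem_image.mp hq
    rw [← hfib i]
    refine hcon i hi fun hiH => hq1 ?_
    rw [QuotientGroup.eq, mul_one]
    exact inv_mem hiH
  -- the cosets meeting `T` lie in `Y`
  have hQ : Q.card * Nat.card H ≤ Nat.card Y := by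
    have h1 : (Finset.univ : Finset Q).card = Q.card := by simp
    let g : Q × H → Y := fun p =>
      ⟨((Finset.mem_image.mp p.1.2).choose) * (p.2 : G),
        mul_mem (hTY _ (Finset.mem_image.mp p.1.2).choose_spec.1) (hHY p.2.2)⟩
    have hg : Function.Injective g := by
      rintro ⟨q, a⟩ ⟨q', a'⟩ h
      have h' : ((Finset.mem_image.mp q.2).choose) * (a : G)
          = ((Finset.mem_image.mp q'.2).choose) * (a' : G) := congrArg Subtype.val h
      have hq : (q : G ⧸ H) = (q' : G ⧸ H) := by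
        rw [← (Finset.mem_image.mp q.2).choose_spec.2, ← (Finset.mem_image.mp q'.2).choose_spec.2,
          ← QuotientGroup.mk_mul_of_mem _ a.2, h', QuotientGroup.mk_mul_of_mem _ a'.2]
      obtain rfl : q = q' := Subtype.ext hq
      simp only [mul_right_inj] at h'
      rw [Subtype.ext h']
    have h2 := Nat.card_le_card_of_injective g hg
    rwa [Nat.card_prod, Nat.card_eq_fintype_card (α := Q), Fintype.card_coe] at h2
  have hsum : T.card = ∑ q ∈ Q, (T.filter fun z => (QuotientGroup.mk z : G ⧸ H) = q).card :=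
    Finset.card_eq_sum_card_fiberwise fun z hz => Finset.mem_image_of_mem _ hz
  have hY0 : 0 < Nat.card Y := Nat.card_pos
  have hH0 : 0 < Nat.card H := Nat.card_pos
  have hHltY : Nat.card H < Nat.card Y := by
    by_contra hle
    exact hne (eq_of_le_of_card_ge hHY (not_lt.mp hle))
  have hle : T.card ≤ k * Q.card := by
    rw [hsum, mul_comm, ← smul_eq_mul]
    refine Finset.sum_le_card_nsmul _ _ _ fun q hq => ?_
    rcases eq_or_ne q (QuotientGroup.mk 1) with rfl | hq1
    · exact hone.le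
    · exact (hlt q hq hq1).le
  rcases eq_or_lt_of_le hQ with hQe | hQl
  · have hstrict : T.card < k * Q.card := by
      rw [hsum, mul_comm, ← smul_eq_mul, ← Finset.sum_const]
      have hex : ∃ q ∈ Q, q ≠ (QuotientGroup.mk 1 : G ⧸ H) := by
        by_contra hno
        simp only [not_exists, not_and, ne_eq, not_not] at hno
        have : Q.card ≤ 1 := Finset.card_le_one.mpr fun a ha b hb => (hno a ha).trans (hno b hb).symm
        nlinarith
      obtain ⟨q, hq, hq1⟩ := hex
      refine Finset.sum_lt_sum (fun r hr => ?_) ⟨q, hq, hlt q hq hq1⟩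
      rcases eq_or_ne r (QuotientGroup.mk 1) with rfl | hr1
      · exact hone.le
      · exact (hlt r hr hr1).le
    have := Nat.mul_lt_mul_of_pos_right hstrict hH0
    rw [hT, mul_assoc, hQe] at this
    exact lt_irrefl _ this
  · have := Nat.mul_le_mul_right (Nat.card H) hle
    rw [hT, mul_assoc] at this
    exact absurd (Nat.le_of_mul_le_mul_left this hk) (not_le.mpr hQl)

end

variable {G : Type*} [Group G] [Finite G] {S : Type*} [Group S]

theorem eq_top_of_twoClasses [IsSimpleGroup S] (hS : TwoClasses S) (G₀ : Subgroup G) (e : S ≃* G₀)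
    (t : G) (ht : orderOf t = 2) (hC : centralizer ({t} : Set G) ≤ G₀)
    (hcard : Nat.card (centralizer ({t} : Set G)) = 7680) : G₀ = ⊤ := by
  classical
  obtain ⟨τ, ups, v, hτ, hu, hτc, huc, hcls, hvu, hτv, hvc, hvcls, hD⟩ := hS
  set f : S →* G := G₀.subtype.comp e.toMonoidHom with hfdef
  have hf : Function.Injective f := G₀.subtype_injective.comp e.injective
  have hrange : f.range = G₀ := by
    rw [hfdef, MonoidHom.range_comp]
    have : e.toMonoidHom.range = ⊤ := MonoidHom.range_eq_top.mpr e.surjective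
    rw [this, ← MonoidHom.range_eq_map, G₀.range_subtype]
  have hmem : ∀ a, f a ∈ G₀ := fun a => hrange ▸ ⟨a, rfl⟩
  have hlift : ∀ x ∈ G₀, ∃ a, f a = x := fun x hx => MonoidHom.mem_range.mp (hrange.symm ▸ hx)
  have hconj : ∀ a b, IsConj a b → ∃ g ∈ G₀, g * f a * g⁻¹ = f b := by
    intro a b hab
    obtain ⟨c, rfl⟩ := isConj_iff.mp hab
    exact ⟨f c, hmem c, by rw [map_mul, map_mul, map_inv]⟩
  -- `t` is of the first class
  obtain ⟨a, rfl⟩ := hlift t (hC (mem_centralizer_singleton_iff.mpr rfl))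
  have haτ : IsConj τ a := by
    rcases hcls a (by rwa [orderOf_injective f hf] at ht) with h | h
    · exact h
    · exfalso
      obtain ⟨c, hc⟩ := isConj_iff.mp h
      have h1 := card_map_centralizer f hf a
      rw [hrange, inf_eq_left.mpr hC, hcard, ← hc, ← centralizer_map_conj,
        card_map_of_injective (MulAut.conj c).injective, huc] at h1
      omega
  have hτC : centralizer ({f τ} : Set G) ≤ G₀ := centralizer_le_of_conj hC (hconj a τ haτ.symm)
  have hτcard : Nat.card (centralizer ({f τ} : Set G)) = 7680 := by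
    rw [← inf_eq_left.mpr hτC, ← hrange, card_map_centralizer f hf, hτc]
  -- the second class is not fused to it
  have hnot : ∀ g : G, g * f τ * g⁻¹ ≠ f ups := by
    intro g hg
    have h1 : Nat.card (centralizer ({f ups} : Set G)) = 7680 := by
      rw [← hg, ← centralizer_map_conj, card_map_of_injective (MulAut.conj g).injective, hτcard]
    have h2 : 2880 ∣ 7680 := by
      rw [← huc, ← card_map_centralizer f hf ups, ← h1]
      exact card_dvd_of_le inf_le_left
    omega
  have hfuse : ∀ b : S, orderOf b = 2 → (∃ g : G, g * f τ * g⁻¹ = f b) → IsConj τ b := by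
    intro b hb ⟨g, hg⟩
    rcases hcls b hb with h | h
    · exact h
    · obtain ⟨c, hc, hc'⟩ := hconj b ups h.symm
      exact absurd (by rw [← hc', ← hg]; group) (hnot (c * g))
  have hord : ∀ b : S, IsConj τ b → orderOf b = 2 := by
    intro b hb
    obtain ⟨c, rfl⟩ := isConj_iff.mp hb
    rw [Invol.orderOf_conj_eq, hτ]
  have hcl : ∀ z ∈ G₀, (∃ g : G, g * f τ * g⁻¹ = z) →
      ∃ b, f b = z ∧ IsConj τ b ∧ centralizer ({z} : Set G) ≤ G₀ := by
    intro z hz ⟨g, hg⟩
    obtain ⟨b, rfl⟩ := hlift z hz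
    have hb : orderOf b = 2 := by
      rw [← orderOf_injective f hf b, ← hg, Invol.orderOf_conj_eq, orderOf_injective f hf, hτ]
    exact ⟨b, rfl, hfuse b hb ⟨g, hg⟩, centralizer_le_of_conj hτC (hconj _ _ (hfuse b hb ⟨g, hg⟩))⟩
  -- the centralizer of the second class
  have huC : centralizer ({f ups} : Set G) ≤ G₀ := by
    by_contra hnle
    set Y := centralizer ({f ups} : Set G) with hY
    have hvY : f v ∈ Y := mem_centralizer_singleton_iff.mpr (by rw [← map_mul, ← map_mul, hvu])
    have hvG : ∃ g : G, g * f τ * g⁻¹ = f v := by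
      obtain ⟨g, -, hg⟩ := hconj τ v hτv
      exact ⟨g, hg⟩
    have hY0 : Nat.card (Y ⊓ G₀ : Subgroup G) = 2880 := by
      rw [hY, ← hrange, card_map_centralizer f hf, huc]
    have hYv : Nat.card (Y ⊓ centralizer ({f v} : Set G) : Subgroup G) = 64 := by
      obtain ⟨b, -, -, hle⟩ := hcl _ (hmem v) hvG
      rw [← inf_eq_left.mpr ((inf_le_right (a := Y)).trans hle), hY, ← hrange,
        card_map_inf f hf, hvc]
    obtain ⟨T, hT⟩ : ∃ T : Finset G, ∀ z, z ∈ T ↔ ∃ y ∈ Y, y * f v * y⁻¹ = z :=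
      ⟨(Set.toFinite {z : G | ∃ y ∈ Y, y * f v * y⁻¹ = z}).toFinset, fun z => by simp⟩
    obtain ⟨T₀, hT₀⟩ : ∃ T₀ : Finset G, ∀ z, z ∈ T₀ ↔ ∃ y ∈ Y ⊓ G₀, y * f v * y⁻¹ = z :=
      ⟨(Set.toFinite {z : G | ∃ y ∈ Y ⊓ G₀, y * f v * y⁻¹ = z}).toFinset, fun z => by simp⟩
    have hT₀card : T₀.card = 45 := by
      have h := card_class (Y ⊓ G₀) T₀ hT₀
      have h64 : Nat.card ((Y ⊓ G₀) ⊓ centralizer ({f v} : Set G) : Subgroup G) = 64 := by
        rw [inf_right_comm, hY, ← hrange, card_map_inf f hf, hvc]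
      rw [h64, hY0] at h
      omega
    have hTG : ∀ z ∈ T, z ∈ G₀ → z ∈ T₀ := by
      intro z hzT hzG
      obtain ⟨y, hy, rfl⟩ := (hT z).mp hzT
      obtain ⟨g, hg⟩ := hvG
      obtain ⟨b, hb, hbτ, hle⟩ := hcl _ hzG ⟨y * g, by rw [← hg]; group⟩
      have hzu : y * f v * y⁻¹ ∈ Y := mul_mem (mul_mem hy hvY) (inv_mem hy)
      have h64 : Nat.card (centralizer ({ups} : Set S) ⊓ centralizer ({b} : Set S) : Subgroup S)
          = 64 := by
        rw [← card_map_inf f hf, hrange, hb, ← hY, inf_eq_left.mpr (inf_le_right.trans hle), ← hYv]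
        have hYmap : Y.map (MulAut.conj y).toMonoidHom = Y := by
          refine le_antisymm ?_ fun w hw => ⟨y⁻¹ * w * y, mul_mem (mul_mem (inv_mem hy) hw) hy,
            by rw [MulEquiv.coe_toMonoidHom, MulAut.conj_apply]; group⟩
          rintro _ ⟨w, hw, rfl⟩
          exact mul_mem (mul_mem hy hw) (inv_mem hy)
        conv_lhs => rw [← hYmap, ← centralizer_map_conj, ← map_inf _ _ _ (MulAut.conj y).injective]
        exact card_map_of_injective (MulAut.conj y).injective
      obtain ⟨c, hc, hcv⟩ := hvcls b (hf (by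
        rw [map_mul, map_mul, hb]; exact mem_centralizer_singleton_iff.mp hzu)) hbτ h64
      refine (hT₀ _).mpr ⟨f c, ⟨mem_centralizer_singleton_iff.mpr (by
        rw [← map_mul, ← map_mul, mem_centralizer_singleton_iff.mp hc]), hmem c⟩, ?_⟩
      rw [← hb, ← hcv, map_mul, map_mul, map_inv]
    have hTY : ∀ z ∈ T, z ∈ Y := by
      intro z hz
      obtain ⟨y, hy, rfl⟩ := (hT z).mp hz
      exact mul_mem (mul_mem hy hvY) (inv_mem hy)
    have hfilter : Nat.card {z // z ∈ T ∧ z ∈ Y ⊓ G₀} = 45 := by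
      rw [← hT₀card, ← Fintype.card_coe, ← Nat.card_eq_fintype_card]
      refine Nat.card_congr (Equiv.subtypeEquivRight fun z => ⟨fun h => hTG z h.1 h.2.2, fun h => ?_⟩)
      obtain ⟨y, hy, rfl⟩ := (hT₀ z).mp h
      have hy1 := (mem_inf.mp hy).1
      have hy2 := (mem_inf.mp hy).2
      exact ⟨(hT _).mpr ⟨y, hy1, rfl⟩, mem_inf.mpr ⟨mul_mem (mul_mem hy1 hvY) (inv_mem hy1),
        mul_mem (mul_mem hy2 (hmem v)) (inv_mem hy2)⟩⟩
    have hTcard : T.card * Nat.card (Y ⊓ G₀ : Subgroup G) = 45 * Nat.card Y := by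
      rw [← card_class Y T hT, hYv, hY0]
      ring
    obtain ⟨i, hiT, hiG, hbig⟩ := exists_big_coset (inf_le_left : Y ⊓ G₀ ≤ Y)
      (fun h => hnle (h ▸ inf_le_right)) T hTY 45 (by norm_num) hfilter hTcard
    have hiY := hTY i hiT
    have hiG₀ : i ∉ G₀ := fun h => hiG ⟨hiY, h⟩
    have hi2 : ∀ z ∈ T, z * z = 1 := by
      intro z hz
      obtain ⟨y, -, rfl⟩ := (hT z).mp hz
      exact Invol.mul_self_eq_one (by
        rw [Invol.orderOf_conj_eq, orderOf_injective f hf, hord v hτv])
    have hiinv : i⁻¹ = i := inv_eq_of_mul_eq_one_right (hi2 i hiT)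
    -- `D` is the meet of `Y ⊓ G₀` with its image under `i`
    set D := (Y ⊓ G₀) ⊓ (Y ⊓ G₀).comap (MulAut.conj i).toMonoidHom with hDdef
    have hDmem : ∀ w ∈ T, i⁻¹ * w ∈ Y ⊓ G₀ → i * w ∈ D := by
      intro w hwT hw
      rw [hiinv] at hw
      refine mem_inf.mpr ⟨hw, ?_⟩
      rw [mem_comap, MulEquiv.coe_toMonoidHom, MulAut.conj_apply]
      have hwinv : w⁻¹ = w := inv_eq_of_mul_eq_one_right (hi2 _ hwT)
      have : i * (i * w) * i⁻¹ = (i * w)⁻¹ := by
        rw [mul_inv_rev, hwinv, hiinv, ← mul_assoc i i, hi2 i hiT, one_mul]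
      exact this ▸ inv_mem hw
    have hDcard : 45 ≤ Nat.card D :=
      hbig.trans (Nat.card_le_card_of_injective
        (fun z : {z // z ∈ T ∧ i⁻¹ * z ∈ Y ⊓ G₀} =>
          (⟨i * (z : G), hDmem _ z.2.1 z.2.2⟩ : D))
        fun z z' h => Subtype.ext (mul_left_cancel (congrArg Subtype.val h)))
    have hDle : D ≤ f.range := hrange.symm ▸ inf_le_left.trans inf_le_right
    have hDcard' : 45 ≤ Nat.card (D.comap f) := by
      rw [← card_map_of_injective hf, map_comap_eq, inf_eq_right.mpr hDle]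
      exact hDcard
    have huD : f ups ∈ D := by
      refine mem_inf.mpr ⟨mem_inf.mpr ⟨mem_centralizer_singleton_iff.mpr rfl, hmem ups⟩, ?_⟩
      rw [mem_comap, MulEquiv.coe_toMonoidHom, MulAut.conj_apply,
        mem_centralizer_singleton_iff.mp hiY, mul_inv_cancel_right]
      exact ⟨mem_centralizer_singleton_iff.mpr rfl, hmem ups⟩
    obtain ⟨z, hzD, hzτ⟩ := hD (D.comap f) (fun w hw => mem_centralizer_singleton_iff.mpr (hf (by
      rw [map_mul, map_mul]; exact mem_centralizer_singleton_iff.mp (mem_comap.mp hw).1.1)))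
      huD hDcard'
    obtain ⟨g, hgG, hg⟩ := hconj τ z hzτ
    have hw : i * f z * i⁻¹ ∈ G₀ := (mem_comap.mp hzD).2.2
    obtain ⟨b, hb, hbτ, -⟩ := hcl _ hw ⟨i * g, by rw [← hg]; group⟩
    obtain ⟨g', hg'G, hg'⟩ := hconj z b (hzτ.symm.trans hbτ)
    rw [hb] at hg'
    have hcz : g'⁻¹ * i ∈ centralizer ({f z} : Set G) := by
      rw [mem_centralizer_singleton_iff]
      calc g'⁻¹ * i * f z = g'⁻¹ * (i * f z * i⁻¹) * i := by group
        _ = g'⁻¹ * (g' * f z * g'⁻¹) * i := by rw [hg']
        _ = _ := by group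
    have := centralizer_le_of_conj hτC (hconj τ z hzτ) hcz
    exact hiG₀ (by simpa using mul_mem hg'G this)
  -- all involutions of `G₀` have their centralizers inside
  have hall : ∀ z ∈ G₀, orderOf z = 2 → centralizer ({z} : Set G) ≤ G₀ := by
    intro z hz hz2
    obtain ⟨b, rfl⟩ := hlift z hz
    rw [orderOf_injective f hf] at hz2
    rcases hcls b hz2 with h | h
    · exact centralizer_le_of_conj hτC (hconj _ _ h)
    · exact centralizer_le_of_conj huC (hconj _ _ h)
  -- the class of the second involution stays inside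
  have hNle : normalClosure ({f ups} : Set G) ≤ G₀ := by
    rw [normalClosure, closure_le]
    intro w hw
    obtain ⟨x, hx, hxw⟩ := Group.mem_conjugatesOfSet_iff.mp hw
    obtain ⟨g, rfl⟩ := isConj_iff.mp ((Set.mem_singleton_iff.mp hx) ▸ hxw)
    have ht' : orderOf (f τ) = 2 := by rw [orderOf_injective f hf, hτ]
    have hg2 : orderOf (g * f ups * g⁻¹) = 2 := by
      rw [Invol.orderOf_conj_eq, orderOf_injective f hf, hu]
    obtain ⟨z, hz2, hzt, hzu⟩ := Invol.exists_commuting_invol ht' hg2 fun h => by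
      obtain ⟨c, hc⟩ := isConj_iff.mp h
      refine hnot (g⁻¹ * c) ?_
      calc g⁻¹ * c * f τ * (g⁻¹ * c)⁻¹ = g⁻¹ * (c * f τ * c⁻¹) * g := by group
        _ = g⁻¹ * (g * f ups * g⁻¹) * g := by rw [hc]
        _ = _ := by group
    exact hall z (hτC (mem_centralizer_singleton_iff.mpr hzt.eq)) hz2
      (mem_centralizer_singleton_iff.mpr hzu.eq.symm)
  have hNeq : normalClosure ({f ups} : Set G) = G₀ := by
    refine le_antisymm hNle ?_
    haveI : (comap f (normalClosure ({f ups} : Set G))).Normal := inferInstance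
    have hmemN : ups ∈ comap f (normalClosure ({f ups} : Set G)) :=
      mem_comap.mpr (subset_normalClosure rfl)
    rcases Subgroup.Normal.eq_bot_or_eq_top (H := comap f (normalClosure ({f ups} : Set G)))
      inferInstance with h | h
    · rw [h, mem_bot] at hmemN
      exact absurd hmemN (Invol.ne_one hu)
    · intro w hw
      obtain ⟨c, rfl⟩ := hlift w hw
      exact mem_comap.mp (h ▸ mem_top c)
  haveI : G₀.Normal := hNeq ▸ normalClosure_normal
  refine eq_top_iff.mpr fun g _ => ?_
  have hgt : g * f τ * g⁻¹ ∈ G₀ := Subgroup.Normal.conj_mem inferInstance _ (hmem τ) g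
  obtain ⟨b, hb, hbτ, -⟩ := hcl _ hgt ⟨g, rfl⟩
  obtain ⟨c, hcG, hc⟩ := hconj τ b hbτ
  rw [hb] at hc
  have hcC : c⁻¹ * g ∈ centralizer ({f τ} : Set G) := by
    rw [mem_centralizer_singleton_iff]
    calc c⁻¹ * g * f τ = c⁻¹ * (g * f τ * g⁻¹) * g := by group
      _ = c⁻¹ * (c * f τ * c⁻¹) * g := by rw [hc]
      _ = _ := by group
  simpa using mul_mem hcG (hτC hcC)

end CfsgLib.HSUniq
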