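import Mathlib.Data.List.Basic

/-! Relators of the amalgam of `4^3:L₃(2)` and an involution centralizer `(4 * 2^(1+4)).S₅`. -/

set_option autoImplicit false
set_option maxRecDepth 100000

namespace CfsgLib.HSUniq

/-- The inverse of a letter: letters `2 i` and `2 i + 1` are a generator and its inverse. -/
def iv (x : Nat) : Nat := ([1, 0, 3, 2, 5, 4, 7, 6, 9, 8, 11, 10, 13, 12, 15, 14] : List Nat).getD x x

/-- The inverse of a letter of the involution centralizer. -/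
def ivC (x : Nat) : Nat := ([1, 0, 3, 2, 5, 4, 7, 6, 9, 8, 11, 10, 13, 12] : List Nat).getD x x

/-- The pairs of inverse letters. -/
def relsI : List (List Nat) := [[0, 1], [1, 0], [2, 3], [3, 2], [4, 5], [5, 4], [6, 7], [7, 6], [8, 9], [9, 8], [10, 11], [11, 10], [12, 13], [13, 12], [14, 15], [15, 14]]

/-- The relators of the common part. -/
def relsB : List (List Nat) := [[0, 0, 0, 0], [2, 2, 2, 2], [4, 4, 4, 4], [0, 2, 1, 3], [0, 4, 1, 5], [2, 4, 3, 5], [6, 0, 7, 0, 2], [6, 2, 7, 2, 2, 2], [6, 4, 7, 2, 2, 2, 4], [8, 0, 9, 2, 4, 4, 4], [8, 2, 9, 2, 4, 4], [8, 4, 9, 0, 2, 2, 4, 4, 4], [10, 0, 11, 2, 2, 2, 4], [10, 2, 11, 2], [10, 4, 11, 0, 2], [6, 6], [8, 8, 8], [6, 8, 6, 9, 6, 8, 6, 9], [6, 8, 6, 9, 8, 8, 6, 9, 9], [10, 8, 11, 8], [10, 10], [10, 6, 11, 7]]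

/-- The further relators of the involution centralizer. -/
def relsH : List (List Nat) := [[14, 14, 14, 14, 14], [14, 0, 0, 3, 4, 4, 15, 5, 5, 2, 1, 1], [14, 6, 15, 1, 1], [14, 0, 0, 15, 0, 7, 1], [14, 4, 4, 15, 9, 7, 8, 3], [14, 8, 6, 9, 15, 5, 5, 1, 1], [6, 9, 10, 4, 14, 5, 11, 8, 7, 15, 15], [15, 6, 8, 4, 14, 8]]

/-- The relators of the normalizer `4^3:L₃(2)` of a four group. -/
def relsM : List (List Nat) := [[0, 0, 0, 0], [2, 2, 2, 2], [4, 4, 4, 4], [0, 2, 1, 3], [0, 4, 1, 5], [2, 4, 3, 5], [6, 0, 7, 0, 2], [6, 2, 7, 2, 2, 2], [6, 4, 7, 2, 2, 2, 4], [8, 0, 9, 2, 4, 4, 4], [8, 2, 9, 2, 4, 4], [8, 4, 9, 0, 2, 2, 4, 4, 4], [10, 0, 11, 2, 2, 2, 4], [10, 2, 11, 2], [10, 4, 11, 0, 2], [6, 6], [8, 8, 8], [6, 8, 6, 9, 6, 8, 6, 9], [6, 8, 6, 9, 8, 8, 6, 9, 9], [10, 8, 11, 8], [10, 10], [10, 6, 11, 7], [12, 12, 12, 12, 12, 12, 12], [8, 12, 9, 13, 13], [12, 0, 13, 0,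 2, 2, 4, 4, 4], [12, 2, 13, 0, 0, 0, 2, 2, 2, 4, 4, 4], [12, 4, 13, 0, 0, 0, 2, 4, 4], [13, 6, 12, 7, 9, 11, 7], [13, 10, 12, 9, 9, 7, 9]]

/-- The relator of the Higman-Sims group. -/
def relGood : List Nat := [13, 14, 14, 14, 14, 8, 12, 2, 8, 15, 13, 9, 15, 15, 15, 15, 12, 15, 7, 4, 15]

/-- The relator of the other candidate. -/
def relBad : List Nat := [13, 14, 14, 14, 14, 8, 12, 2, 8, 15, 13, 9, 15, 15, 15, 15, 12, 14, 9, 3]

/-- The letters of the involution centralizer among the sixteen. -/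
def lettersH : List Nat := [0, 1, 2, 3, 4, 5, 6, 7, 8, 9, 10, 11, 14, 15]

end CfsgLib.HSUniq
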