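import Cfsg.Agent.Coset.Table
import Cfsg.Agent.HSUniq.Data
import Cfsg.Agent.HSUniq.TGData

/-! The checks of a coset table. -/

set_option autoImplicit false
set_option maxRecDepth 100000
set_option Elab.async false

namespace CfsgLib.HSUniq.TG

open CfsgLib.Coset

theorem hR : checkRules rels subs R = true := by decide +kernel
theorem hdefs : checkDefs E 16 13 6887 = true := by decide +kernel
theorem hsteps : checkChunks E HSUniq.iv R 16 10 6887 692 C = true := by decide +kernel
theorem htable : checkTable E HSUniq.iv (6887 + chunk * 692) 5775 16 13 4 Rep Ref Tb = true := by decide +kernel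

end CfsgLib.HSUniq.TG
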