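import Cfsg.Agent.HSUniq.CertH
import Cfsg.Agent.HSUniq.TG

/-!
With the good relator, the involution centralizer has index at most 5775 in the group on the sixteen
letters, which thus has order at most 44352000.
-/

set_option autoImplicit false
set_option maxRecDepth 100000

namespace CfsgLib.HSUniq

open CfsgLib.Coset

/-- Sixteen letters satisfying the relators of the Higman–Sims group. -/
structure RelsG {G : Type*} [Group G] (L : List G) : Prop where
  len : L.length = 16
  rel : ∀ w ∈ relsI ++ relsM ++ relsH ++ [relGood], ev L w = 1

theorem levelG : checkLevel (relsI ++ relsM ++ relsH ++ [relGood]) 16 (List.range 16) gensH TG.rels TG.subs =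
    true := by decide +kernel

theorem levelG_sub : ((relsI ++ relsB ++ relsH).all fun w =>
    (relsI ++ relsM ++ relsH ++ [relGood]).contains w) = true := by decide +kernel

variable {G : Type*} [Group G] {L : List G}

theorem RelsG.toC (h : RelsG L) : RelsC L :=
  ⟨h.len, fun w hw => h.rel w (List.contains_iff_mem.1 (List.all_eq_true.1 levelG_sub w hw))⟩

theorem RelsG.table (h : RelsG L) : TableOK L (genBy L gensH) TG.E iv 5775 TG.Rep TG.Tb := by
  have hrel := level_rels h.len levelG h.rel
  have hsub := level_subs h.len levelG
  rw [show List.range 16 = List.range L.length by rw [h.len], lv_range] at hrel hsub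
  exact tableOK_of_check h.toC.inv TG.hR (h.len.symm ▸ TG.hdefs) (h.len.symm ▸ TG.hsteps)
    (h.len.symm ▸ TG.htable) hrel hsub

/-- The index of the involution centralizer is at most 5775. -/
theorem RelsG.relIndex_le (h : RelsG L) :
    (genBy L lettersH).relIndex (Subgroup.closure {x | x ∈ L}) ≤ 5775 ∧
      (genBy L lettersH).relIndex (Subgroup.closure {x | x ∈ L}) ≠ 0 := by
  have := h.table.relIndex_le (by decide)
  rwa [h.toC.genBy_gensH] at this

theorem genBy_le_closure (L : List G) (S : List Nat) : genBy L S ≤ Subgroup.closure {x | x ∈ L} := by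
  refine (Subgroup.closure_le _).2 ?_
  rintro x hx
  obtain ⟨l, -, rfl⟩ := List.mem_map.1 hx
  exact mem_closure_fl l

/-- The group has order at most 44352000. -/
theorem RelsG.card_le (h : RelsG L) :
    Finite (Subgroup.closure {x | x ∈ L} : Subgroup G) ∧
      Nat.card (Subgroup.closure {x | x ∈ L} : Subgroup G) ≤ 44352000 := by
  obtain ⟨hf, hc⟩ := h.toC.card_le
  rw [← h.toC.genBy_gensH] at hf hc
  exact h.table.finite_card_le (by decide) (genBy_le_closure L gensH) hf hc

end CfsgLib.HSUniq
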