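import Cfsg.Agent.HSUniq.ImageCodes
import Cfsg.Agent.HSUniq.CertGood
import Cfsg.Agent.HSMult.Cover

/-!
Sixteen elements of the Higman–Sims group satisfying the good relators and generating it; a nontrivial
group generated by sixteen elements satisfying them is the Higman–Sims group.
-/

set_option autoImplicit false
set_option maxRecDepth 100000

namespace CfsgLib.HSUniq

open Cfsg CfsgLib.Coset CfsgLib.Co0Model CfsgLib.OutConway

attribute [local irreducible] slpN slpG mmul oneCode CfsgLib.Leech.shortVecs CfsgLib.Leech.halfTable CfsgLib.Leech.quarterTable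

/-- The stabiliser is the group of the list. -/
def toSpor : Hundred.H ≃* Spor.HS where
  toFun g := ⟨g.1.1, ⟨g.1.2, g.2.1⟩, g.2.2⟩
  invFun g := ⟨⟨g.1, g.2.1.1⟩, g.2.1.2, g.2.2⟩
  left_inv _ := rfl
  right_inv _ := rfl
  map_mul' _ _ := rfl

/-- The sixteen letters in the stabiliser. -/
noncomputable def imgH : List Hundred.H :=
  pick 1 (slpG Img.fwd (start3 Hundred.bH Hundred.cH Hundred.eH) 3) Img.sel

theorem enc_imgH (i : ℕ) : (modelSub Hundred.H).enc (imgH.getD i 1) = Img.letterCodes.getD i oneCode :=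
  enc_pick (modelSub Hundred.H) CfsgLib.HSMult.gens_enc (B := Img.letterCodes) (by unfold Img.letterCodes; rfl) i

theorem enc_ev_imgH (w : List ℕ) :
    (modelSub Hundred.H).enc (ev imgH w) = CfsgLib.CentralCert.tab oneCode mmul Img.letterCodes w := by
  induction w with
  | nil => simp only [ev_nil]; exact (modelSub Hundred.H).enc_one
  | cons a w ih =>
    rw [ev_cons, (modelSub Hundred.H).enc_mul, ih]
    show mmul ((modelSub Hundred.H).enc (imgH.getD a 1)) _ = _
    rw [enc_imgH]
    rfl

theorem length_imgH : imgH.length = 16 := by rw [imgH, pick, List.length_map]; rfl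

theorem rels_imgH : RelsG imgH := by
  refine ⟨length_imgH, fun w hw => (modelSub Hundred.H).inj ?_⟩
  rw [enc_ev_imgH, (modelSub Hundred.H).enc_one]
  exact beq_iff_eq.1 (List.all_eq_true.1 Img.codes_checks.1 w hw)

theorem gen_imgH : Subgroup.closure {x | x ∈ imgH} = ⊤ := by
  set K := Subgroup.closure {x : Hundred.H | x ∈ imgH} with hK
  set E8 := [0, 2, 4, 6, 8, 10, 12, 14].map fun i => imgH.getD i 1 with hE
  have hmem : ∀ x ∈ Img.runG Img.bwd E8, x ∈ K := Img.run_mem _ _ fun x hx => by
    obtain ⟨i, -, rfl⟩ := List.mem_map.1 hx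
    exact Img.getD_mem_of (fun y hy => Subgroup.subset_closure hy) i
  have hcodes : ∀ i, (modelSub Hundred.H).enc ((Img.runG Img.bwd E8).getD i 1) =
      (Img.runN oneCode mmul Img.bwd (Img.eight Img.letterCodes)).getD i oneCode := fun i => by
    rw [← getD_map_enc, Img.map_run]
    congr 2
    rw [hE, List.map_map]
    exact List.map_congr_left fun j _ => enc_imgH j
  obtain ⟨i, j, k, hsel⟩ : ∃ i j k, Img.bsel = [i, j, k] := ⟨_, _, _, rfl⟩
  have h3 := Img.codes_checks.2
  rw [hsel] at h3
  simp only [List.map_cons, List.map_nil, List.cons.injEq, and_true] at h3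
  have hbase := CfsgLib.HSMult.gens_enc
  simp only [CfsgLib.HSMult.base, start3, DTree.map, DTree.node.injEq, and_true] at hbase
  obtain ⟨eb, ec, ee⟩ := hbase
  have pick3 : ∀ (g : Hundred.H) (i : ℕ) (c : ℕ), (modelSub Hundred.H).enc g = c →
      (Img.runN oneCode mmul Img.bwd (Img.eight Img.letterCodes)).getD i oneCode = c → g ∈ K := by
    intro g i c hg hi
    rw [← hi, ← hcodes i] at hg
    rw [(modelSub Hundred.H).inj hg]
    exact Img.getD_mem_of hmem i
  rw [eq_top_iff, ← Hundred.gen_top, Subgroup.closure_le]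
  intro g hg
  rcases hg with rfl | rfl | rfl
  · exact pick3 _ i _ eb h3.1
  · exact pick3 _ j _ ec h3.2.1
  · exact pick3 _ k _ ee h3.2.2

theorem ev_map {G K : Type*} [Group G] [Group K] (f : G →* K) (L : List G) (w : List ℕ) :
    ev (L.map f) w = f (ev L w) := by
  induction w with
  | nil => simp
  | cons a w ih =>
    rw [ev_cons, ev_cons, map_mul, ih]
    congr 1
    simp only [fl, List.getD_eq_getElem?_getD, List.getElem?_map]
    cases L[a]? <;> simp

theorem RelsG.map {G K : Type*} [Group G] [Group K] {L : List G} (h : RelsG L) (f : G →* K) :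
    RelsG (L.map f) :=
  ⟨by rw [List.length_map, h.len], fun w hw => by rw [ev_map, h.rel w hw, map_one]⟩

theorem closure_map_list {G K : Type*} [Group G] [Group K] (L : List G) (f : G →* K) :
    Subgroup.closure {x | x ∈ L.map f} = (Subgroup.closure {x | x ∈ L}).map f := by
  rw [MonoidHom.map_closure]
  congr 1
  ext x
  simp

/-- Sixteen generators of the Higman–Sims group satisfying the relators. -/
theorem exists_image : ∃ L : List Spor.HS, RelsG L ∧ Subgroup.closure {x | x ∈ L} = ⊤ :=
  ⟨imgH.map toSpor.toMonoidHom, rels_imgH.map _, by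
    rw [closure_map_list, gen_imgH, Subgroup.map_top_of_surjective _ toSpor.surjective]⟩

theorem card_spor : Nat.card Spor.HS = 44352000 :=
  (Nat.card_congr toSpor.toEquiv).symm.trans CfsgLib.HSMult.card_H

theorem surj_of_gen {A K : Type*} [Group A] [Group K] (f : A →* K) {P : List A} {N : List K}
    (hN : P.map f = N) (hgen : Subgroup.closure {x | x ∈ N} = ⊤) :
    Function.Surjective (f.comp (Subgroup.closure {x | x ∈ P}).subtype) := by
  intro y
  have := hgen ▸ Subgroup.mem_top y
  rw [← hN, closure_map_list] at this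
  obtain ⟨x, hx, rfl⟩ := this
  exact ⟨⟨x, hx⟩, rfl⟩

/-- A nontrivial group generated by sixteen elements satisfying the relators is the Higman–Sims group. -/
theorem RelsG.iso_hs {G : Type*} [Group G] [Nontrivial G] {L : List G} (h : RelsG L)
    (hgen : Subgroup.closure {x | x ∈ L} = ⊤) : Spor.IsoHS G := by
  obtain ⟨M, hM, hMgen⟩ := exists_image
  haveI : Finite Spor.HS := Nat.finite_of_card_ne_zero (by rw [card_spor]; norm_num)
  haveI : IsSimpleGroup Spor.HS := toSpor.symm.isSimpleGroup_congr.2 CfsgLib.HSMult.simple_H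
  set P : List (Spor.HS × G) := M.zip L with hP
  have hl : M.length = L.length := hM.len.trans h.len.symm
  have h1 : P.map (MonoidHom.fst Spor.HS G) = M := List.map_fst_zip hl.le
  have h2 : P.map (MonoidHom.snd Spor.HS G) = L := List.map_snd_zip hl.ge
  have hPr : RelsG P := by
    refine ⟨by rw [hP, List.length_zip, hl, min_self, h.len], fun w hw => ?_⟩
    have a := hM.rel w hw
    have b := h.rel w hw
    rw [← h1, ev_map] at a
    rw [← h2, ev_map] at b
    exact Prod.ext a b
  set Γ := Subgroup.closure {x | x ∈ P} with hΓ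
  obtain ⟨hfin, hle⟩ := hPr.card_le
  let f1 : Γ →* Spor.HS := (MonoidHom.fst Spor.HS G).comp Γ.subtype
  let f2 : Γ →* G := (MonoidHom.snd Spor.HS G).comp Γ.subtype
  have s1 : Function.Surjective f1 := surj_of_gen _ h1 hMgen
  have s2 : Function.Surjective f2 := surj_of_gen _ h2 hgen
  haveI := hfin
  have b1 : Function.Bijective f1 := (Nat.bijective_iff_surjective_and_card f1).2
    ⟨s1, le_antisymm (by rw [card_spor]; exact hle) (Nat.card_le_card_of_surjective f1 s1)⟩
  let e : Γ ≃* Spor.HS := MulEquiv.ofBijective f1 b1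
  let g : Spor.HS →* G := f2.comp e.symm.toMonoidHom
  have sg : Function.Surjective g := s2.comp e.symm.surjective
  rcases (MonoidHom.normal_ker g).eq_bot_or_eq_top with hk | hk
  · exact ⟨(MulEquiv.ofBijective g ⟨(MonoidHom.ker_eq_bot_iff g).1 hk, sg⟩).symm⟩
  · exfalso
    obtain ⟨x, hx⟩ := exists_ne (1 : G)
    obtain ⟨y, rfl⟩ := sg x
    exact hx (MonoidHom.mem_ker.1 (hk ▸ Subgroup.mem_top y))

end CfsgLib.HSUniq
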