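import Cfsg.Agent.HSUniq.Third
import Cfsg.Agent.HSUniq.Image
import Cfsg.Agent.HSUniq.Closing

/-!
# The group is the Higman–Sims group
-/

set_option autoImplicit false
set_option linter.style.haveILetI false

namespace CfsgLib.HSUniq

open Subgroup CfsgLib.Coset

theorem isoHS_of_hyp (hS : TwoClasses Cfsg.Spor.HS) {G : Type*} [Group G] [Finite G] {t : G}
    {R V A : Subgroup G} (h : Hyp t R V A) : Cfsg.Spor.IsoHS G := by
  obtain ⟨L, hL, hle⟩ := exists_rels h
  set G0 := closure {y : G | y ∈ L} with hG0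
  let L' : List ↥G0 := L.attach.map fun y => ⟨y.1, subset_closure y.2⟩
  have hmap : L'.map G0.subtype = L := by
    rw [List.map_map]
    exact List.attach_map_subtype_val L
  have hL' : RelsG L' := by
    refine ⟨by simp [L', hL.len], fun r hr => G0.subtype_injective ?_⟩
    rw [← ev_map, hmap, hL.rel r hr, map_one]
  have hgen : closure {y : ↥G0 | y ∈ L'} = ⊤ := by
    refine map_injective G0.subtype_injective ?_
    rw [← closure_map_list, hmap, ← MonoidHom.range_eq_map, range_subtype]
  have t1 : t ≠ 1 := fun e => by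
    have := h.ord_t
    rw [e, orderOf_one] at this
    norm_num at this
  haveI : Nontrivial ↥G0 :=
    ⟨⟨1, ⟨t, hle (mem_centralizer_singleton_iff.2 rfl)⟩, fun e => t1 (congrArg Subtype.val e).symm⟩⟩
  obtain ⟨e⟩ := hL'.iso_hs hgen
  haveI : IsSimpleGroup Cfsg.Spor.HS := toSpor.symm.isSimpleGroup_congr.2 CfsgLib.HSMult.simple_H
  have htop : G0 = ⊤ := eq_top_of_twoClasses hS G0 e.symm t h.ord_t hle h.card_H
  exact ⟨((topEquiv (G := G)).symm.trans (MulEquiv.subgroupCongr htop.symm)).trans e⟩

end CfsgLib.HSUniq
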