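import Cfsg.Agent.HSUniq.Core

/-!
# The action on five points with its labels
-/

set_option autoImplicit false
set_option linter.unusedSectionVars false
set_option maxRecDepth 100000

namespace CfsgLib.HSUniq

open Subgroup Mat CfsgLib.Coset

variable {G : Type*} [Group G] [Finite G] {t : G} {R V A : Subgroup G} {c : ℕ → G} {w d a s : G}

/-- The labelled action. -/
structure Act (t : G) (R V : Subgroup G) (c : ℕ → G) (d a s : G)
    (π : ↥(centralizer ({t} : Set G)) →* Equiv.Perm (Fin 5)) : Prop where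
  proj : Proj t R V π
  pi_c : ∀ v < 64, ∀ hv : c v ∈ centralizer ({t} : Set G), π ⟨c v, hv⟩ = trn v
  pi_a : ∀ ha : a ∈ centralizer ({t} : Set G), π ⟨a, ha⟩ = 1
  pi_d : ∀ hd : d ∈ centralizer ({t} : Set G), π ⟨d, hd⟩ = dP
  pi_s : ∀ hs : s ∈ centralizer ({t} : Set G), π ⟨s, hs⟩ = sP
  vset : ∀ g, ∀ hg : g ∈ centralizer ({t} : Set G), ∀ j : Fin 5, ∀ x ∈ VSet c d a (j : ℕ),
    g * x * g⁻¹ ∈ VSet c d a ((π ⟨g, hg⟩ j : Fin 5) : ℕ)

theorem vsets_card : ∀ j < 5, (vsets.getD j []).length = 8 ∧ (vsets.getD j []).Nodup := by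
  decide +kernel

theorem mem_vset_one : ∀ k ∈ [2, 16, 32], k < 64 := by decide

theorem exists_act (h : Hyp t R V A) (G' : Gens t R V A c w d a s) :
    ∃ π : ↥(centralizer ({t} : Set G)) →* Equiv.Perm (Fin 5), Act t R V c d a s π := by
  classical
  have B := G'.basis
  have P := G'.pre
  obtain ⟨π, hP⟩ := exists_proj h B
  obtain ⟨k, hkH, hkM, hkd, hka⟩ := G'.moved
  obtain ⟨trR, -⟩ := R_trace h B
  obtain ⟨u1, u2, u3, u4⟩ := urep_facts
  obtain ⟨t1, t2, t3, t4, t5, t6⟩ := trn_facts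
  obtain ⟨hB, -, -⟩ := P.four_facts h
  have hdH : d ∈ centralizer ({t} : Set G) := (hB (subset_closure (by simp))).2
  have hsH : s ∈ centralizer ({t} : Set G) := (hB (subset_closure (by simp))).2
  have cH : ∀ v, v < 64 → c v ∈ centralizer ({t} : Set G) := fun v hv => h.A_le_H B (B.mem v hv)
  set p1 := π ⟨k, hkH⟩ 0 with hp1
  have hp0 : p1 ≠ 0 := fun e => hkM ((hP.stab ⟨k, hkH⟩).1 e)
  -- stabilizer of `p1`
  have stab1 : ∀ g, ∀ hg : g ∈ centralizer ({t} : Set G),
      π ⟨g, hg⟩ p1 = p1 ↔ k⁻¹ * g * k ∈ normalizer (V : Set G) := by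
    intro g hg
    rw [← show ((⟨k, hkH⟩⁻¹ * ⟨g, hg⟩ * ⟨k, hkH⟩ : ↥(centralizer ({t} : Set G))) : G) = k⁻¹ * g * k from rfl,
      ← hP.stab, map_mul, map_mul, map_inv, Equiv.Perm.mul_apply, Equiv.Perm.mul_apply, ← hp1,
      Equiv.Perm.inv_eq_iff_eq]
  have hd1 : π ⟨d, hdH⟩ p1 = p1 := (stab1 d hdH).2 hkd
  have moves : ∀ v, v < 64 → par2 v ≠ 0 → ∀ hv, π ⟨c v, hv⟩ p1 ≠ p1 := by
    intro v hv hpar hvH e
    have key : ∀ x, x < 64 → (k⁻¹ * c x * k ∈ normalizer (V : Set G)) →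
        sm 2 (ad x (ng (apv A0 x))) = 0 := by
      intro x hx hn
      have hl := apv_lt A0 x
      have hng := (ad_table _ hl 0 (by norm_num)).2.2.2.2
      have hVin : k⁻¹ * (c x * a * (c x)⁻¹ * a⁻¹) * k ∈ V := by
        have e1 : k⁻¹ * (c x * a * (c x)⁻¹ * a⁻¹) * k =
            (k⁻¹ * c x * k) * (k⁻¹ * a * k) * (k⁻¹ * c x * k)⁻¹ * (k⁻¹ * a * k)⁻¹ := by group
        rw [e1]
        exact mul_mem ((mem_normalizer_iff.1 hn _).1 hka) (inv_mem hka)
      have e2 : c x * a * (c x)⁻¹ * a⁻¹ = c (ad x (ng (apv A0 x))) := by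
        rw [B.add x hx _ hng, B.neg hl, ← G'.mat_a.2 x hx]
        group
      rw [e2] at hVin
      have hsq := h.V_sq _ hVin
      have : c (ad x (ng (apv A0 x))) * c (ad x (ng (apv A0 x))) = 1 := by
        calc _ = k * (k⁻¹ * c (ad x (ng (apv A0 x))) * k * (k⁻¹ * c (ad x (ng (apv A0 x))) * k)) * k⁻¹ := by group
          _ = 1 := by rw [hsq]; group
      obtain ⟨r, hr, er⟩ := (B.sq_eq_one (ad_lt _ _)).1 this
      rw [er]; exact (dbl_table r hr).2.2.2
    rcases u2 v hv hpar with e0 | e0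
    · exact e0 (key v hv ((stab1 _ hvH).1 e))
    · refine e0 (key _ (apv_lt _ _) ((stab1 _ (cH _ (apv_lt _ _))).1 ?_))
      have ee : (⟨c (apv D0 v), cH _ (apv_lt _ _)⟩ : ↥(centralizer ({t} : Set G))) =
          ⟨d, hdH⟩ * ⟨c v, hvH⟩ * ⟨d, hdH⟩⁻¹ := Subtype.ext (G'.mat_d.2 v hv).symm
      rw [ee, map_mul, map_mul, map_inv, Equiv.Perm.mul_apply, Equiv.Perm.mul_apply,
        Equiv.Perm.inv_eq_iff_eq.2 hd1.symm, e, hd1]
  -- equal parities give equal images
  have same : ∀ u v, ∀ hu : u < 64, ∀ hv : v < 64, par2 v = par2 u → π ⟨c v, cH v hv⟩ = π ⟨c u, cH u hu⟩ := by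
    intro u v hu hv e
    have hn := (ad_table u hu 0 (by norm_num)).2.2.2.2
    have hR := (trR _ (ad_lt (ng u) v)).2 (u1 v hv u hu e)
    have e1 : (⟨c v, cH v hv⟩ : ↥(centralizer ({t} : Set G))) = ⟨c u, cH u hu⟩ * ⟨_, cH _ (ad_lt (ng u) v)⟩ :=
      Subtype.ext (show c v = c u * c (ad (ng u) v) by
        rw [B.add _ hn v hv, B.neg hu, mul_inv_cancel_left])
    rw [e1, map_mul, (hP.ker ⟨_, cH _ (ad_lt (ng u) v)⟩).2 hR, mul_one]
  -- the labels
  let lab : Fin 5 → Fin 5 := Fin.cases 0 fun j => π ⟨c (urep.getD j 0), cH _ (u3 j j.2).1⟩ p1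
  have lab_inj : Function.Injective lab := by
    intro i j e
    induction i using Fin.cases with
    | zero =>
      induction j using Fin.cases with
      | zero => rfl
      | succ j =>
        exfalso
        simp only [lab, Fin.cases_zero, Fin.cases_succ] at e
        have h0 : π ⟨c (urep.getD j 0), cH _ (u3 j j.2).1⟩ 0 = 0 :=
          (hP.stab _).2 (h.A_le (B.mem _ (u3 j j.2).1))
        exact hp0 ((Equiv.injective _) (e.symm.trans h0.symm))
    | succ i =>
      induction j using Fin.cases with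
      | zero =>
        exfalso
        simp only [lab, Fin.cases_zero, Fin.cases_succ] at e
        have h0 : π ⟨c (urep.getD i 0), cH _ (u3 i i.2).1⟩ 0 = 0 :=
          (hP.stab _).2 (h.A_le (B.mem _ (u3 i i.2).1))
        exact hp0 ((Equiv.injective _) (e.trans h0.symm))
      | succ j =>
        simp only [lab, Fin.cases_succ] at e
        by_contra hne
        have hne' : (i : ℕ) ≠ j := fun hh => hne (congrArg Fin.succ (Fin.ext hh))
        refine moves _ (ad_lt _ _) (u4 i i.2 j j.2 hne') (cH _ (ad_lt _ _)) ?_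
        have hu := (u3 i i.2).1
        have hn := (ad_table _ hu 0 (by norm_num)).2.2.2.2
        have ee : (⟨c (ad (ng (urep.getD i 0)) (urep.getD j 0)), cH _ (ad_lt _ _)⟩ : ↥(centralizer ({t} : Set G))) =
            ⟨c (urep.getD i 0), cH _ hu⟩⁻¹ * ⟨c (urep.getD j 0), cH _ (u3 j j.2).1⟩ :=
          Subtype.ext (show c _ = (c _)⁻¹ * c _ by rw [B.add _ hn _ (u3 j j.2).1, B.neg hu])
        rw [ee, map_mul, map_inv, Equiv.Perm.mul_apply, ← e, Equiv.Perm.inv_def, Equiv.symm_apply_apply]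
  let σ : Equiv.Perm (Fin 5) := Equiv.ofBijective lab (Finite.injective_iff_bijective.1 lab_inj)
  have σ0 : σ 0 = 0 := rfl
  have hs1 : π ⟨s, hsH⟩ p1 = p1 := by
    obtain ⟨p, hp, hp', huniq⟩ := three_cycle_fix (π ⟨d, hdH⟩)
      (by rw [← map_mul, ← map_mul, ← map_one π]
          exact congrArg π (Subtype.ext (by simpa [pow_succ] using P.wd.d_pow)))
      (fun e => facts_A.2.1 (mat_of_isMat B G'.mat_d ▸ redM_R h B ((hP.ker _).1 e)))
      ((hP.stab _).2 G'.d_mem)
    have e2 : π ⟨d, hdH⟩ (π ⟨s, hsH⟩ p1) = π ⟨s, hsH⟩ p1 := by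
      have ee : (⟨d, hdH⟩ : ↥(centralizer ({t} : Set G))) * ⟨s, hsH⟩ = ⟨s, hsH⟩ * ⟨d, hdH⟩⁻¹ :=
        Subtype.ext (show d * s = s * d⁻¹ by rw [← P.sd, ← mul_assoc, ← mul_assoc, P.s_sq, one_mul])
      rw [← Equiv.Perm.mul_apply, ← map_mul, ee, map_mul, map_inv, Equiv.Perm.mul_apply,
        Equiv.Perm.inv_eq_iff_eq.2 hd1.symm]
    have hq : p1 = p := (huniq p1 hd1).resolve_left hp0
    rcases huniq _ e2 with e0 | e0
    · exfalso
      refine hp0 ((π ⟨s, hsH⟩).injective ?_)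
      rw [e0, (hP.stab ⟨s, hsH⟩).2 G'.s_mem]
    · exact e0.trans hq.symm
  -- the values
  let π' : ↥(centralizer ({t} : Set G)) →* Equiv.Perm (Fin 5) := (MulAut.conj σ⁻¹).toMonoidHom.comp π
  have hval : ∀ x (i : Fin 5) (j : Fin 5), π x (σ i) = σ j → π' x i = j := by
    intro x i j e
    show σ⁻¹ (π x (σ⁻¹⁻¹ i)) = j
    rw [inv_inv, e, Equiv.Perm.inv_def, Equiv.symm_apply_apply]
  have σsucc : ∀ j : Fin 4, σ j.succ = π ⟨c (urep.getD j 0), cH _ (u3 j j.2).1⟩ p1 := fun j => rfl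
  have σpar : ∀ v, ∀ hv : v < 64, σ (⟨par2 v, par2_lt v⟩ : Fin 4).succ = π ⟨c v, cH v hv⟩ p1 := by
    intro v hv
    rw [σsucc]
    exact congrArg (· p1) (same _ _ hv (u3 _ (par2_lt v)).1 (u3 _ (par2_lt v)).2)
  have hPr : Proj t R V π' := hP.relabel σ⁻¹ (by rw [Equiv.Perm.inv_def, Equiv.symm_apply_eq, σ0])
  have pi_a : ∀ ha : a ∈ centralizer ({t} : Set G), π' ⟨a, ha⟩ = 1 := fun ha => (hPr.ker _).2 G'.a_mem
  have pi_c : ∀ v < 64, ∀ hv : c v ∈ centralizer ({t} : Set G), π' ⟨c v, hv⟩ = trn v := by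
    intro v hv hvH
    refine Equiv.ext fun i => hval _ _ _ ?_
    induction i using Fin.cases with
    | zero => rw [t4 v hv, σ0]; exact (hP.stab _).2 (h.A_le (B.mem v hv))
    | succ j =>
      rw [t1 v hv j, σpar _ (ad_lt _ _), σsucc, ← Equiv.Perm.mul_apply, ← map_mul]
      exact congrArg (fun g => π g p1) (Subtype.ext (B.add v hv _ (u3 j j.2).1).symm)
  have hfix : ∀ (g : G) (hg : g ∈ centralizer ({t} : Set G)) (X : ℕ), IsMat c g X → π ⟨g, hg⟩ p1 = p1 →
      ∀ j : Fin 4, π ⟨g, hg⟩ (σ j.succ) = σ (⟨par2 (apv X (urep.getD j 0)), par2_lt _⟩ : Fin 4).succ := by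
    intro g hg X hX e j
    have hu := (u3 j j.2).1
    have ee : (⟨g, hg⟩ : ↥(centralizer ({t} : Set G))) * ⟨c (urep.getD j 0), cH _ hu⟩ =
        ⟨c (apv X (urep.getD j 0)), cH _ (apv_lt _ _)⟩ * ⟨g, hg⟩ :=
      Subtype.ext (show g * c _ = c _ * g by rw [← hX.2 _ hu]; group)
    rw [σpar _ (apv_lt _ _), σsucc, ← Equiv.Perm.mul_apply, ← map_mul, ee, map_mul, Equiv.Perm.mul_apply, e]
  have pi_d : ∀ hd : d ∈ centralizer ({t} : Set G), π' ⟨d, hd⟩ = dP := by
    intro hd
    refine Equiv.ext fun i => hval _ _ _ ?_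
    induction i using Fin.cases with
    | zero => rw [t5, σ0]; exact (hP.stab _).2 G'.d_mem
    | succ j => rw [t2 j]; exact hfix d hd D0 G'.mat_d hd1 j
  have pi_s : ∀ hs : s ∈ centralizer ({t} : Set G), π' ⟨s, hs⟩ = sP := by
    intro hs
    refine Equiv.ext fun i => hval _ _ _ ?_
    induction i using Fin.cases with
    | zero => rw [t6, σ0]; exact (hP.stab _).2 G'.s_mem
    | succ j => rw [t3 j]; exact hfix s hs S0 G'.mat_s hs1 j
  -- the conjugates of `V`
  obtain ⟨hle, htriv⟩ := four_compl h G'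
  have eqset : ∀ (g : G) (j : ℕ), j < 5 → (∀ x ∈ VSet c d a j, g⁻¹ * x * g ∈ V) →
      ∀ y ∈ V, g * y * g⁻¹ ∈ VSet c d a j := by
    intro g j hj hsub y hy
    haveI := Fintype.ofFinite ↥V
    obtain ⟨hlen, hnd⟩ := vsets_card j hj
    have hlt : ∀ n ∈ vsets.getD j [], n < 64 := vsets_lt _ (by
      rw [List.getD_eq_getElem _ _ (by simp [vsets]; omega)]; exact List.getElem_mem _)
    let f : {n // n ∈ (vsets.getD j []).toFinset} → ↥V := fun n =>
      ⟨g⁻¹ * phiR c d a n * g, hsub _ ⟨n, List.mem_toFinset.1 n.2, rfl⟩⟩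
    have hb := (Nat.bijective_iff_injective_and_card f).2 ⟨fun n m e => Subtype.ext
        (phiR_inj h G' (hlt _ (List.mem_toFinset.1 n.2)) (hlt _ (List.mem_toFinset.1 m.2))
          (mul_left_cancel (mul_right_cancel (congrArg Subtype.val e)))),
      by rw [h.card_V, Nat.card_eq_fintype_card, Fintype.card_coe, List.toFinset_card_of_nodup hnd, hlen]⟩
    obtain ⟨n, hn⟩ := hb.2 ⟨y, hy⟩
    refine ⟨n, List.mem_toFinset.1 n.2, ?_⟩
    rw [← show g⁻¹ * phiR c d a n * g = y from congrArg Subtype.val hn]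
    group
  have v0 : ∀ x, x ∈ VSet c d a 0 ↔ x ∈ V := by
    intro x
    have fwd : ∀ y ∈ V, y ∈ VSet c d a 0 := by
      intro y hy
      obtain ⟨r, hr, rfl⟩ := (mem_V_iff h B).1 hy
      obtain ⟨n, hn, en⟩ := vset_zero r hr
      have hn64 := vsets_lt _ (by simp [vsets]) n hn
      have hrep := rep_phiR h G' hn64
      rw [en] at hrep
      exact ⟨n, hn, (Rep.eq h B hle htriv hrep (Rep.vec B _ (dbl_table r hr).1)).symm⟩
    refine ⟨?_, fwd x⟩
    rintro ⟨n, hn, rfl⟩
    haveI := Fintype.ofFinite ↥V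
    let f : ↥V → {n // n ∈ (vsets.getD 0 []).toFinset} := fun y =>
      ⟨(fwd y y.2).choose, List.mem_toFinset.2 (fwd y y.2).choose_spec.1⟩
    have hf : ∀ y : ↥V, (y : G) = phiR c d a (f y) := fun y => (fwd y y.2).choose_spec.2
    have hb := (Nat.bijective_iff_injective_and_card f).2
      ⟨fun y z e => Subtype.ext (by rw [hf y, hf z, e]), by
        rw [h.card_V, Nat.card_eq_fintype_card, Fintype.card_coe,
          List.toFinset_card_of_nodup (vsets_card 0 (by norm_num)).2, (vsets_card 0 (by norm_num)).1]⟩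
    obtain ⟨y, hy⟩ := hb.2 ⟨n, List.mem_toFinset.2 hn⟩
    have := hf y
    rw [hy] at this
    simp only at this
    rw [← this]; exact y.2
  -- the first conjugate
  have tk : k⁻¹ * t * k = t := by
    have := comm_H h (inv_mem hkH)
    rwa [inv_inv] at this
  have ht2 : phiR c d a 2 = t := by
    obtain ⟨g0, -, -, -, -⟩ := phiR_gens h G'
    rw [show phiR c d a 2 = c 38 * c 38 by simp [phiR, sq], ← B.add 38 (by norm_num) 38 (by norm_num),
      ← B.t_code]
    rfl
  have hb1 : k⁻¹ * (d * a * d⁻¹) * k ∈ V := by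
    have := (mem_normalizer_iff.1 hkd _).1 hka
    convert this using 1
    group
  have sub1 : ∀ x ∈ VSet c d a 1, k⁻¹ * x * k ∈ V := by
    rintro _ ⟨n, hn, rfl⟩
    obtain ⟨i, -, j, -, l, -, rfl⟩ := vset_one n hn
    obtain ⟨-, -, -, g3, g4⟩ := phiR_gens h G'
    obtain ⟨p2, q2⟩ := phiR_pow h G' (x := 2) (by norm_num) i
    obtain ⟨p3, q3⟩ := phiR_pow h G' (x := 16) (by norm_num) j
    obtain ⟨p4, q4⟩ := phiR_pow h G' (x := 32) (by norm_num) l
    have cj : ∀ y z : G, k⁻¹ * (y * z) * k = (k⁻¹ * y * k) * (k⁻¹ * z * k) := fun y z => by group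
    have cp : ∀ (y : G) (n : ℕ), k⁻¹ * y ^ n * k = (k⁻¹ * y * k) ^ n := fun y n => by
      have := (conj_pow (i := n) (a := k⁻¹) (b := y)).symm
      rwa [inv_inv] at this
    rw [← phiR_mul h G' (codeR_mul _ p2 _ p3).1 p4, ← phiR_mul h G' p2 p3, ← q2, ← q3, ← q4, ht2, g3, g4,
      cj, cj, cp, cp, cp, tk]
    exact mul_mem (mul_mem (pow_mem h.t_V _) (pow_mem hka _)) (pow_mem hb1 _)
  have exg : ∀ j : Fin 5, ∃ g, ∃ hg : g ∈ centralizer ({t} : Set G), π' ⟨g, hg⟩ 0 = j ∧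
      ∀ x ∈ VSet c d a (j : ℕ), g⁻¹ * x * g ∈ V := by
    intro j
    induction j using Fin.cases with
    | zero =>
      refine ⟨1, one_mem _, ?_, fun x hx => by simpa using (v0 x).1 hx⟩
      exact (hPr.stab _).2 (one_mem _)
    | succ j =>
      have hu := (u3 j j.2).1
      have hgH : c (urep.getD j 0) * k ∈ centralizer ({t} : Set G) := mul_mem (cH _ hu) hkH
      refine ⟨_, hgH, ?_, ?_⟩
      · refine hval _ _ _ ?_
        rw [σ0, σsucc, hp1, ← Equiv.Perm.mul_apply, ← map_mul]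
        rfl
      · -- the list is the image of the first one
        set u := urep.getD j 0 with hu'
        have hev : ev (lettersB c d a s) (uword.getD j []) = c u := by
          refine evB_eq_vec h G' hu ?_
          rw [hu']
          exact (show ∀ j < 4, evP codesB (uword.getD j []) = urep.getD j 0 + idP by decide +kernel) j j.2
        intro x hx
        obtain ⟨m, hm, rfl⟩ := hx
        -- the conjugation maps the first list onto the new one
        have hlt1 : ∀ n ∈ vsets.getD 1 [], n < 64 := vsets_lt _ (by simp [vsets])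
        have hj5 : (j : ℕ) + 1 < 5 := by omega
        have hltj : ∀ n ∈ vsets.getD ((j : ℕ) + 1) [], n < 64 := vsets_lt _ (by
          rw [List.getD_eq_getElem _ _ (by simp [vsets]; omega)]; exact List.getElem_mem _)
        have step : ∀ n ∈ vsets.getD 1 [], ∃ m ∈ vsets.getD ((j : ℕ) + 1) [],
            c u * phiR c d a n * (c u)⁻¹ = phiR c d a m := by
          intro n hn
          obtain ⟨m, hm, em⟩ := vset_conj j j.2 n hn
          refine ⟨m, hm, ?_⟩
          have hr := Rep.ev_rep B _ (rep_lettersB G') (uword.getD j [] ++ wordR n ++ winv (uword.getD j []))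
          rw [em] at hr
          rw [phiR_word h G', ← hev, ← ev_winv (lettersB_inv h G'), ← ev_append, ← ev_append]
          exact Rep.eq h B hle htriv hr (rep_phiR h G' (hltj m hm))
        let f : {n // n ∈ (vsets.getD 1 []).toFinset} → {n // n ∈ (vsets.getD ((j : ℕ) + 1) []).toFinset} :=
          fun n => ⟨(step n (List.mem_toFinset.1 n.2)).choose,
            List.mem_toFinset.2 (step n (List.mem_toFinset.1 n.2)).choose_spec.1⟩
        have hf : ∀ n, c u * phiR c d a n.1 * (c u)⁻¹ = phiR c d a (f n).1 := fun n =>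
          (step n (List.mem_toFinset.1 n.2)).choose_spec.2
        have hb := (Nat.bijective_iff_injective_and_card f).2 ⟨fun n n' e => Subtype.ext
            (phiR_inj h G' (hlt1 _ (List.mem_toFinset.1 n.2)) (hlt1 _ (List.mem_toFinset.1 n'.2))
              (mul_left_cancel (mul_right_cancel ((hf n).trans (e ▸ (hf n').symm))))), by
          rw [Nat.card_eq_fintype_card, Nat.card_eq_fintype_card, Fintype.card_coe, Fintype.card_coe,
            List.toFinset_card_of_nodup (vsets_card 1 (by norm_num)).2,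
            List.toFinset_card_of_nodup (vsets_card _ hj5).2, (vsets_card 1 (by norm_num)).1,
            (vsets_card _ hj5).1]⟩
        have hm' : m ∈ vsets.getD ((j : ℕ) + 1) [] := by simpa using hm
        obtain ⟨n, hn⟩ := hb.2 ⟨m, List.mem_toFinset.2 hm'⟩
        have hn' : (f n).1 = m := congrArg Subtype.val hn
        rw [← hn', ← hf n]
        have := sub1 _ ⟨n.1, List.mem_toFinset.1 n.2, rfl⟩
        convert this using 1
        group
  refine ⟨π', hPr, pi_c, pi_a, pi_d, pi_s, ?_⟩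
  intro g hg j x hx
  obtain ⟨g1, hg1, e1, s1⟩ := exg j
  obtain ⟨g2, hg2, e2, s2⟩ := exg (π' ⟨g, hg⟩ j)
  have hM : g2⁻¹ * g * g1 ∈ normalizer (V : Set G) := (hPr.stab (⟨g2, hg2⟩⁻¹ * ⟨g, hg⟩ * ⟨g1, hg1⟩)).1 (by
    rw [map_mul, map_mul, map_inv, Equiv.Perm.mul_apply, Equiv.Perm.mul_apply, e1, Equiv.Perm.inv_eq_iff_eq, e2])
  have := eqset g2 _ (π' ⟨g, hg⟩ j).2 s2 _ ((mem_normalizer_iff.1 hM _).1 (s1 x hx))
  convert this using 1
  group

end CfsgLib.HSUniq
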