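import Cfsg.Agent.Coset.Table
import Cfsg.Agent.HSUniq.Data
import Cfsg.Agent.HSUniq.TBData

/-! The checks of a coset table. -/

set_option autoImplicit false
set_option maxRecDepth 100000
set_option Elab.async false

namespace CfsgLib.HSUniq.TB

open CfsgLib.Coset

theorem hR : checkRules rels subs R = true := by decide +kernel
theorem hdefs : checkDefs E 16 10 889 = true := by decide +kernel
theorem hsteps : checkChunks E HSUniq.iv R 16 6 889 39 C = true := by decide +kernel
theorem htable : checkTable E HSUniq.iv (889 + chunk * 39) 1 16 0 4 Rep Ref Tb = true := by decide +kernel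

end CfsgLib.HSUniq.TB
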