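import Cfsg.Agent.HSUniq.CertH
import Cfsg.Agent.HSUniq.TB

/-!
With the other relator, everything collapses into the subgroup of the involution centralizer.
-/

set_option autoImplicit false
set_option maxRecDepth 100000

namespace CfsgLib.HSUniq

open CfsgLib.Coset

/-- Sixteen letters satisfying the other set of relators. -/
structure RelsBad {G : Type*} [Group G] (L : List G) : Prop where
  len : L.length = 16
  rel : ∀ w ∈ relsI ++ relsM ++ relsH ++ [relBad], ev L w = 1

theorem levelBad : checkLevel (relsI ++ relsM ++ relsH ++ [relBad]) 16 (List.range 16) gensH TB.rels TB.subs =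
    true := by decide +kernel

theorem levelBad_sub : ((relsI ++ relsB ++ relsH).all fun w =>
    (relsI ++ relsM ++ relsH ++ [relBad]).contains w) = true := by decide +kernel

variable {G : Type*} [Group G] {L : List G}

theorem RelsBad.toC (h : RelsBad L) : RelsC L :=
  ⟨h.len, fun w hw => h.rel w (List.contains_iff_mem.1 (List.all_eq_true.1 levelBad_sub w hw))⟩

theorem RelsBad.table (h : RelsBad L) : TableOK L (genBy L gensH) TB.E iv 1 TB.Rep TB.Tb := by
  have hrel := level_rels h.len levelBad h.rel
  have hsub := level_subs h.len levelBad
  rw [show List.range 16 = List.range L.length by rw [h.len], lv_range] at hrel hsub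
  exact tableOK_of_check h.toC.inv TB.hR (h.len.symm ▸ TB.hdefs) (h.len.symm ▸ TB.hsteps)
    (h.len.symm ▸ TB.htable) hrel hsub

/-- All sixteen letters lie in the subgroup of the involution centralizer. -/
theorem RelsBad.fl_mem (h : RelsBad L) {l : Nat} (hl : l < 16) : fl L l ∈ genBy L lettersH := by
  rw [← h.toC.genBy_gensH]
  have hlt : ∀ x ∈ [l], x < L.length := by simpa [h.len] using hl
  have h0 : follow (tget TB.Tb) 0 [l] = 0 := by
    have := h.table.lt 0 Nat.one_pos l (hlt l (by simp))
    rw [follow_cons, follow_nil]
    omega
  simpa using h.table.ev_mem Nat.one_pos hlt h0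

/-- The element of order seven lies in the subgroup of the involution centralizer. -/
theorem RelsBad.w_mem (h : RelsBad L) : fl L 12 ∈ genBy L lettersH := h.fl_mem (by decide)

end CfsgLib.HSUniq
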