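import Cfsg.Agent.Coset.Chain
import Cfsg.Agent.J2U.Calc
import Cfsg.Agent.HSUniq.TH

/-!
The group on the letters of the involution centralizer has at most 7680 elements, each a fixed word.
-/

set_option autoImplicit false
set_option maxRecDepth 100000

namespace CfsgLib.HSUniq

open CfsgLib.Coset

/-- Sixteen letters satisfying the relators of the involution centralizer. -/
structure RelsC {G : Type*} [Group G] (L : List G) : Prop where
  len : L.length = 16
  rel : ∀ w ∈ relsI ++ relsB ++ relsH, ev L w = 1

/-- The letter of the sixteen with the number `l` among those of the involution centralizer. -/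
def letterC (l : Nat) : Nat := lettersH.getD l 16

/-- The word of a node, in the fourteen letters of the involution centralizer. -/
noncomputable def pthC (i : Nat) : List Nat := CfsgLib.J2U.pathW TH.Par 6 i

/-- The word of a node, in the sixteen letters. -/
noncomputable def pth (i : Nat) : List Nat := (pthC i).map letterC

/-- The node of a word in the fourteen letters. -/
noncomputable def nodeC (w : List Nat) : Nat := follow (tget TH.Tb) 0 w

theorem levelH : checkLevel (relsI ++ relsB ++ relsH) 16 lettersH [] TH.rels TH.subs = true := by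
  decide +kernel

theorem pathC_ok : CfsgLib.J2U.checkPath TH.Tb TH.Par 6 7680 14 13 = true := by decide +kernel

theorem ivC_table : ((List.range 14).all fun x => TH.rels.contains [x, ivC x]) = true := by decide +kernel

theorem ivC_out : ∀ x, 14 ≤ x → ivC x = x := by
  intro x hx
  unfold ivC
  rw [List.getD_eq_default _ _ (by simpa using hx)]

theorem pthC_lt {i : Nat} (hi : i < 7680) : ∀ l ∈ pthC i, l < 14 :=
  (CfsgLib.J2U.checkPath_iff pathC_ok hi).1

theorem nodeC_pthC {i : Nat} (hi : i < 7680) : nodeC (pthC i) = i :=
  (CfsgLib.J2U.checkPath_iff pathC_ok hi).2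

theorem letterC_mem {l : Nat} (hl : l < 14) : letterC l ∈ lettersH := by
  unfold letterC
  rw [List.getD_eq_getElem _ _ (show l < lettersH.length from hl)]
  exact List.getElem_mem _

theorem pth_mem {i : Nat} (hi : i < 7680) : ∀ l ∈ pth i, l ∈ lettersH := by
  intro l hl
  obtain ⟨m, hm, rfl⟩ := List.mem_map.1 hl
  exact letterC_mem (pthC_lt hi m hm)

variable {G : Type*} [Group G] {L : List G}

theorem fl_inv_of_rels (hlen : L.length = 16) {rels : List (List Nat)}
    (hc : ((List.range 16).all fun x => rels.contains [x, iv x]) = true)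
    (h : ∀ w ∈ rels, ev L w = 1) (x : Nat) : fl L (iv x) = (fl L x)⁻¹ :=
  CfsgLib.J2U.inv_of_rels hlen h hc
    (fun x hx => by unfold iv; rw [List.getD_eq_default _ _ (by simpa using hx)]) x

theorem RelsC.inv (h : RelsC L) (x : Nat) : fl L (iv x) = (fl L x)⁻¹ :=
  fl_inv_of_rels h.len (rels := relsI ++ relsB ++ relsH) (by decide +kernel) h.rel x

theorem lv_length (L : List G) : (lv L lettersH).length = 14 := by simp [lv, lettersH]

theorem ev_pth (h : RelsC L) (i : Nat) : ev L (pth i) = ev (lv L lettersH) (pthC i) := by
  rw [ev_lv, h.len]; rfl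

theorem RelsC.table (h : RelsC L) :
    TableOK (lv L lettersH) (⊥ : Subgroup G) TH.E ivC 7680 TH.Rep TH.Tb := by
  have hl := lv_length L
  have hrel := level_rels h.len levelH h.rel
  refine tableOK_of_check (CfsgLib.J2U.inv_of_rels hl hrel ivC_table ivC_out) TH.hR (hl.symm ▸ TH.hdefs)
    (hl.symm ▸ TH.hsteps) (hl.symm ▸ TH.htable) hrel ?_
  intro w hw
  simp [TH.subs] at hw

/-- Every element of the subgroup on the letters of the involution centralizer is one of 7680 words. -/
theorem RelsC.exists_node (h : RelsC L) {g : G} (hg : g ∈ genBy L lettersH) :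
    ∃ i < 7680, g = ev L (pth i) := by
  obtain ⟨i, hi, e⟩ := CfsgLib.J2U.exists_path h.table (by decide) ((lv_length L).symm ▸ pathC_ok) hg
  exact ⟨i, hi, by rw [ev_pth h, e]; rfl⟩

theorem RelsC.card_le (h : RelsC L) :
    Finite (genBy L lettersH) ∧ Nat.card (genBy L lettersH) ≤ 7680 := by
  let f : Fin 7680 → genBy L lettersH := fun i => ⟨ev L (pth i), ev_mem_genBy _ (pth_mem i.2)⟩
  have hf : Function.Surjective f := fun g => by
    obtain ⟨i, hi, e⟩ := h.exists_node g.2
    exact ⟨⟨i, hi⟩, Subtype.ext e.symm⟩
  exact ⟨Finite.of_surjective f hf, (Nat.card_le_card_of_surjective f hf).trans_eq (Nat.card_fin _)⟩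

/-- The generators of the involution centralizer without their inverses. -/
def gensH : List Nat := [0, 2, 4, 6, 8, 10, 14]

theorem RelsC.genBy_gensH (h : RelsC L) : genBy L gensH = genBy L lettersH := by
  refine le_antisymm (genBy_mono (by decide)) ((Subgroup.closure_le _).2 ?_)
  rintro x hx
  obtain ⟨l, hl, rfl⟩ := List.mem_map.1 hx
  have key : ∀ l ∈ lettersH, l ∈ gensH ∨ iv l ∈ gensH := by decide
  have hmem : ∀ m ∈ gensH, fl L m ∈ genBy L gensH := fun m hm =>
    Subgroup.subset_closure (List.mem_map.2 ⟨m, hm, rfl⟩)
  rcases key l hl with h' | h'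
  · exact hmem l h'
  · have := hmem _ h'
    rw [h.inv] at this
    exact inv_mem_iff.1 this

end CfsgLib.HSUniq
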