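import Cfsg.Agent.HSUniq.ClassData
import Cfsg.Agent.HSUniq.CertH
import Cfsg.Agent.HSUniq.CertGood
import Cfsg.Agent.Coset.CentSearch

/-!
The finite checks behind the classes of involutions of the Higman–Sims group, on a hundred points and
on the 7680 nodes of the centraliser of an involution.
-/

set_option autoImplicit false
set_option maxRecDepth 100000
set_option maxHeartbeats 0
set_option Elab.async false

namespace CfsgLib.HSUniq.Cls

open CfsgLib.Coset

/-- The base with its transversals. -/
noncomputable def base : BaseData where
  k := 7
  m i := ([100, 77, 16, 6, 6, 5, 2] : List Nat).getD i 0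
  d i := ([7, 7, 4, 3, 3, 3, 1] : List Nat).getD i 0
  B i := i
  wd i j := ([wd0, wd1, wd2, wd3, wd4, wd5, wd6].getD i wd0).get j
  pos i p := ([ps0, ps1, ps2, ps3, ps4, ps5, ps6].getD i ps0).get p

/-- The formal inverse. -/
def winv (w : List Nat) : List Nat := (w.map iv).reverse

/-- The word of the first involution. -/
def tW : List Nat := [2, 2]

/-- The word of the second involution. -/
noncomputable def uW : List Nat := pth ju

/-- The word of a coset of the centraliser of the first involution. -/
noncomputable def gW (i : Nat) : List Nat := CfsgLib.J2U.pathW ParG 10 i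

/-- The word of a conjugate of the first involution. -/
noncomputable def zW (i : Nat) : List Nat := winv (gW i) ++ tW ++ gW i

/-- Two words give equal elements. -/
noncomputable def same (v w : List Nat) : Bool := base.eqW Tb v w

/-- The product of nodes. -/
noncomputable def mulC (i j : Nat) : Nat := follow (tget TH.Tb) i (pthC j)

/-- Two nodes commute. -/
noncomputable def comC (i j : Nat) : Bool := Nat.beq (mulC i j) (mulC j i)

/-- The number of nodes commuting with one. -/
noncomputable def numComm (j : Nat) : Nat := ((List.range 7680).filter fun i => comC i j).length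

/-- An element of the centraliser of the second involution. -/
noncomputable def cW (s k : Nat) : List Nat := pth s ++ yList.getD k []

/-- The fifth element. -/
noncomputable def fW : List Nat := cW five.1 five.2

/-- The value of a pattern in nodes. -/
noncomputable def patC (a b : Nat) (p : List Nat) : Nat :=
  p.foldl (fun r x => mulC r ([ju, a, b].getD x 0)) 0

/-- The word of a pattern. -/
noncomputable def patW (e f : List Nat) (p : List Nat) : List Nat :=
  p.flatMap fun x => [uW, e, f, winv e, winv f].getD x []

theorem perm_ok : checkPerm iv 100 16 7 4 Tb = true := by decide +kernel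

theorem rels_ok : checkRels 100 7 Tb (relsI ++ relsM ++ relsH ++ [relGood]) = true := by decide +kernel

theorem nontriv_ok : tget Tb 0 0 ≠ 0 ∨ tget Tb 1 0 ≠ 1 ∨ tget Tb 2 0 ≠ 2 := by decide +kernel

theorem lev_ok : ((List.range 7).all fun i => base.checkLev Tb 100 16 i) = true := by decide +kernel

theorem pathG_ok : CfsgLib.J2U.checkPath TG.Tb ParG 10 5775 16 13 = true := by decide +kernel

theorem t_central : (gensH.all fun l => same (tW ++ [l]) ([l] ++ tW)) = true := by decide +kernel

theorem t_invol : (same (tW ++ tW) [] && !same tW []) = true := by decide +kernel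

theorem cent_t : allBelow 13 5775 (fun i => Nat.beq i 0 || !same (gW i ++ tW) (tW ++ gW i)) = true := by
  decide +kernel

theorem gW_zero : gW 0 = [] := by decide +kernel

theorem u_invol : (Nat.beq (follow (tget TH.Tb) ju (pthC ju)) 0 && !Nat.beq ju 0 &&
    Nat.blt ju 7680) = true := by decide +kernel

theorem sList_eq : (List.range 7680).filter (fun i => comC i ju) = sList := by decide +kernel

theorem sList_length : sList.length = 64 ∧ sList.Nodup ∧ yList.length = 45 ∧
    checkLetters 16 yList = true := by decide +kernel

theorem yList_ok : ((List.range 45).all fun k =>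
    same (yList.getD k [] ++ uW) (uW ++ yList.getD k []) &&
      (List.range k).all fun l => !same (winv (yList.getD k []) ++ tW ++ yList.getD k [])
        (winv (yList.getD l []) ++ tW ++ yList.getD l [])) = true := by decide +kernel

/-- The certificate of an involution of the centraliser. -/
noncomputable def invCert (i : Nat) : Bool :=
  invs.any fun e => Nat.beq e.1 i &&
    same (pth i) (winv e.2.2 ++ (cond (Nat.beq e.2.1 0) tW uW) ++ e.2.2) &&
      allList (fun l => Nat.blt l 16) e.2.2

theorem invol_ok : allBelow 13 7680 (fun i => Nat.beq i 0 ||
    !Nat.beq (follow (tget TH.Tb) i (pthC i)) 0 || invCert i) = true := by decide +kernel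

theorem bad_ok : (badList.all fun i => invs.any fun e => Nat.beq e.1 i && Nat.beq e.2.1 0 &&
    same (pth i) (winv e.2.2 ++ tW ++ e.2.2) && allList (fun l => Nat.blt l 16) e.2.2) = true := by
  decide +kernel

theorem pairs_ok : (sList.all fun a => badList.contains a || Nat.beq a 0 || Nat.beq a ju ||
    sList.all fun b => badList.contains b || [0, ju, a, mulC a ju].contains b ||
      pats.any fun p => badList.contains (patC a b p)) = true := by decide +kernel

theorem five_ok : (sList.contains five.1 && Nat.blt five.2 45 &&
    same (fW ++ fW ++ fW ++ fW ++ fW) [] && !same fW []) = true := by decide +kernel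

/-- The certificate of an element of order three. -/
noncomputable def threeCert (s k : Nat) : Bool :=
  threes.any fun e => Nat.beq e.1 s && Nat.beq e.2.1 k && Nat.blt e.2.2.2 5775 &&
    allList (fun x => Nat.blt x 5) e.2.2.1 && same (patW (cW s k) fW e.2.2.1) (zW e.2.2.2)

theorem threes_ok : (sList.all fun s => (List.range 45).all fun k =>
    !same (cW s k ++ cW s k ++ cW s k) [] || same (cW s k) [] || threeCert s k) = true := by decide +kernel

end CfsgLib.HSUniq.Cls
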