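import Cfsg.Agent.HSUniq.ClassChecks
import Cfsg.Agent.HSUniq.Image
import Mathlib.Algebra.BigOperators.Fin

/-!
A copy of the Higman–Sims group on a hundred points, with the nodes of the centraliser of an involution.
-/

set_option autoImplicit false
set_option maxRecDepth 100000

namespace CfsgLib.HSUniq.Cls

open Cfsg CfsgLib.Coset

/-- The sixteen permutations. -/
noncomputable def L0 : List (Equiv.Perm (Fin 100)) := sigList perm_ok

theorem rels_letters : ((relsI ++ relsM ++ relsH ++ [relGood]).all fun w => w.all fun l => decide (l < 16)) = true := by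
  decide +kernel

theorem relsG0 : RelsG L0 := by
  refine ⟨by simp [L0, sigList], ev_sigList_eq_one perm_ok rels_ok fun w hw l hl => ?_⟩
  simpa using List.all_eq_true.1 (List.all_eq_true.1 rels_letters w hw) l hl

/-- The group. -/
noncomputable abbrev M : Subgroup (Equiv.Perm (Fin 100)) := Subgroup.closure {x | x ∈ L0}

/-- Its sixteen letters. -/
noncomputable def L : List M := (List.range 16).map fun l => ⟨fl L0 l, mem_closure_fl l⟩

theorem L_map : L.map M.subtype = L0 := by
  rw [L, List.map_map]
  show (List.range 16).map (fl L0) = L0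
  have h := lv_range (L := L0)
  rw [relsG0.len] at h
  exact h

theorem L_len : L.length = 16 := by simp [L]

theorem relsG : RelsG L := by
  refine ⟨L_len, fun w hw => M.subtype_injective ?_⟩
  rw [← ev_map, L_map, relsG0.rel w hw, map_one]

theorem gen : Subgroup.closure {x | x ∈ L} = ⊤ := by
  refine Subgroup.map_injective M.subtype_injective ?_
  rw [← closure_map_list, L_map, ← MonoidHom.range_eq_map, Subgroup.range_subtype]

theorem matches_M : Matches L M.subtype Tb := by
  intro l hl i
  have hl' : l < 16 := L_len ▸ hl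
  have e : M.subtype (fl L l) = sig perm_ok l := by
    rw [← fl_sigList perm_ok l]
    show M.subtype (fl L l) = fl L0 l
    simp [fl, L, List.getD_eq_getElem?_getD, hl']
  rw [e]
  exact sig_symm_apply perm_ok hl' i

theorem nontrivial_M : Nontrivial M := by
  rcases subsingleton_or_nontrivial M with h | h
  · exfalso
    have key : ∀ i : Fin 100, tget Tb i 0 = i := fun i => by
      rw [← matches_M 0 (by rw [L_len]; decide) i, Subsingleton.elim (fl L 0) 1, map_one, inv_one,
        Equiv.Perm.coe_one, id]
    rcases nontriv_ok with h' | h' | h'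
    · exact h' (key 0)
    · exact h' (key 1)
    · exact h' (key 2)
  · exact h

theorem iso : Spor.IsoHS M := @RelsG.iso_hs _ _ nontrivial_M _ relsG gen

theorem card_M : Nat.card M = 44352000 := by
  obtain ⟨e⟩ := iso
  rw [Nat.card_congr e.toEquiv, card_spor]

theorem valid : base.Valid L M.subtype Tb where
  hm := matches_M
  lev i hi := by
    rw [L_len]
    exact List.all_eq_true.1 lev_ok i (List.mem_range.2 hi)
  card := by
    show _ = ∏ i : Fin 7, base.m i
    rw [card_M]
    simp [Fin.prod_univ_succ, base]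
  fin := inferInstance

/-- Words in the sixteen letters. -/
def Lett (w : List Nat) : Prop := ∀ l ∈ w, l < 16

theorem lett_append {u v : List Nat} (hu : Lett u) (hv : Lett v) : Lett (u ++ v) := fun l hl =>
  (List.mem_append.1 hl).elim (hu l) (hv l)

theorem lett_nil : Lett [] := fun l hl => absurd hl (by simp)

theorem lett_winv {w : List Nat} (hw : Lett w) : Lett (winv w) := by
  intro l hl
  simp only [winv, List.mem_reverse, List.mem_map] at hl
  obtain ⟨m, hm, rfl⟩ := hl
  exact (by decide : ∀ m < 16, iv m < 16) m (hw m hm)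

theorem lett_pth {i : Nat} (hi : i < 7680) : Lett (pth i) := fun l hl =>
  (by decide : ∀ l ∈ lettersH, l < 16) l (pth_mem hi l hl)

theorem lett_gW {i : Nat} (hi : i < 5775) : Lett (gW i) := (CfsgLib.J2U.checkPath_iff pathG_ok hi).1

theorem lett_tW : Lett tW := (by decide : ∀ l ∈ tW, l < 16)

theorem lett_zW {i : Nat} (hi : i < 5775) : Lett (zW i) :=
  lett_append (lett_append (lett_winv (lett_gW hi)) lett_tW) (lett_gW hi)

theorem lett_check {v w : List Nat} (hv : Lett v) (hw : Lett w) : checkLetters L.length [v, w] = true := by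
  refine allList_iff.mpr fun u hu => allList_iff.mpr fun l hl => Nat.ble_eq.mpr ?_
  rw [L_len]
  simp only [List.mem_cons, List.not_mem_nil, or_false] at hu
  rcases hu with rfl | rfl
  · exact hv l hl
  · exact hw l hl

theorem eq_of_same {v w : List Nat} (hv : Lett v) (hw : Lett w) (h : same v w = true) : ev L v = ev L w :=
  valid.eq_of_eqW (lett_check hv hw) h

theorem ne_of_same {v w : List Nat} (hv : Lett v) (hw : Lett w) (h : same v w = false) : ev L v ≠ ev L w :=
  valid.ne_of_eqW (by decide) (lett_check hv hw) h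

theorem same_of_eq {v w : List Nat} (hv : Lett v) (hw : Lett w) (h : ev L v = ev L w) : same v w = true := by
  cases hs : same v w
  · exact absurd h (ne_of_same hv hw hs)
  · rfl

theorem ev_winv (w : List Nat) : ev L (winv w) = (ev L w)⁻¹ :=
  CfsgLib.J2U.ev_inv_word relsG.toC.inv w

/-- The centraliser of the first involution as generated by its letters. -/
noncomputable abbrev HH : Subgroup M := genBy L lettersH

theorem card_HH : Nat.card HH = 7680 := by
  have h1 : Nat.card HH ≤ 7680 := relsG.toC.card_le.2
  obtain ⟨h2, -⟩ := relsG.relIndex_le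
  rw [gen, Subgroup.relIndex_top_right] at h2
  have h2' : HH.index ≤ 5775 := h2
  have h3 : Nat.card HH * HH.index = 44352000 := HH.card_mul_index.trans card_M
  by_contra hne
  have : Nat.card HH * HH.index ≤ 7679 * 5775 := Nat.mul_le_mul (by omega) h2'
  omega

theorem index_HH : HH.index = 5775 := by
  have h3 : Nat.card HH * HH.index = 44352000 := HH.card_mul_index.trans card_M
  rw [card_HH] at h3
  omega

/-- The element of a node. -/
noncomputable def el (i : Nat) : M := ev L (pth i)

theorem el_mem {i : Nat} (hi : i < 7680) : el i ∈ HH := ev_mem_genBy _ (pth_mem hi)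

theorem exists_el {g : M} (hg : g ∈ HH) : ∃ i < 7680, g = el i := relsG.toC.exists_node hg

theorem el_inj {i j : Nat} (hi : i < 7680) (hj : j < 7680) (h : el i = el j) : i = j := by
  rw [el, el, ev_pth relsG.toC, ev_pth relsG.toC] at h
  have hlv := lv_length L
  have := CfsgLib.J2U.follow_eq_of_ev relsG.toC.table (by decide) (le_of_eq card_HH.symm)
    (fun l hl => hlv.symm ▸ pthC_lt hi l hl) (fun l hl => hlv.symm ▸ pthC_lt hj l hl) h
  have a := nodeC_pthC hi
  have b := nodeC_pthC hj
  unfold nodeC at a b
  omega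

theorem mulC_lt {i j : Nat} (hi : i < 7680) (hj : j < 7680) : mulC i j < 7680 :=
  CfsgLib.J2U.follow_lt relsG.toC.table _ i hi fun l hl => (lv_length L).symm ▸ pthC_lt hj l hl

theorem el_mul {i j : Nat} (hi : i < 7680) (hj : j < 7680) : el i * el j = el (mulC i j) := by
  have hlv := lv_length L
  rw [el, el, el, ev_pth relsG.toC, ev_pth relsG.toC, ev_pth relsG.toC, ← ev_append]
  refine CfsgLib.J2U.ev_eq_of_follow relsG.toC.table (by decide)
    (fun l hl => hlv.symm ▸ (List.mem_append.1 hl).elim (pthC_lt hi l) (pthC_lt hj l))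
    (fun l hl => hlv.symm ▸ pthC_lt (mulC_lt hi hj) l hl) ?_
  rw [follow_append]
  have a := nodeC_pthC hi
  have b := nodeC_pthC (mulC_lt hi hj)
  unfold nodeC at a b
  rw [a, b]
  rfl

theorem el_zero : el 0 = 1 := by
  rw [el, show pth 0 = [] by decide +kernel, ev_nil]

theorem comC_iff {i j : Nat} (hi : i < 7680) (hj : j < 7680) :
    comC i j = true ↔ el i * el j = el j * el i := by
  rw [el_mul hi hj, el_mul hj hi, comC, Nat.beq_eq]
  exact ⟨fun h => by rw [h], el_inj (mulC_lt hi hj) (mulC_lt hj hi)⟩

/-- Every element is an element of the centraliser times a coset word. -/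
theorem exists_coset (g : M) : ∃ i < 5775, ∃ h ∈ HH, g = h * ev L (gW i) := by
  obtain ⟨i, hi, hg⟩ := relsG.table.cover (by decide) (g := g) (gen ▸ Subgroup.mem_top g)
  obtain ⟨hl, hf⟩ := CfsgLib.J2U.checkPath_iff pathG_ok hi
  have hw := relsG.table.mem_of_follow (gW i) 0 (by decide) (fun l hl' => L_len.symm ▸ hl l hl')
  rw [show follow (tget TG.Tb) 0 (gW i) = i from hf, relsG.table.zero, rp_zero, one_mul] at hw
  rw [relsG.toC.genBy_gensH] at hg hw
  refine ⟨i, hi, g * (ev L (gW i))⁻¹, ?_, (inv_mul_cancel_right _ _).symm⟩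
  have := mul_mem hg (inv_mem hw)
  rwa [mul_inv_rev, inv_inv, mul_assoc, inv_mul_cancel_left] at this

/-- The first involution. -/
noncomputable def tau : M := ev L tW

theorem tau_mem : tau ∈ HH := ev_mem_genBy _ (by decide)

theorem cent_tau : Subgroup.centralizer ({tau} : Set M) = HH := by
  have hH : HH ≤ Subgroup.centralizer ({tau} : Set M) := by
    rw [← show genBy L gensH = HH from relsG.toC.genBy_gensH]
    refine (Subgroup.closure_le _).2 fun x hx => ?_
    obtain ⟨l, hl, rfl⟩ := List.mem_map.1 hx
    have hl' : l < 16 := (by decide : ∀ l ∈ gensH, l < 16) l hl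
    have h := eq_of_same (lett_append lett_tW (by simpa [Lett] using hl'))
      (lett_append (by simpa [Lett] using hl') lett_tW) (List.all_eq_true.1 t_central l hl)
    rw [ev_append, ev_append] at h
    simp only [ev_cons, ev_nil, mul_one] at h
    exact Subgroup.mem_centralizer_singleton_iff.2 h.symm
  refine le_antisymm (fun g hg => ?_) hH
  obtain ⟨i, hi, h, hh, rfl⟩ := exists_coset g
  have hc := Subgroup.mem_centralizer_singleton_iff.1 hg
  have hht := Subgroup.mem_centralizer_singleton_iff.1 (hH hh)
  have hw : ev L (gW i) * tau = tau * ev L (gW i) := by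
    refine mul_left_cancel (a := h) ?_
    rw [← mul_assoc, hc, ← mul_assoc, ← hht, mul_assoc]
  have h' := of_allBelow cent_t i hi
  rw [Bool.or_eq_true] at h'
  rcases h' with h' | h'
  · rw [Nat.eq_of_beq_eq_true h', gW_zero, ev_nil, mul_one]; exact hh
  · rw [Bool.not_eq_true'] at h'
    refine absurd ?_ (ne_of_same (lett_append (lett_gW hi) lett_tW) (lett_append lett_tW (lett_gW hi)) h')
    rw [ev_append, ev_append]
    exact hw

theorem orderOf_tau : orderOf tau = 2 := by
  have h := t_invol
  rw [Bool.and_eq_true, Bool.not_eq_true'] at h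
  refine orderOf_eq_prime ?_ ?_
  · rw [sq, tau, ← ev_append, eq_of_same (lett_append lett_tW lett_tW) lett_nil h.1, ev_nil]
  · have := ne_of_same lett_tW lett_nil h.2
    rwa [ev_nil] at this

/-- Every conjugate of the first involution is given by a coset word. -/
theorem exists_zW {z : M} (h : IsConj tau z) : ∃ i < 5775, z = ev L (zW i) := by
  obtain ⟨c, hc⟩ := isConj_iff.1 h
  obtain ⟨i, hi, a, ha, e⟩ := exists_coset c⁻¹
  refine ⟨i, hi, ?_⟩
  have hat : a * tau = tau * a :=
    Subgroup.mem_centralizer_singleton_iff.1 (cent_tau.symm ▸ ha)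
  have ec : c = (ev L (gW i))⁻¹ * a⁻¹ := by rw [← mul_inv_rev, ← e, inv_inv]
  rw [zW, ev_append, ev_append, ev_winv, ← hc, ec, mul_inv_rev, inv_inv, inv_inv]
  show _ = (ev L (gW i))⁻¹ * tau * ev L (gW i)
  calc (ev L (gW i))⁻¹ * a⁻¹ * tau * (a * ev L (gW i))
      = (ev L (gW i))⁻¹ * (a⁻¹ * (tau * a)) * ev L (gW i) := by group
    _ = _ := by rw [← hat, inv_mul_cancel_left]

theorem isConj_zW {i : Nat} : IsConj tau (ev L (zW i)) := by
  refine isConj_iff.2 ⟨(ev L (gW i))⁻¹, ?_⟩
  rw [zW, ev_append, ev_append, ev_winv, inv_inv]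
  rfl

end CfsgLib.HSUniq.Cls
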