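import Cfsg.Agent.HSUniq.Setup
import Cfsg.Agent.HSUniq.Mat

/-!
# Coordinates on the homocyclic subgroup and the matrices of its normalizer
-/

set_option autoImplicit false
set_option linter.unusedSectionVars false
set_option maxRecDepth 4000

namespace CfsgLib.HSUniq

open Subgroup Mat

variable {G : Type*} [Group G]

/-- The element with given coordinates. -/
def cA (e₀ e₁ e₂ : G) (v : ℕ) : G := e₀ ^ (v % 4) * e₁ ^ (v / 4 % 4) * e₂ ^ (v / 16 % 4)

/-- Coordinates on `A` in which `t` has code `T0`. -/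
structure Basis (t : G) (A : Subgroup G) (c : ℕ → G) : Prop where
  mem : ∀ v < 64, c v ∈ A
  add : ∀ v < 64, ∀ w < 64, c (ad v w) = c v * c w
  inj : ∀ v < 64, ∀ w < 64, c v = c w → v = w
  surj : ∀ x ∈ A, ∃ v < 64, c v = x
  t_code : c T0 = t
  shape : ∀ v < 64, c v = c 1 ^ (v % 4) * c 4 ^ (v / 4 % 4) * c 16 ^ (v / 16 % 4)

/-- Conjugation by `g` has matrix `X`. -/
def IsMat (c : ℕ → G) (g : G) (X : ℕ) : Prop :=
  X < 2 ^ 18 ∧ ∀ v < 64, g * c v * g⁻¹ = c (apv X v)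

theorem sm_lt (k v : ℕ) : sm k v < 64 := by
  unfold sm
  omega

theorem apv_units (X : ℕ) : apv X 1 = col X 0 ∧ apv X 4 = col X 1 ∧ apv X 16 = col X 2 := by
  have h0 := sm_table _ (col_lt X 0)
  have h1 := sm_table _ (col_lt X 1)
  have h2 := sm_table _ (col_lt X 2)
  have z : ad 0 0 = 0 := by decide
  have a0 := ad_table _ (col_lt X 0) 0 (by norm_num)
  have a1 := ad_table _ (col_lt X 1) 0 (by norm_num)
  have a2 := ad_table _ (col_lt X 2) 0 (by norm_num)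
  refine ⟨?_, ?_, ?_⟩ <;> simp only [apv]
  · norm_num [h0.2.1, h1.1, h2.1, z, a0.2.2.1]
  · have b := (ad_table 0 (by norm_num) _ (col_lt X 1)).2.1
    norm_num [h0.1, h1.2.1, h2.1, a1.2.2.1, b]
  · have b := (ad_table 0 (by norm_num) _ (col_lt X 2)).2.1
    norm_num [h0.1, h1.1, h2.2.1, a2.2.2.1, b]

namespace Basis

variable {t : G} {A : Subgroup G} {c : ℕ → G} (B : Basis t A c)
include B

theorem zero : c 0 = 1 := by
  have h := B.add 0 (by norm_num) 0 (by norm_num)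
  rw [show ad 0 0 = 0 by decide] at h
  exact left_eq_mul.mp h

theorem comm : ∀ x ∈ A, ∀ y ∈ A, x * y = y * x := by
  intro x hx y hy
  obtain ⟨v, hv, rfl⟩ := B.surj x hx
  obtain ⟨w, hw, rfl⟩ := B.surj y hy
  rw [← B.add v hv w hw, ← B.add w hw v hv, (ad_table v hv w hw).2.1]

theorem c_sm {v : ℕ} (hv : v < 64) : ∀ k < 4, c (sm k v) = c v ^ k := by
  intro k hk
  obtain ⟨h0, h1, h2, h3, -⟩ := sm_table v hv
  have hvv : ad v v < 64 := (ad_table v hv v hv).1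
  interval_cases k
  · rw [h0, B.zero, pow_zero]
  · rw [h1, pow_one]
  · rw [h2, B.add v hv v hv, sq]
  · rw [h3, B.add v hv _ hvv, B.add v hv v hv, pow_succ', sq]

theorem apply_apv (X : ℕ) (v : ℕ) :
    c (apv X v) = c (col X 0) ^ (v % 4) * c (col X 1) ^ (v / 4 % 4) * c (col X 2) ^ (v / 16 % 4) := by
  have h1 := sm_lt (v % 4) (col X 0)
  have h2 := sm_lt (v / 4 % 4) (col X 1)
  have h3 := sm_lt (v / 16 % 4) (col X 2)
  rw [apv, B.add _ h1 _ (ad_table _ h2 _ h3).1, B.add _ h2 _ h3, B.c_sm (col_lt X 0) _ (by omega),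
    B.c_sm (col_lt X 1) _ (by omega), B.c_sm (col_lt X 2) _ (by omega), ← mul_assoc]

theorem mat_unique {g : G} {X Y : ℕ} (hX : IsMat c g X) (hY : IsMat c g Y) : X = Y := by
  have h : ∀ v < 64, apv X v = apv Y v := fun v hv =>
    B.inj _ (apv_lt X v) _ (apv_lt Y v) ((hX.2 v hv).symm.trans (hY.2 v hv))
  rw [mat_eq hX.1, mat_eq hY.1, ← (apv_units X).1, ← (apv_units X).2.1, ← (apv_units X).2.2,
    ← (apv_units Y).1, ← (apv_units Y).2.1, ← (apv_units Y).2.2, h 1 (by norm_num), h 4 (by norm_num),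
    h 16 (by norm_num)]

theorem mat_of_units {g : G} {a b d : ℕ} (ha : a < 64) (hb : b < 64) (hd : d < 64)
    (ea : g * c 1 * g⁻¹ = c a) (eb : g * c 4 * g⁻¹ = c b) (ed : g * c 16 * g⁻¹ = c d) :
    IsMat c g (a + 64 * b + 4096 * d) := by
  refine ⟨by omega, fun v hv => ?_⟩
  obtain ⟨c0, c1, c2⟩ := col_mk ha hb hd
  rw [B.apply_apv, c0, c1, c2, ← ea, ← eb, ← ed, B.shape v hv, conj_pow, conj_pow, conj_pow]
  group

theorem exists_mat {g : G} (hg : ∀ x ∈ A, g * x * g⁻¹ ∈ A) : ∃ X, IsMat c g X := by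
  obtain ⟨a, ha, ea⟩ := B.surj _ (hg _ (B.mem 1 (by norm_num)))
  obtain ⟨b, hb, eb⟩ := B.surj _ (hg _ (B.mem 4 (by norm_num)))
  obtain ⟨d, hd, ed⟩ := B.surj _ (hg _ (B.mem 16 (by norm_num)))
  exact ⟨_, B.mat_of_units ha hb hd ea.symm eb.symm ed.symm⟩

theorem isMat_one : IsMat c (1 : G) one :=
  ⟨by decide, fun v hv => by rw [one_facts.2.2.2 v hv]; group⟩

theorem isMat_mul {g h : G} {X Y : ℕ} (hX : IsMat c g X) (hY : IsMat c h Y) :
    IsMat c (g * h) (mmul X Y) := by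
  have key : ∀ v < 64, g * h * c v * (g * h)⁻¹ = c (apv X (apv Y v)) := fun v hv => by
    rw [← hX.2 _ (apv_lt Y v), ← hY.2 v hv]; group
  refine B.mat_of_units (apv_lt _ _) (apv_lt _ _) (apv_lt _ _) ?_ ?_ ?_
  · rw [key 1 (by norm_num), (apv_units Y).1]
  · rw [key 4 (by norm_num), (apv_units Y).2.1]
  · rw [key 16 (by norm_num), (apv_units Y).2.2]

theorem isMat_pow {g : G} {X : ℕ} (hX : IsMat c g X) : ∀ n, IsMat c (g ^ n) (mpow X n)
  | 0 => by rw [pow_zero]; exact B.isMat_one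
  | n + 1 => by rw [pow_succ]; exact B.isMat_mul (isMat_pow hX n) hX

theorem isMat_mem {x : G} (hx : x ∈ A) : IsMat c x one :=
  ⟨by decide, fun v hv => by
    rw [B.comm x hx _ (B.mem v hv), mul_inv_cancel_right, one_facts.2.2.2 v hv]⟩

end Basis

/-- Coordinates exist. -/
theorem exists_coords [Finite G] {t : G} {R V A : Subgroup G} (h : Hyp t R V A) :
    ∃ c : ℕ → G, Basis t A c := by
  classical
  obtain ⟨e, -⟩ := h.A_basis
  have hcomm : ∀ x ∈ A, ∀ y ∈ A, x * y = y * x := fun x hx y hy =>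
    congrArg Subtype.val (e.injective (show e (⟨x, hx⟩ * ⟨y, hy⟩) = e (⟨y, hy⟩ * ⟨x, hx⟩) by
      rw [map_mul, map_mul, mul_comm]))
  have hroot : ∀ v ∈ V, ∃ x ∈ A, x * x = v := by
    intro v hv
    have hz : e ⟨v, h.V_le_A hv⟩ * e ⟨v, h.V_le_A hv⟩ = 1 := by
      rw [← map_mul, ← map_one e]
      exact congrArg e (Subtype.ext (h.V_sq v hv))
    obtain ⟨w, hw⟩ : ∃ w, w * w = e ⟨v, h.V_le_A hv⟩ := by
      generalize e ⟨v, h.V_le_A hv⟩ = z at hz
      revert z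
      decide +kernel
    refine ⟨e.symm w, (e.symm w).2, ?_⟩
    rw [← Subgroup.coe_mul, ← map_mul, hw, MulEquiv.symm_apply_apply]
  haveI := Fintype.ofFinite ↥V
  have pick : ∀ S : Finset ↥V, S.card < 8 → ∃ a, a ∉ S := by
    intro S hS
    by_contra hh
    push Not at hh
    rw [Finset.eq_univ_iff_forall.2 hh, Finset.card_univ, ← Nat.card_eq_fintype_card, h.card_V] at hS
    omega
  set τ : ↥V := ⟨t, h.t_V⟩
  obtain ⟨a, ha⟩ := pick {1, τ} (lt_of_le_of_lt Finset.card_le_two (by norm_num))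
  obtain ⟨b, hb⟩ := pick {1, τ, a, τ * a} (lt_of_le_of_lt Finset.card_le_four (by norm_num))
  have hs : ∀ x : ↥V, x * x = 1 := fun x => Subtype.ext (h.V_sq x x.2)
  have t1 : τ ≠ 1 := fun hh => by
    have e1 : t = 1 := congrArg Subtype.val hh
    have := h.ord_t
    rw [e1, orderOf_one] at this
    norm_num at this
  have ind : ∀ p q r : Bool, (if p then a else 1) * (if q then τ else 1) * (if r then b else 1) = 1 →
      p = false ∧ q = false ∧ r = false := by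
    have hinv : ∀ x y : ↥V, x * y = 1 → y = x := fun x y hh =>
      (inv_eq_of_mul_eq_one_right hh).symm.trans (inv_eq_of_mul_eq_one_right (hs x))
    have hVc : ∀ x y : ↥V, x * y = y * x := fun x y =>
      Subtype.ext (hcomm _ (h.V_le_A x.2) _ (h.V_le_A y.2))
    intro p q r hh
    cases r
    swap
    · refine absurd ?_ hb
      have := hinv _ _ hh
      cases p <;> cases q <;> simp_all
    cases p
    swap
    · refine absurd ?_ ha
      cases q <;> simp at hh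
      · simp [hh]
      · have := hinv _ _ hh
        simp [this]
    cases q
    · exact ⟨rfl, rfl, rfl⟩
    · simp at hh; exact absurd hh t1
  obtain ⟨x₀, hx₀, s₀⟩ := hroot a a.2
  obtain ⟨x₁, hx₁, s₁⟩ := hroot t h.t_V
  obtain ⟨x₂, hx₂, s₂⟩ := hroot b b.2
  have h4 : ∀ x ∈ A, x ^ 4 = 1 := fun x hx => by
    rw [show (4 : ℕ) = 2 * 2 from rfl, pow_mul, sq, sq]
    exact h.V_sq _ (h.A_two x hx)
  have hco : ∀ (x : G) (i : ℕ), x ∈ A → x ^ i ∈ A := fun x i hx => pow_mem hx i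
  have hmem : ∀ v, cA x₀ x₁ x₂ v ∈ A := fun v =>
    mul_mem (mul_mem (hco _ _ hx₀) (hco _ _ hx₁)) (hco _ _ hx₂)
  have hmod : ∀ (x : G), x ∈ A → ∀ i j : ℕ, x ^ ((i + j) % 4) = x ^ i * x ^ j := fun x hx i j => by
    rw [← pow_add]
    conv_rhs => rw [← Nat.mod_add_div (i + j) 4, pow_add, pow_mul, h4 x hx, one_pow, mul_one]
  have hadd : ∀ v < 64, ∀ w < 64,
      cA x₀ x₁ x₂ (ad v w) = cA x₀ x₁ x₂ v * cA x₀ x₁ x₂ w := by
    intro v hv w hw
    have e0 : ad v w % 4 = (v % 4 + w % 4) % 4 := by unfold ad; omega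
    have e1 : ad v w / 4 % 4 = (v / 4 % 4 + w / 4 % 4) % 4 := by unfold ad; omega
    have e2 : ad v w / 16 % 4 = (v / 16 % 4 + w / 16 % 4) % 4 := by unfold ad; omega
    simp only [cA, e0, e1, e2, hmod _ hx₀, hmod _ hx₁, hmod _ hx₂]
    have c1 := hcomm _ (hco x₁ (v / 4 % 4) hx₁) _ (hco x₀ (w % 4) hx₀)
    have c2 := hcomm _ (hco x₂ (v / 16 % 4) hx₂) _ (mul_mem (hco x₀ (w % 4) hx₀) (hco x₁ (w / 4 % 4) hx₁))
    calc x₀ ^ (v % 4) * x₀ ^ (w % 4) * (x₁ ^ (v / 4 % 4) * x₁ ^ (w / 4 % 4)) *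
          (x₂ ^ (v / 16 % 4) * x₂ ^ (w / 16 % 4))
        = x₀ ^ (v % 4) * (x₀ ^ (w % 4) * x₁ ^ (v / 4 % 4)) * x₁ ^ (w / 4 % 4) *
          x₂ ^ (v / 16 % 4) * x₂ ^ (w / 16 % 4) := by group
      _ = x₀ ^ (v % 4) * x₁ ^ (v / 4 % 4) * ((x₀ ^ (w % 4) * x₁ ^ (w / 4 % 4)) *
          x₂ ^ (v / 16 % 4)) * x₂ ^ (w / 16 % 4) := by rw [← c1]; group
      _ = _ := by rw [← c2]; group
  have ker : ∀ v < 64, cA x₀ x₁ x₂ v = 1 → v = 0 := by
    intro v hv hv1
    have par : ∀ (x : G) (s : ↥V), x ∈ A → x * x = s → ∀ i, i < 4 →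
        x ^ i * x ^ i = (((if i % 2 = 1 then s else 1) : ↥V) : G) := by
      intro x s hx hxs i hi
      rw [← pow_add]
      interval_cases i
      · simp
      · simp [pow_two, hxs]
      · rw [h4 x hx]; simp
      · rw [show 3 + 3 = 4 + 2 from rfl, pow_add, h4 x hx, one_mul, sq, hxs]; simp
    have hsq : cA x₀ x₁ x₂ v * cA x₀ x₁ x₂ v = 1 := by rw [hv1, one_mul]
    have e : cA x₀ x₁ x₂ v * cA x₀ x₁ x₂ v = x₀ ^ (v % 4) * x₀ ^ (v % 4) *
        (x₁ ^ (v / 4 % 4) * x₁ ^ (v / 4 % 4)) * (x₂ ^ (v / 16 % 4) * x₂ ^ (v / 16 % 4)) := by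
      have := hcomm _ (hco x₂ (v / 16 % 4) hx₂) _ (mul_mem (hco x₀ (v % 4) hx₀) (hco x₁ (v / 4 % 4) hx₁))
      have c1 := hcomm _ (hco x₁ (v / 4 % 4) hx₁) _ (hco x₀ (v % 4) hx₀)
      unfold cA
      calc _ = x₀ ^ (v % 4) * x₁ ^ (v / 4 % 4) * (x₂ ^ (v / 16 % 4) * (x₀ ^ (v % 4) * x₁ ^ (v / 4 % 4))) *
            x₂ ^ (v / 16 % 4) := by group
        _ = x₀ ^ (v % 4) * (x₁ ^ (v / 4 % 4) * x₀ ^ (v % 4)) * x₁ ^ (v / 4 % 4) * x₂ ^ (v / 16 % 4) *
            x₂ ^ (v / 16 % 4) := by rw [this]; group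
        _ = _ := by rw [c1]; group
    rw [e, par x₀ a hx₀ s₀ _ (by omega), par x₁ τ hx₁ s₁ _ (by omega), par x₂ b hx₂ s₂ _ (by omega),
      ← Subgroup.coe_mul, ← Subgroup.coe_mul, ← Subgroup.coe_one V] at hsq
    have hp := ind (decide (v % 4 % 2 = 1)) (decide (v / 4 % 4 % 2 = 1)) (decide (v / 16 % 4 % 2 = 1))
      (by simpa only [decide_eq_true_eq] using Subtype.ext hsq)
    simp only [decide_eq_false_iff_not] at hp
    -- all coordinates are even
    have half : ∀ (x : G) (s : ↥V), x * x = s → ∀ i, i < 4 → ¬ i % 2 = 1 →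
        x ^ i = (((if i = 2 then s else 1) : ↥V) : G) := by
      intro x s hxs i hi hodd
      interval_cases i <;> simp_all [pow_two]
    rw [cA, half x₀ a s₀ _ (by omega) hp.1, half x₁ τ s₁ _ (by omega) hp.2.1,
      half x₂ b s₂ _ (by omega) hp.2.2, ← Subgroup.coe_mul, ← Subgroup.coe_mul, ← Subgroup.coe_one V] at hv1
    have hq := ind (decide (v % 4 = 2)) (decide (v / 4 % 4 = 2)) (decide (v / 16 % 4 = 2))
      (by simpa only [decide_eq_true_eq] using Subtype.ext hv1)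
    simp only [decide_eq_false_iff_not] at hq
    omega
  have inj : ∀ v < 64, ∀ w < 64, cA x₀ x₁ x₂ v = cA x₀ x₁ x₂ w → v = w := by
    intro v hv w hw he
    have hn := (ad_table w hw w hw).2.2.2
    have h0 : cA x₀ x₁ x₂ (ad v (ng w)) = 1 := by
      rw [hadd v hv _ hn.2, he, ← hadd w hw _ hn.2, hn.1]
      simp [cA]
    have := ker _ (ad_table v hv _ hn.2).1 h0
    unfold ad ng at this
    omega
  refine ⟨cA x₀ x₁ x₂, fun v _ => hmem v, hadd, inj, ?_, ?_, fun v _ => ?_⟩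
  · intro x hx
    have hA : Nat.card A = 64 := by
      rw [Nat.card_congr e.toEquiv, Nat.card_congr Multiplicative.toAdd, Nat.card_eq_fintype_card]
      simp [Fintype.card_prod, ZMod.card]
    let f : Fin 64 → ↥A := fun v => ⟨_, hmem v⟩
    have hb := (Nat.bijective_iff_injective_and_card f).2
      ⟨fun v w hvw => Fin.ext (inj v v.2 w w.2 (congrArg Subtype.val hvw)), by simp [hA]⟩
    obtain ⟨v, hv⟩ := hb.2 ⟨x, hx⟩
    exact ⟨v, v.2, congrArg Subtype.val hv⟩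
  · show cA x₀ x₁ x₂ 8 = t
    simp [cA, pow_two, s₁]
  · simp [cA]

end CfsgLib.HSUniq
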