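import Cfsg.Agent.HSUniq.SplitTable
import Mathlib.GroupTheory.Perm.List
import Mathlib.Data.Fintype.Perm

/-!
# The core as a group of numbers, and the candidates for the action of the element of order five
-/

set_option autoImplicit false
set_option maxRecDepth 100000
set_option synthInstance.maxSize 3000

namespace CfsgLib.HSUniq

open Mat

/-- The twelve letters of the stabilizer of `t` in the normalizer. -/
def codesB : List Nat :=
  [1 + idP, 3 + idP, 4 + idP, 12 + idP, 16 + idP, 48 + idP, 64 * A0, 64 * A0, 64 * D0,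
    64 * mpow D0 2, 64 * S0, 64 * S0]

/-- The five generators of the core as words. -/
def genR : List (List Nat) := [[0, 0, 2, 4, 4], [0, 0], [4, 4], [6], [8, 6, 9]]

/-- The word of a number below `64`. -/
def wordR (n : Nat) : List Nat :=
  (List.replicate (n % 4) (genR.getD 0 [])).flatten ++ (List.replicate (n / 4 % 2) (genR.getD 1 [])).flatten ++
    (List.replicate (n / 8 % 2) (genR.getD 2 [])).flatten ++ (List.replicate (n / 16 % 2) (genR.getD 3 [])).flatten ++
    (List.replicate (n / 32 % 2) (genR.getD 4 [])).flatten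

/-- The multiplication of the core. -/
def rmul (n m : Nat) : Nat :=
  (n + m + 2 * (n / 4 / 4 % 2 * (m / 4 % 2 + m / 4 / 2 % 2) + n / 4 / 8 * (m / 4 / 2 % 2))) % 4 +
    4 * ((n / 4) ^^^ (m / 4))

/-- The codes of the core. -/
def codeR : List Nat := [4210752, 4210790, 4210760, 4210798, 4210754, 4210788, 4210762, 4210796, 4210784, 4210758, 4210792, 4210766, 4210786, 4210756, 4210794, 4210764, 13648832, 13648870, 13648840, 13648878, 13648834, 13648868, 13648842, 13648876, 13648864, 13648838, 13648872, 13648846, 13648866, 13648836, 13648874, 13648844, 5292736, 5292774, 5292744, 5292782, 5292738, 5292772, 5292746, 5292780, 5292768, 5292742, 5292776, 5292750, 5292770, 5292740, 5292778, 5292748, 14730048, 14730086, 14730056, 14730094, 14730050, 14730084, 14730058, 14730092, 14730080, 14730054, 14730088, 14730062, 14730082, 14730052, 14730090, 14730060]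

theorem codeR_word : ∀ n < 64, evP codesB (wordR n) = codeR.getD n 0 := by decide +kernel

theorem codeR_mul : ∀ n < 64, ∀ m < 64,
    rmul n m < 64 ∧ sdmul (codeR.getD n 0) (codeR.getD m 0) = codeR.getD (rmul n m) 0 := by decide +kernel

theorem codeR_inj : ∀ n < 64, ∀ m < 64, codeR.getD n 0 = codeR.getD m 0 → n = m := by decide +kernel

theorem genR_inR : ∀ v ∈ [38, 2, 32], v < 64 ∧ (sm 2 v = 0 ∨ sm 2 v = T0) := by decide +kernel

/-- A power in the core. -/
def rpw (x : Nat) : Nat → Nat
  | 0 => 0
  | k + 1 => rmul (rpw x k) x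

/-- The endomorphism with the given images of the five generators. -/
def ext (F : List Nat) (n : Nat) : Nat :=
  rmul (rmul (rmul (rmul (rpw (F.getD 0 0) (n % 4)) (rpw (F.getD 1 0) (n / 4 % 2)))
    (rpw (F.getD 2 0) (n / 8 % 2))) (rpw (F.getD 3 0) (n / 16 % 2))) (rpw (F.getD 4 0) (n / 32 % 2))

/-- The images of the generators under the element of order five. -/
def fx : List Nat := [1, 25, 61, 4, 12]

/-- The images under the element normalizing the Sylow five-subgroup. -/
def fc : List Nat := [3, 6, 12, 55, 43]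

/-- The images under the inverse of that element. -/
def fci : List Nat := [3, 6, 14, 58, 45]

/-- The images under the first element of order three. -/
def fg : List Nat := [1, 8, 12, 43, 55]

/-- The images under the second element of order three. -/
def fh : List Nat := [1, 14, 6, 48, 16]

/-- Conjugation by a word is given by the list of images. -/
def cjOK (r : List Nat) (F : List Nat) : Bool :=
  (List.range 5).all fun k =>
    evP codesB (r ++ genR.getD k [] ++ winv r) == codeR.getD (F.getD k 0) 0 && Nat.ble (F.getD k 0 + 1) 64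

theorem cj_checks : cjOK [6, 9, 10, 4] fc = true ∧ cjOK [5, 11, 8, 7] fci = true ∧
    cjOK [6, 8, 4] fg = true ∧ cjOK [9] fh = true ∧
    evP codesB [6, 8, 4, 6, 8, 4, 6, 8, 4] = idP := by decide +kernel

/-- The elements of the five conjugates of the four group. -/
def vsets : List (List Nat) :=
  [[0, 2, 4, 6, 8, 10, 12, 14], [0, 2, 16, 18, 32, 34, 48, 50], [0, 2, 25, 27, 36, 38, 61, 63],
    [0, 2, 21, 23, 45, 47, 56, 58], [0, 2, 28, 30, 41, 43, 53, 55]]

/-- The translations moving the first conjugate to the others. -/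
def uword : List (List Nat) := [[], [0], [4], [0, 4]]

theorem vset_zero : ∀ r < 8, ∃ n ∈ vsets.getD 0 [],
    codeR.getD n 0 = 2 * (r % 2) + 8 * (r / 2 % 2) + 32 * (r / 4 % 2) + idP := by
  decide +kernel

theorem vset_conj : ∀ j < 4, ∀ n ∈ vsets.getD 1 [], ∃ m ∈ vsets.getD (j + 1) [],
    evP codesB (uword.getD j [] ++ wordR n ++ winv (uword.getD j [])) = codeR.getD m 0 := by
  decide +kernel

theorem vsets_lt : ∀ L ∈ vsets, ∀ n ∈ L, n < 64 := by decide +kernel

theorem vset_one : ∀ n ∈ vsets.getD 1 [], ∃ i < 2, ∃ j < 2, ∃ k < 2,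
    n = rmul (rmul (rpw 2 i) (rpw 16 j)) (rpw 32 k) := by decide +kernel

/-- The composition with an endomorphism. -/
def fcomp (F : List Nat) (l : List Nat) : List Nat := l.map (ext F)

/-- The images of the generators under the iterates. -/
def fiter (F : List Nat) : Nat → List Nat
  | 0 => [1, 4, 8, 16, 32]
  | k + 1 => fcomp F (fiter F k)

/-- Conjugation inside the core. -/
def inn (r n : Nat) : Nat := rmul (rmul r n) (rpw r 3)

theorem inn_inv : ∀ r < 64, rmul r (rpw r 3) = 0 ∧ rpw r 3 < 64 := by decide +kernel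

theorem inn_coset : ∀ r < 64, ∀ n < 64, inn r n = inn (4 * (r / 4)) n := by decide +kernel

/-- Compatibility with the normalizer of the five-subgroup. -/
def compat (F : List Nat) : Bool :=
  (List.range 16).any fun r => (List.range 5).all fun k =>
    ext fc (ext F (fci.getD k 0)) == inn (4 * r) ((fiter F 2).getD k 0)

/-- The images respect the commutators of the generators. -/
def commOK (p q a b : Nat) : Bool :=
  rmul p a != rmul a p && rmul q a != rmul a q && rmul q b != rmul b q && rmul p b == rmul b p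

/-- The candidates are conjugate to the standard one. -/
theorem cand_table : ∀ p ∈ vsets.getD 2 [], ∀ q ∈ vsets.getD 2 [], ∀ a ∈ vsets.getD 0 [],
    ∀ b ∈ vsets.getD 0 [], commOK p q a b = true → fiter [1, p, q, a, b] 5 = [1, 4, 8, 16, 32] →
      compat [1, p, q, a, b] = true →
      ∃ r < 16, ∀ k < 5, inn (4 * r) (ext [1, p, q, a, b]
        (inn (rpw (4 * r) 3) (([1, 4, 8, 16, 32] : List Nat).getD k 0))) = fx.getD k 0 := by
  decide +kernel

theorem fx_eqs : (∀ k < 5, ext fc (ext fx (fci.getD k 0)) = (fiter fx 2).getD k 0) ∧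
    (∀ k < 5, ext fx (fh.getD k 0) = ext fg (fx.getD k 0)) ∧ ext fx 3 = 3 := by
  decide +kernel

/-- The translation of the five points. -/
def trn (v : Nat) : Equiv.Perm (Fin 5) :=
  (Equiv.swap 1 2 * Equiv.swap 3 4) ^ (v % 2) * (Equiv.swap 1 3 * Equiv.swap 2 4) ^ (v / 16 % 2)

/-- The image of the element of order five. -/
def tauP : Equiv.Perm (Fin 5) := List.formPerm [0, 2, 3, 4, 1]

/-- The image of the element of order three. -/
def dP : Equiv.Perm (Fin 5) := List.formPerm [2, 3, 4]

/-- The image of the inverting involution. -/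
def sP : Equiv.Perm (Fin 5) := Equiv.swap 2 3

/-- The parities which name the translated point. -/
def par2 (v : Nat) : Nat := v % 2 + 2 * (v / 16 % 2)

/-- The representatives of the four translations. -/
def urep : List Nat := [0, 1, 16, 17]

theorem urep_facts :
    (∀ v < 64, ∀ u < 64, par2 v = par2 u → sm 2 (ad (ng u) v) = 0 ∨ sm 2 (ad (ng u) v) = T0) ∧
    (∀ v < 64, par2 v ≠ 0 → sm 2 (ad v (ng (apv A0 v))) ≠ 0 ∨
      sm 2 (ad (apv D0 v) (ng (apv A0 (apv D0 v)))) ≠ 0) ∧
    (∀ j < 4, urep.getD j 0 < 64 ∧ par2 (urep.getD j 0) = j) ∧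
    (∀ i < 4, ∀ j < 4, i ≠ j → par2 (ad (ng (urep.getD i 0)) (urep.getD j 0)) ≠ 0) := by
  decide +kernel

theorem par2_lt (v : Nat) : par2 v < 4 := by unfold par2; omega

theorem trn_facts :
    (∀ v < 64, ∀ j : Fin 4, trn v j.succ = (⟨par2 (ad v (urep.getD j 0)), par2_lt _⟩ : Fin 4).succ) ∧
    (∀ j : Fin 4, dP j.succ = (⟨par2 (apv D0 (urep.getD j 0)), par2_lt _⟩ : Fin 4).succ) ∧
    (∀ j : Fin 4, sP j.succ = (⟨par2 (apv S0 (urep.getD j 0)), par2_lt _⟩ : Fin 4).succ) ∧
    (∀ v < 64, trn v 0 = 0) ∧ dP 0 = 0 ∧ sP 0 = 0 := by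
  decide +kernel

theorem tau_eqs : dP⁻¹ * sP * trn 16 * tauP = tauP * tauP * (dP⁻¹ * sP * trn 16) ∧
    dP * trn 16 * tauP = tauP * dP⁻¹ ∧ tauP 0 = 2 ∧ tauP 1 = 0 ∧
    (∀ j : Fin 5, ∃ i < 5, (tauP ^ i) 0 = j) ∧ tauP ^ 5 = 1 ∧ tauP ^ 16 = tauP := by
  decide +kernel

end CfsgLib.HSUniq
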