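import Cfsg.Agent.HSUniq.Split
import Cfsg.Agent.HSUniq.RModel

/-!
# The core of the involution centralizer in numbers
-/

set_option autoImplicit false
set_option linter.unusedSectionVars false
set_option maxRecDepth 4000

namespace CfsgLib.HSUniq

open Subgroup Mat CfsgLib.Coset

variable {G : Type*} [Group G] [Finite G] {t : G} {R V A : Subgroup G} {c : ℕ → G} {w d a s : G}

theorem iv_cases (P : ℕ → ℕ → Prop) (h : ∀ l < 16, P l (iv l)) (hl : ∀ l, 16 ≤ l → P l l) : ∀ l, P l (iv l) := by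
  intro l
  by_cases h16 : l < 16
  · exact h l h16
  · have : iv l = l := by
      unfold iv
      rw [List.getD_eq_default _ _ (by simp; omega)]
    rw [this]
    exact hl l (by omega)

/-- Words in letters closed under inversion. -/
theorem ev_winv {L : List G} (hinv : ∀ l, fl L (iv l) = (fl L l)⁻¹) :
    ∀ r : List ℕ, ev L (winv r) = (ev L r)⁻¹
  | [] => by simp [winv]
  | l :: r => by
    have ih := ev_winv hinv r
    rw [winv] at ih
    rw [winv, List.reverse_cons, List.map_append, ev_append, ih, List.map_singleton, ev_cons, ev_nil, mul_one,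
      ev_cons, mul_inv_rev, hinv]

theorem ev_replicate (L : List G) (r : List ℕ) : ∀ k, ev L (List.replicate k r).flatten = ev L r ^ k
  | 0 => by simp
  | k + 1 => by rw [List.replicate_succ, List.flatten_cons, ev_append, ev_replicate L r k, pow_succ']

/-- The twelve letters. -/
def lettersB (c : ℕ → G) (d a s : G) : List G :=
  [c 1, c 3, c 4, c 12, c 16, c 48, a, a, d, d ^ 2, s, s]

/-- The element of the core with a given number. -/
def phiR (c : ℕ → G) (d a : G) (n : ℕ) : G :=
  c 38 ^ (n % 4) * c 2 ^ (n / 4 % 2) * c 32 ^ (n / 8 % 2) * a ^ (n / 16 % 2) * (d * a * d⁻¹) ^ (n / 32 % 2)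

theorem Gens.pre (G' : Gens t R V A c w d a s) : Pre t R V A c w d a s := by
  have B := G'.basis
  have e := fun r (hr : r ∈ relsM) => G'.rels r (List.mem_append_left _ hr)
  have d3 : d ^ 3 = 1 := by
    have := e [8, 8, 8] (by decide)
    simpa [ev, fl, lettersG, pow_succ, mul_assoc] using this
  have dinv : d ^ 2 = d⁻¹ := eq_inv_of_mul_eq_one_right (by rw [← pow_succ']; exact d3)
  have w7 : w ^ 7 = 1 := by
    have := e [12, 12, 12, 12, 12, 12, 12] (by decide)
    simpa [ev, fl, lettersG, pow_succ, mul_assoc] using this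
  have winv' : w ^ 6 = w⁻¹ := eq_inv_of_mul_eq_one_right (by rw [← pow_succ']; exact w7)
  have a2 : a * a = 1 := by
    have := e [6, 6] (by decide)
    simpa [ev, fl, lettersG] using this
  have s2 : s * s = 1 := by
    have := e [10, 10] (by decide)
    simpa [ev, fl, lettersG] using this
  have hdw : d * w * d⁻¹ = w ^ 2 := by
    have := e [8, 12, 9, 13, 13] (by decide)
    simp [ev, fl, lettersG, dinv, winv'] at this
    calc d * w * d⁻¹ = d * (w * (d⁻¹ * (w⁻¹ * w⁻¹))) * (w * w) := by group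
      _ = w ^ 2 := by rw [this, one_mul, sq]
  have sd : s * d * s = d⁻¹ := by
    have := e [10, 8, 11, 8] (by decide)
    simp [ev, fl, lettersG] at this
    exact eq_inv_of_mul_eq_one_left (by simpa [mul_assoc] using this)
  have sa : s * a * s = a := by
    have := e [10, 6, 11, 7] (by decide)
    simp [ev, fl, lettersG] at this
    calc s * a * s = s * (a * (s * a)) * a⁻¹ := by group
      _ = a := by rw [this, one_mul, inv_eq_of_mul_eq_one_right a2]
  have hb2 : d * a * d⁻¹ * (d * a * d⁻¹) = 1 := by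
    rw [show d * a * d⁻¹ * (d * a * d⁻¹) = d * (a * a) * d⁻¹ by group, a2, mul_one, mul_inv_cancel]
  have ac : a * (d * a * d⁻¹) = d * a * d⁻¹ * a := by
    have := e [6, 8, 6, 9, 6, 8, 6, 9] (by decide)
    simp [ev, fl, lettersG, dinv] at this
    have h1 : (a * (d * a * d⁻¹)) * (a * (d * a * d⁻¹)) = 1 := by rw [← this]; group
    calc a * (d * a * d⁻¹) = (a * (d * a * d⁻¹))⁻¹ := eq_inv_of_mul_eq_one_right h1
      _ = _ := by rw [mul_inv_rev, inv_eq_of_mul_eq_one_right hb2, inv_eq_of_mul_eq_one_right a2]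
  have ap : a * (d * a * d⁻¹) * (d * (d * a * d⁻¹) * d⁻¹) = 1 := by
    have := e [6, 8, 6, 9, 8, 8, 6, 9, 9] (by decide)
    simp [ev, fl, lettersG, dinv] at this
    rw [← this]; group
  exact ⟨⟨B, G'.w_mem, G'.d_mem, w7, d3, hdw, G'.mat_w, G'.mat_d⟩, G'.a_mem, G'.mat_a, G'.mat_s,
    G'.s_mem, a2, s2, ac, ap, sd, sa, G'.moved⟩

theorem lettersB_inv (h : Hyp t R V A) (G' : Gens t R V A c w d a s) :
    ∀ l, fl (lettersB c d a s) (iv l) = (fl (lettersB c d a s) l)⁻¹ := by
  have P := G'.pre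
  have B := G'.basis
  have hc : ∀ u v, u < 64 → v < 64 → ad u v = 0 → c v = (c u)⁻¹ := fun u v hu hv e =>
    eq_inv_of_mul_eq_one_right (by rw [← B.add u hu v hv, e, B.zero])
  have dd : d ^ 2 = d⁻¹ := eq_inv_of_mul_eq_one_right (by rw [← pow_succ']; exact P.wd.d_pow)
  refine iv_cases (fun l l' => fl (lettersB c d a s) l' = (fl (lettersB c d a s) l)⁻¹) ?_ fun l hl => ?_
  · intro l hl
    have ha := (inv_eq_of_mul_eq_one_right P.a_sq).symm
    have hs := (inv_eq_of_mul_eq_one_right P.s_sq).symm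
    interval_cases l <;>
      simp only [fl, lettersB, iv, List.getD_cons_succ, List.getD_cons_zero, List.getD_nil, inv_one]
    · exact hc 1 3 (by norm_num) (by norm_num) (by decide)
    · exact hc 3 1 (by norm_num) (by norm_num) (by decide)
    · exact hc 4 12 (by norm_num) (by norm_num) (by decide)
    · exact hc 12 4 (by norm_num) (by norm_num) (by decide)
    · exact hc 16 48 (by norm_num) (by norm_num) (by decide)
    · exact hc 48 16 (by norm_num) (by norm_num) (by decide)
    · exact ha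
    · exact ha
    · exact dd
    · rw [dd, inv_inv]
    · exact hs
    · exact hs
  · rw [fl_of_le _ (by simp [lettersB]; omega), inv_one]

/-- The subgroup generated by the symmetric group of degree four is a complement in the stabilizer. -/
theorem four_compl (h : Hyp t R V A) (G' : Gens t R V A c w d a s) :
    closure ({a, d, s} : Set G) ≤ normalizer (V : Set G) ∧
      ∀ x ∈ closure ({a, d, s} : Set G), x ∈ A → x = 1 :=
  ⟨(G'.pre.four_facts h).1.trans inf_le_left, (G'.pre.four_facts h).2.1⟩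

theorem rep_lettersB (G' : Gens t R V A c w d a s) :
    ∀ l, Rep c (closure ({a, d, s} : Set G)) (fl (lettersB c d a s) l) (codesB.getD l idP) := by
  have B := G'.basis
  have ha : a ∈ closure ({a, d, s} : Set G) := subset_closure (by simp)
  have hd : d ∈ closure ({a, d, s} : Set G) := subset_closure (by simp)
  have hs : s ∈ closure ({a, d, s} : Set G) := subset_closure (by simp)
  have key : ∀ {g : G} {X : ℕ}, g ∈ closure ({a, d, s} : Set G) → IsMat c g X →
      Rep c (closure ({a, d, s} : Set G)) g (64 * X) := fun hg hX => by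
    have := Rep.mem (v := 0) hg hX (by norm_num)
    rwa [B.zero, one_mul, Nat.zero_add] at this
  have rv := fun v (hv : v < 64) => Rep.vec B (closure ({a, d, s} : Set G)) hv
  intro l
  rcases l with _ | _ | _ | _ | _ | _ | _ | _ | _ | _ | _ | _ | l <;>
    simp only [codesB, lettersB, fl, List.getD_cons_succ, List.getD_cons_zero, List.getD_nil]
  · exact rv 1 (by norm_num)
  · exact rv 3 (by norm_num)
  · exact rv 4 (by norm_num)
  · exact rv 12 (by norm_num)
  · exact rv 16 (by norm_num)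
  · exact rv 48 (by norm_num)
  · exact key ha G'.mat_a
  · exact key ha G'.mat_a
  · exact key hd G'.mat_d
  · exact key (pow_mem hd 2) (B.isMat_pow G'.mat_d 2)
  · exact key hs G'.mat_s
  · exact key hs G'.mat_s
  · exact Rep.one B _

theorem Rep.unique (B : Basis t A c) {L : Subgroup G} (htriv : ∀ x ∈ L, x ∈ A → x = 1) {g : G} {p q : ℕ}
    (hp : Rep c L g p) (hq : Rep c L g q) : p = q := by
  obtain ⟨x, hx, mx, rfl⟩ := hp
  obtain ⟨y, hy, my, e⟩ := hq
  have hu := Nat.mod_lt p (show 64 > 0 by norm_num)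
  have hv := Nat.mod_lt q (show 64 > 0 by norm_num)
  have hxy : x * y⁻¹ ∈ A := by
    rw [show x * y⁻¹ = (c (p % 64))⁻¹ * (c (p % 64) * x) * y⁻¹ by group, e,
      show (c (p % 64))⁻¹ * (c (q % 64) * y) * y⁻¹ = (c (p % 64))⁻¹ * c (q % 64) by group]
    exact mul_mem (inv_mem (B.mem _ hu)) (B.mem _ hv)
  have exy := mul_inv_eq_one.1 (htriv _ (mul_mem hx (inv_mem hy)) hxy)
  subst exy
  have e1 := B.inj _ hu _ hv (mul_right_cancel e)
  have e2 := B.mat_unique mx my
  omega

theorem Rep.eq (h : Hyp t R V A) (B : Basis t A c) {L : Subgroup G} (hle : L ≤ normalizer (V : Set G))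
    (htriv : ∀ x ∈ L, x ∈ A → x = 1) {g k : G} {p : ℕ} (hg : Rep c L g p) (hk : Rep c L k p) : g = k := by
  obtain ⟨x, hx, mx, rfl⟩ := hg
  obtain ⟨y, hy, my, rfl⟩ := hk
  have hA := (redM_eq_iff h B (hle hx) (hle hy)).1 (by rw [mat_of_isMat B mx, mat_of_isMat B my])
  rw [inv_mul_eq_one.1 (htriv _ (mul_mem (inv_mem hx) hy) hA)]

theorem evB_eq_vec (h : Hyp t R V A) (G' : Gens t R V A c w d a s) {r : List ℕ} {v : ℕ} (hv : v < 64)
    (e : evP codesB r = v + idP) : ev (lettersB c d a s) r = c v := by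
  obtain ⟨hle, htriv⟩ := four_compl h G'
  have := Rep.ev_rep G'.basis _ (rep_lettersB G') r
  rw [e] at this
  exact Rep.eq h G'.basis hle htriv this (Rep.vec G'.basis _ hv)

theorem phiR_word (h : Hyp t R V A) (G' : Gens t R V A c w d a s) (n : ℕ) :
    phiR c d a n = ev (lettersB c d a s) (wordR n) := by
  have dd : d ^ 2 = d⁻¹ := eq_inv_of_mul_eq_one_right (by rw [← pow_succ']; exact G'.pre.wd.d_pow)
  simp only [wordR, ev_append, ev_replicate, genR, List.getD_cons_succ, List.getD_cons_zero]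
  rw [evB_eq_vec h G' (v := 38) (by norm_num) (by decide +kernel),
    evB_eq_vec h G' (v := 2) (by norm_num) (by decide +kernel),
    evB_eq_vec h G' (v := 32) (by norm_num) (by decide +kernel)]
  simp [phiR, ev, fl, lettersB, dd, mul_assoc]

theorem rep_phiR (h : Hyp t R V A) (G' : Gens t R V A c w d a s) {n : ℕ} (hn : n < 64) :
    Rep c (closure ({a, d, s} : Set G)) (phiR c d a n) (codeR.getD n 0) := by
  rw [phiR_word h G', ← codeR_word n hn]
  exact Rep.ev_rep G'.basis _ (rep_lettersB G') _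

theorem phiR_mul (h : Hyp t R V A) (G' : Gens t R V A c w d a s) {n m : ℕ} (hn : n < 64) (hm : m < 64) :
    phiR c d a n * phiR c d a m = phiR c d a (rmul n m) := by
  obtain ⟨hle, htriv⟩ := four_compl h G'
  obtain ⟨hl, e⟩ := codeR_mul n hn m hm
  have := (rep_phiR h G' hn).mul G'.basis (rep_phiR h G' hm)
  rw [e] at this
  exact Rep.eq h G'.basis hle htriv this (rep_phiR h G' hl)

theorem phiR_zero : phiR c d a 0 = 1 := by simp [phiR]

theorem phiR_inj (h : Hyp t R V A) (G' : Gens t R V A c w d a s) {n m : ℕ} (hn : n < 64) (hm : m < 64)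
    (e : phiR c d a n = phiR c d a m) : n = m :=
  codeR_inj n hn m hm
    (Rep.unique G'.basis (four_compl h G').2 (rep_phiR h G' hn) (e ▸ rep_phiR h G' hm))

theorem phiR_mem (h : Hyp t R V A) (G' : Gens t R V A c w d a s) (n : ℕ) : phiR c d a n ∈ R := by
  have B := G'.basis
  obtain ⟨tr, -⟩ := R_trace h B
  have hd : d ∈ centralizer ({t} : Set G) := ((G'.pre.four_facts h).1 (subset_closure (by simp))).2
  have k := genR_inR
  exact mul_mem (mul_mem (mul_mem (mul_mem (pow_mem ((tr _ (k 38 (by simp)).1).2 (k 38 (by simp)).2) _)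
    (pow_mem ((tr _ (k 2 (by simp)).1).2 (k 2 (by simp)).2) _))
    (pow_mem ((tr _ (k 32 (by simp)).1).2 (k 32 (by simp)).2) _)) (pow_mem G'.a_mem _))
    (pow_mem (h.R_conj d hd a G'.a_mem) _)

theorem phiR_surj (h : Hyp t R V A) (G' : Gens t R V A c w d a s) :
    ∀ r ∈ R, ∃ n < 64, r = phiR c d a n := by
  let f : Fin 64 → ↥R := fun n => ⟨_, phiR_mem h G' n⟩
  have hb := (Nat.bijective_iff_injective_and_card f).2
    ⟨fun n m e => Fin.ext (phiR_inj h G' n.2 m.2 (congrArg Subtype.val e)), by simp [h.card_R]⟩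
  intro r hr
  obtain ⟨n, hn⟩ := hb.2 ⟨r, hr⟩
  exact ⟨n, n.2, congrArg Subtype.val hn.symm⟩

theorem phiR_pow (h : Hyp t R V A) (G' : Gens t R V A c w d a s) {x : ℕ} (hx : x < 64) :
    ∀ k, rpw x k < 64 ∧ phiR c d a x ^ k = phiR c d a (rpw x k)
  | 0 => ⟨by simp [rpw], by simp [rpw, phiR_zero]⟩
  | k + 1 => by
    obtain ⟨hl, e⟩ := phiR_pow h G' hx k
    exact ⟨(codeR_mul _ hl x hx).1, by rw [pow_succ, e, phiR_mul h G' hl hx]; rfl⟩

theorem phiR_gens (h : Hyp t R V A) (G' : Gens t R V A c w d a s) :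
    phiR c d a 1 = c 38 ∧ phiR c d a 4 = c 2 ∧ phiR c d a 8 = c 32 ∧ phiR c d a 16 = a ∧
      phiR c d a 32 = d * a * d⁻¹ := by
  simp [phiR]

/-- A homomorphism on the core is given by the images of the generators. -/
theorem phiR_hom (h : Hyp t R V A) (G' : Gens t R V A c w d a s) (f : G →* G) (F : List ℕ)
    (hF : ∀ k < 5, F.getD k 0 < 64 ∧
      f (phiR c d a (([1, 4, 8, 16, 32] : List ℕ).getD k 0)) = phiR c d a (F.getD k 0)) (n : ℕ) :
    ext F n < 64 ∧ f (phiR c d a n) = phiR c d a (ext F n) := by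
  obtain ⟨g0, g1, g2, g3, g4⟩ := phiR_gens h G'
  obtain ⟨l0, e0⟩ := hF 0 (by norm_num)
  obtain ⟨l1, e1⟩ := hF 1 (by norm_num)
  obtain ⟨l2, e2⟩ := hF 2 (by norm_num)
  obtain ⟨l3, e3⟩ := hF 3 (by norm_num)
  obtain ⟨l4, e4⟩ := hF 4 (by norm_num)
  simp only [List.getD_cons_succ, List.getD_cons_zero, g0, g1, g2, g3, g4] at e0 e1 e2 e3 e4
  obtain ⟨p0, q0⟩ := phiR_pow h G' l0 (n % 4)
  obtain ⟨p1, q1⟩ := phiR_pow h G' l1 (n / 4 % 2)
  obtain ⟨p2, q2⟩ := phiR_pow h G' l2 (n / 8 % 2)
  obtain ⟨p3, q3⟩ := phiR_pow h G' l3 (n / 16 % 2)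
  obtain ⟨p4, q4⟩ := phiR_pow h G' l4 (n / 32 % 2)
  have m1 := (codeR_mul _ p0 _ p1).1
  have m2 := (codeR_mul _ m1 _ p2).1
  have m3 := (codeR_mul _ m2 _ p3).1
  refine ⟨(codeR_mul _ m3 _ p4).1, ?_⟩
  conv_lhs => rw [phiR]
  rw [map_mul, map_mul, map_mul, map_mul, map_pow, map_pow, map_pow, map_pow, map_pow, e0, e1, e2, e3, e4,
    q0, q1, q2, q3, q4, phiR_mul h G' p0 p1, phiR_mul h G' m1 p2, phiR_mul h G' m2 p3, phiR_mul h G' m3 p4]
  rfl

/-- Conjugation by a word of the stabilizer. -/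
theorem phiR_conj (h : Hyp t R V A) (G' : Gens t R V A c w d a s) {r F : List ℕ} (hcj : cjOK r F = true)
    (n : ℕ) : ext F n < 64 ∧ ev (lettersB c d a s) r * phiR c d a n * (ev (lettersB c d a s) r)⁻¹ =
      phiR c d a (ext F n) := by
  refine phiR_hom h G' (MulAut.conj (ev (lettersB c d a s) r)).toMonoidHom F (fun k hk => ?_) n
  simp only [cjOK, List.all_eq_true, List.mem_range, Bool.and_eq_true, beq_iff_eq, Nat.ble_eq] at hcj
  obtain ⟨e, hl⟩ := hcj k hk
  have hl' : F.getD k 0 < 64 := by omega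
  refine ⟨hl', ?_⟩
  have hw : phiR c d a (([1, 4, 8, 16, 32] : List ℕ).getD k 0) = ev (lettersB c d a s) (genR.getD k []) := by
    rw [phiR_word h G']
    interval_cases k <;> simp [wordR, genR, ev_append]
  show ev (lettersB c d a s) r * _ * (ev (lettersB c d a s) r)⁻¹ = _
  rw [hw, ← ev_winv (lettersB_inv h G'), ← ev_append, ← ev_append]
  obtain ⟨hle, htriv⟩ := four_compl h G'
  have := Rep.ev_rep G'.basis _ (rep_lettersB G') (r ++ genR.getD k [] ++ winv r)
  rw [e] at this
  exact Rep.eq h G'.basis hle htriv this (rep_phiR h G' hl')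

/-- The five conjugates of the four group. -/
def VSet (c : ℕ → G) (d a : G) (j : ℕ) : Set G := {x | ∃ n ∈ vsets.getD j [], x = phiR c d a n}

end CfsgLib.HSUniq
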