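import Cfsg.Agent.HSUniq.Proj

/-!
# The four-group of the core outside `A` and the symmetric group of degree four
-/

set_option autoImplicit false
set_option linter.unusedSectionVars false
set_option maxRecDepth 100000

namespace CfsgLib.HSUniq

open Subgroup Mat

/-- The vectors with double in the distinguished subgroup. -/
def inR (v : ℕ) : Prop := sm 2 v = 0 ∨ sm 2 v = T0

instance (v : ℕ) : Decidable (inR v) := inferInstanceAs (Decidable (_ ∨ _))

/-- The images modulo two of the core. -/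
def kbar : List ℕ := [273, 275, 401, 403]

set_option synthInstance.maxSize 2000 in
theorem mem_kbar : ∀ p < 512, inv2 p = true → bapp p 2 = 2 →
    (∀ r < 8, bapp p r = r ∨ bapp p r = (r ^^^ 2)) → p ∈ kbar := by decide +kernel

theorem count_inR : ((List.range 64).filter fun v => decide (inR v)).length = 16 := by decide +kernel

theorem span_two : ∀ r < 8, r ≠ 0 → r ≠ 2 → ∀ x < 8, ∃ i < 2, ∃ j < 2, ∃ k < 2,
    x = (((if i = 1 then 2 else 0) ^^^ (if j = 1 then r else 0)) ^^^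
      (if k = 1 then bapp (redM D0) r else 0)) := by
  decide +kernel

/-- The orders modulo two of the products with powers of the element of order seven. -/
def ordAW : List ℕ := [3, 7, 4, 4, 7, 3]

theorem ordAW_ok : ∀ i < 6, redM (mpow (mmul A0 (mpow W0 (i + 1))) (ordAW.getD i 0)) = redM Mat.one := by
  decide +kernel

set_option synthInstance.maxSize 2000 in
theorem lift_A : ∀ b < 512, mmul (cor A0 b) (cor A0 b) = Mat.one →
    (let X := cor A0 b; let Y := mmul (mmul D0 X) (mpow D0 2);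
      mmul X Y = mmul Y X ∧ mmul (mmul X Y) (mmul (mmul D0 Y) (mpow D0 2)) = Mat.one) →
    (∀ v < 64, inR v → ad (apv (cor A0 b) v) (ng v) = 0 ∨ ad (apv (cor A0 b) v) (ng v) = T0) →
    (∀ i < 6, mpow (mmul (cor A0 b) (mpow W0 (i + 1))) (ordAW.getD i 0) = Mat.one) →
    cor A0 b = A0 := by
  decide +kernel

theorem facts_A : redM A0 ∈ kbar ∧ redM D0 ∉ kbar ∧ A0 < 2 ^ 18 ∧
    mmul (mmul (mmul W0 D0) A0) (mmul (mpow D0 2) (mpow W0 6)) = S0 ∧
    mmul S0 S0 = Mat.one ∧ mmul (mmul S0 D0) S0 = mpow D0 2 ∧ mmul (mmul S0 A0) S0 = A0 ∧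
    bapp (redM S0) 2 = 2 ∧ bapp (redM D0) 2 = 2 := by decide +kernel

theorem shift_s : ∀ e < 64, apv (mmul S0 D0) e = e → ad e (ad (apv D0 e) (apv (mpow D0 2) e)) = 0 →
    ∃ q < 64, ad (ad (ad q (ng (apv S0 q))) (apv (mmul S0 D0) (ad q (ng (apv S0 q))))) e = 0 := by
  decide +kernel

theorem three_cycle_fix : ∀ σ : Equiv.Perm (Fin 5), σ * σ * σ = 1 → σ ≠ 1 → σ 0 = 0 →
    ∃ j, j ≠ 0 ∧ σ j = j ∧ ∀ k, σ k = k → k = 0 ∨ k = j := by
  decide +kernel

variable {G : Type*} [Group G] [Finite G] {t : G} {R V A : Subgroup G} {c : ℕ → G}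

theorem conj_bapp (h : Hyp t R V A) (B : Basis t A c) {g : G} (hg : g ∈ R) :
    ∀ r < 8, bapp (redM (mat c g)) r = r ∨ bapp (redM (mat c g)) r = (r ^^^ 2) := by
  intro r hr
  have hv : c (dbl r) ∈ V := (mem_V_iff h B).2 ⟨r, hr, rfl⟩
  have e := conj_dbl h B (h.R_le_M hg) hr
  have hl := (apv_dbl (mat c g) r hr).2
  have dinj : ∀ a < 8, ∀ b < 8, dbl a = dbl b → a = b := by decide +kernel
  rcases h.R_comm g hg _ (h.V_le hv) with e1 | e1
  · rw [mul_inv_eq_one] at e1
    rw [e1] at e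
    exact Or.inl (dinj _ hl _ hr (B.inj _ (dbl_table _ hl).1 _ (dbl_table r hr).1 e.symm))
  · rw [mul_inv_eq_iff_eq_mul, e] at e1
    obtain ⟨f, lf⟩ := dbl_xor 2 (by norm_num) r hr
    rw [← B.t_code, ← dbl_two, ← B.add _ (dbl_table 2 (by norm_num)).1 _ (dbl_table r hr).1, f] at e1
    right
    rw [Nat.xor_comm r 2]
    exact dinj _ hl _ lf (B.inj _ (dbl_table _ hl).1 _ (dbl_table _ lf).1 e1)

theorem redM_R (h : Hyp t R V A) (B : Basis t A c) {g : G} (hg : g ∈ R) :
    redM (mat c g) ∈ kbar :=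
  mem_kbar _ (redM_lt _) (inv2_redM h B (h.R_le_M hg))
    ((mem_H_iff h B (h.R_le_M hg)).1 (h.R_le hg)) (conj_bapp h B hg)

theorem sq_inR (h : Hyp t R V A) (B : Basis t A c) {v : ℕ} (hv : v < 64) (hR : c v ∈ R) : inR v := by
  have e2 := (sm_table v hv).2.2.1
  rcases h.R_sq _ hR with e | e <;> rw [← B.add v hv v hv, ← e2] at e
  · exact Or.inl (B.inj _ (sm_lt _ _) 0 (by norm_num) (e.trans B.zero.symm))
  · exact Or.inr (B.inj _ (sm_lt _ _) T0 (by decide) (e.trans B.t_code.symm))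

/-- The trace of the core on `A` and its image. -/
theorem R_trace (h : Hyp t R V A) (B : Basis t A c) :
    (∀ v < 64, c v ∈ R ↔ inR v) ∧ ∀ p ∈ kbar, ∃ g ∈ R, redM (mat c g) = p := by
  classical
  haveI := Fintype.ofFinite G
  set S : Finset G := Finset.univ.filter (fun g => g ∈ R) with hS
  set U : Finset ℕ := ((List.range 64).filter fun v => decide (inR v)).toFinset with hU
  have hUc : U.card = 16 := by
    rw [hU, List.toFinset_card_of_nodup (List.nodup_range.filter _), count_inR]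
  have hmemU : ∀ v, v ∈ U ↔ v < 64 ∧ inR v := fun v => by simp [hU]
  have hfib : ∀ q ∈ kbar.toFinset, (S.filter fun g => redM (mat c g) = q).card ≤ 16 := by
    intro q _
    rcases (S.filter fun g => redM (mat c g) = q).eq_empty_or_nonempty with e | ⟨g, hg⟩
    · simp [e]
    simp only [hS, Finset.mem_filter, Finset.mem_univ, true_and] at hg
    rw [← hUc]
    have hk : ∀ k : G, k ∈ R → redM (mat c k) = q → ∃ v, v ∈ U ∧ c v = g⁻¹ * k := by
      intro k hk ek
      have hA := (redM_eq_iff h B (h.R_le_M hg.1) (h.R_le_M hk)).1 (hg.2.trans ek.symm)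
      obtain ⟨v, hv, ev⟩ := B.surj _ hA
      exact ⟨v, (hmemU v).2 ⟨hv, sq_inR h B hv (ev ▸ mul_mem (inv_mem hg.1) hk)⟩, ev⟩
    refine (Finset.card_le_card_of_injOn
      (fun k => if hh : k ∈ R ∧ redM (mat c k) = q then (hk k hh.1 hh.2).choose else 0) ?_ ?_).trans le_rfl
    · intro k hk'
      simp only [hS, Finset.coe_filter, Set.mem_setOf_eq, Finset.mem_filter, Finset.mem_univ, true_and] at hk'
      rw [Finset.mem_coe]
      simp only [dif_pos hk']
      exact (hk k hk'.1 hk'.2).choose_spec.1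
    · intro a ha b hb e
      simp only [hS, Finset.coe_filter, Set.mem_setOf_eq, Finset.mem_filter, Finset.mem_univ, true_and] at ha hb
      simp only [dif_pos ha, dif_pos hb] at e
      have := (hk a ha.1 ha.2).choose_spec.2
      rw [e, (hk b hb.1 hb.2).choose_spec.2] at this
      exact (mul_left_cancel this).symm
  have hcS : S.card = 64 := by
    rw [hS, ← Fintype.card_subtype, ← Nat.card_eq_fintype_card]
    exact h.card_R
  have key := surj_of_fibres S kbar.toFinset (fun g => redM (mat c g)) 16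
    (fun g hg => List.mem_toFinset.2 (redM_R h B (by simpa [hS] using hg))) hfib
    (by rw [hcS]; decide)
  refine ⟨fun v hv => ⟨sq_inR h B hv, fun hi => ?_⟩, fun p hp => ?_⟩
  · -- the fibre of the identity is the whole trace
    set F := S.filter fun g => redM (mat c g) = redM Mat.one with hF
    have hFc : F.card = 16 := key _ (List.mem_toFinset.2 (by decide))
    have hsub : F ⊆ U.image c := by
      intro g hg
      simp only [hF, hS, Finset.mem_filter, Finset.mem_univ, true_and] at hg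
      obtain ⟨w, hw, rfl⟩ := B.surj g (mem_A_of_redM h B (h.R_le_M hg.1) hg.2)
      exact Finset.mem_image.2 ⟨w, (hmemU w).2 ⟨hw, sq_inR h B hw hg.1⟩, rfl⟩
    have heq := Finset.eq_of_subset_of_card_le hsub (Finset.card_image_le.trans (by omega))
    have hm : c v ∈ F := heq ▸ Finset.mem_image.2 ⟨v, (hmemU v).2 ⟨hv, hi⟩, rfl⟩
    simp only [hF, hS, Finset.mem_filter, Finset.mem_univ, true_and] at hm
    exact hm.1
  · obtain ⟨g, hg⟩ := Finset.card_pos.1 ((key p (List.mem_toFinset.2 hp)).symm ▸ (by norm_num : 0 < 16))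
    simp only [hS, Finset.mem_filter, Finset.mem_univ, true_and] at hg
    exact ⟨g, hg.1, hg.2⟩

/-- The generators of the symmetric group of degree four. -/
structure Pre (t : G) (R V A : Subgroup G) (c : ℕ → G) (w d a s : G) : Prop where
  wd : WD t V A c w d
  a_mem : a ∈ R
  mat_a : IsMat c a A0
  mat_s : IsMat c s S0
  s_mem : s ∈ normalizer (V : Set G)
  a_sq : a * a = 1
  s_sq : s * s = 1
  a_comm : a * (d * a * d⁻¹) = d * a * d⁻¹ * a
  a_prod : a * (d * a * d⁻¹) * (d * (d * a * d⁻¹) * d⁻¹) = 1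
  sd : s * d * s = d⁻¹
  sa : s * a * s = a
  moved : ∃ k ∈ centralizer ({t} : Set G), k ∉ normalizer (V : Set G) ∧
    k⁻¹ * d * k ∈ normalizer (V : Set G) ∧ k⁻¹ * a * k ∈ V

theorem comm_H (h : Hyp t R V A) {g : G} (hg : g ∈ centralizer ({t} : Set G)) : g * t * g⁻¹ = t := by
  rw [mem_centralizer_singleton_iff] at hg
  rw [hg, mul_inv_cancel_right]

theorem exists_pre (h : Hyp t R V A) : ∃ c w d a s, Pre t R V A c w d a s := by
  classical
  obtain ⟨c, w, d, hwd⟩ := exists_wd h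
  have B := hwd.basis
  obtain ⟨π, P⟩ := exists_proj h B
  obtain ⟨fA, fD, lA, fS, fS2, fSD, fSA, fS8, fD8⟩ := facts_A
  have hdM := hwd.d_mem
  have hmd := mat_of_isMat B hwd.mat_d
  have hmw := mat_of_isMat B hwd.mat_w
  have hdH : d ∈ centralizer ({t} : Set G) := (mem_H_iff h B hdM).2 (by rw [hmd, fD8])
  have hdR : d ∉ R := fun hR => fD (hmd ▸ redM_R h B hR)
  obtain ⟨p1, hp0, hp1, huniq⟩ := three_cycle_fix (π ⟨d, hdH⟩)
    (by rw [← map_mul, ← map_mul, ← map_one π]
        exact congrArg π (Subtype.ext (by simpa [pow_succ] using hwd.d_pow)))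
    (fun e => hdR ((P.ker _).1 e)) ((P.stab _).2 hdM)
  obtain ⟨⟨k, hkH⟩, hk⟩ := P.surj (Equiv.swap 0 p1)
  have hk0 : π ⟨k, hkH⟩ 0 = p1 := by rw [hk, Equiv.swap_apply_left]
  have hkM : k ∉ normalizer (V : Set G) := fun hm => hp0 (hk0.symm.trans ((P.stab ⟨k, hkH⟩).2 hm))
  have stabk : ∀ g, ∀ hg : g ∈ centralizer ({t} : Set G), π ⟨g, hg⟩ p1 = p1 →
      k⁻¹ * g * k ∈ normalizer (V : Set G) := by
    intro g hg e
    have := (P.stab (⟨k, hkH⟩⁻¹ * ⟨g, hg⟩ * ⟨k, hkH⟩)).1 (by
      rw [map_mul, map_mul, map_inv, Equiv.Perm.mul_apply, Equiv.Perm.mul_apply, hk0, e,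
        Equiv.Perm.inv_def, Equiv.symm_apply_eq, hk0])
    simpa using this
  have hdk := stabk d hdH hp1
  -- the conjugate of `V`
  set V1 : Subgroup G := V.map (MulAut.conj k).toMonoidHom with hV1
  have memV1 : ∀ x, x ∈ V1 ↔ k⁻¹ * x * k ∈ V := by
    intro x
    constructor
    · rintro ⟨v, hv, rfl⟩
      show k⁻¹ * (k * v * k⁻¹) * k ∈ V
      rwa [show k⁻¹ * (k * v * k⁻¹) * k = v by group]
    · intro hx
      exact ⟨_, hx, show k * (k⁻¹ * x * k) * k⁻¹ = x by group⟩
  have V1R : ∀ x ∈ V1, x ∈ R := by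
    rintro _ ⟨v, hv, rfl⟩
    exact h.R_conj k hkH v (h.V_le hv)
  have V1sq : ∀ x ∈ V1, x * x = 1 := by
    rintro _ ⟨v, hv, rfl⟩
    show k * v * k⁻¹ * (k * v * k⁻¹) = 1
    rw [show k * v * k⁻¹ * (k * v * k⁻¹) = k * (v * v) * k⁻¹ by group, h.V_sq v hv]; group
  have V1comm : ∀ x ∈ V1, ∀ y ∈ V1, x * y = y * x := by
    intro x hx y hy
    have e : ∀ u ∈ V1, u⁻¹ = u := fun u hu => inv_eq_of_mul_eq_one_right (V1sq u hu)
    calc x * y = (x * y)⁻¹ := (e _ (mul_mem hx hy)).symm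
      _ = y * x := by rw [mul_inv_rev, e x hx, e y hy]
  have tV1 : t ∈ V1 := (memV1 t).2 (by
    have := comm_H h (inv_mem hkH)
    rw [inv_inv] at this
    rw [this]; exact h.t_V)
  have dV1 : ∀ x ∈ V1, d * x * d⁻¹ ∈ V1 := by
    intro x hx
    rw [memV1]
    have := (mem_normalizer_iff.1 hdk _).1 ((memV1 x).1 hx)
    convert this using 1
    group
  have inter : ∀ x ∈ V1, x ∈ A → x = 1 ∨ x = t := by
    intro x hx hxA
    obtain ⟨r, hr, rfl⟩ := (mem_V_iff h B).1 (h.A_Omega x hxA (V1sq x hx))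
    by_cases h0 : r = 0
    · subst h0; exact Or.inl B.zero
    by_cases h2 : r = 2
    · subst h2; exact Or.inr (by rw [dbl_two, B.t_code])
    exfalso
    have e1 : c (dbl (bapp (redM D0) r)) ∈ V1 := by
      have := dV1 _ hx
      rwa [conj_dbl h B hdM hr, hmd] at this
    have z : ∀ i < 2, ∀ j < 8, c (dbl j) ∈ V1 → c (dbl (if i = 1 then j else 0)) ∈ V1 := by
      intro i _ j _ hj
      split_ifs
      · exact hj
      · rw [show dbl 0 = 0 by decide, B.zero]; exact one_mem _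
    have hVle : V ≤ V1 := by
      intro y hy
      obtain ⟨u, hu, rfl⟩ := (mem_V_iff h B).1 hy
      obtain ⟨i, hi, j, hj, l, hl, rfl⟩ := span_two r hr h0 h2 u hu
      have lb := (apv_dbl D0 r hr).2
      have l1 : (if i = 1 then 2 else 0) < 8 := by split_ifs <;> norm_num
      have l2 : (if j = 1 then r else 0) < 8 := by split_ifs <;> omega
      have l3 : (if l = 1 then bapp (redM D0) r else 0) < 8 := by split_ifs <;> omega
      obtain ⟨f1, f1l⟩ := dbl_xor _ l1 _ l2
      obtain ⟨f2, -⟩ := dbl_xor _ f1l _ l3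
      rw [← f2, B.add _ (dbl_table _ f1l).1 _ (dbl_table _ l3).1, ← f1,
        B.add _ (dbl_table _ l1).1 _ (dbl_table _ l2).1]
      exact mul_mem (mul_mem (z i hi 2 (by norm_num) (by rw [dbl_two, B.t_code]; exact tV1))
        (z j hj r hr hx)) (z l hl _ lb e1)
    have hcard : Nat.card V1 = Nat.card V := card_map_of_injective (MulAut.conj k).injective
    have heq : V = V1 := eq_of_le_of_card_ge hVle hcard.le
    refine hkM (mem_normalizer_iff.2 fun y => ⟨fun hy => ?_, fun hy => ?_⟩)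
    · rw [heq]; exact ⟨y, hy, rfl⟩
    · rw [heq] at hy
      have := (memV1 _).1 hy
      rwa [show k⁻¹ * (k * y * k⁻¹) * k = y by group] at this
  -- every element of the image occurs
  have surjK : ∀ p ∈ kbar, ∃ x ∈ V1, redM (mat c x) = p := by
    haveI := Fintype.ofFinite G
    set S : Finset G := Finset.univ.filter (fun g => g ∈ V1) with hS
    have hcS : S.card = 8 := by
      rw [hS, ← Fintype.card_subtype, ← Nat.card_eq_fintype_card, ← h.card_V]
      exact card_map_of_injective (MulAut.conj k).injective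
    have hfib : ∀ q ∈ kbar.toFinset, (S.filter fun g => redM (mat c g) = q).card ≤ 2 := by
      intro q _
      rcases (S.filter fun g => redM (mat c g) = q).eq_empty_or_nonempty with e | ⟨g, hg⟩
      · simp [e]
      simp only [hS, Finset.mem_filter, Finset.mem_univ, true_and] at hg
      refine (Finset.card_le_card (t := {g, g * t}) ?_).trans Finset.card_le_two
      intro x hx
      simp only [hS, Finset.mem_filter, Finset.mem_univ, true_and] at hx
      have hA := (redM_eq_iff h B (h.R_le_M (V1R g hg.1)) (h.R_le_M (V1R x hx.1))).1 (hg.2.trans hx.2.symm)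
      rcases inter _ (mul_mem (inv_mem hg.1) hx.1) hA with e | e
      · simp [← inv_mul_eq_one.1 e]
      · simp [inv_mul_eq_iff_eq_mul.1 e]
    have key := surj_of_fibres S kbar.toFinset (fun g => redM (mat c g)) 2
      (fun g hg => List.mem_toFinset.2 (redM_R h B (V1R g (by simpa [hS] using hg)))) hfib
      (by rw [hcS]; decide)
    intro p hp
    obtain ⟨g, hg⟩ := Finset.card_pos.1 ((key p (List.mem_toFinset.2 hp)).symm ▸ (by norm_num : 0 < 2))
    simp only [hS, Finset.mem_filter, Finset.mem_univ, true_and] at hg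
    exact ⟨g, hg.1, hg.2⟩
  obtain ⟨a0, ha0, ea0⟩ := surjK _ fA
  have ht2 : t * t = 1 := h.V_sq t h.t_V
  -- adjust by `t`
  obtain ⟨a, haV, eaR, hprod⟩ : ∃ a ∈ V1, redM (mat c a) = redM A0 ∧
      a * (d * a * d⁻¹) * (d * (d * a * d⁻¹) * d⁻¹) = 1 := by
    have hb : d * a0 * d⁻¹ ∈ V1 := dV1 _ ha0
    have hA : a0 * (d * a0 * d⁻¹) * (d * (d * a0 * d⁻¹) * d⁻¹) ∈ A := by
      have hM : ∀ x ∈ V1, x ∈ normalizer (V : Set G) := fun x hx => h.R_le_M (V1R x hx)
      refine mem_A_of_redM h B (hM _ (mul_mem (mul_mem ha0 hb) (dV1 _ hb))) ?_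
      have eb : redM (mat c (d * a0 * d⁻¹)) = redM (mmul (mmul D0 A0) (mpow D0 2)) := by
        rw [show d⁻¹ = d ^ 2 from inv_eq_of_mul_eq_one_right (by rw [← pow_succ']; exact hwd.d_pow),
          mat_mul h B (mul_mem hdM (hM _ ha0)) (pow_mem hdM 2), mat_mul h B hdM (hM _ ha0),
          mat_pow h B hdM, hmd]
        exact redM_mul (redM_mul rfl ea0) rfl
      have ec : redM (mat c (d * (d * a0 * d⁻¹) * d⁻¹)) =
          redM (mmul (mmul D0 (mmul (mmul D0 A0) (mpow D0 2))) (mpow D0 2)) := by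
        rw [show mat c (d * (d * a0 * d⁻¹) * d⁻¹) = mmul (mmul D0 (mat c (d * a0 * d⁻¹))) (mpow D0 2) by
          rw [mat_mul h B (mul_mem hdM (hM _ hb)) (inv_mem hdM), mat_mul h B hdM (hM _ hb), hmd,
            show d⁻¹ = d ^ 2 from inv_eq_of_mul_eq_one_right (by rw [← pow_succ']; exact hwd.d_pow),
            mat_pow h B hdM, hmd]]
        exact redM_mul (redM_mul rfl eb) rfl
      rw [mat_mul h B (mul_mem (hM _ ha0) (hM _ hb)) (hM _ (dV1 _ hb)), mat_mul h B (hM _ ha0) (hM _ hb)]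
      exact (redM_mul (redM_mul ea0 eb) ec).trans (by decide +kernel)
    rcases inter _ (mul_mem (mul_mem ha0 hb) (dV1 _ hb)) hA with e | e
    · exact ⟨a0, ha0, ea0, e⟩
    refine ⟨a0 * t, mul_mem ha0 tV1, ?_, ?_⟩
    · rw [mat_mul h B (h.R_le_M (V1R _ ha0)) (h.R_le_M h.t_mem), mat_mem B (h.V_le_A h.t_V),
        mmul_one (isMat_mat h B (h.R_le_M (V1R _ ha0))).1, ea0]
    · have e1 : d * (a0 * t) * d⁻¹ = d * a0 * d⁻¹ * t := by
        calc _ = d * a0 * d⁻¹ * (d * t * d⁻¹) := by group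
          _ = _ := by rw [comm_H h hdH]
      have e2 : d * (d * a0 * d⁻¹ * t) * d⁻¹ = d * (d * a0 * d⁻¹) * d⁻¹ * t := by
        calc _ = d * (d * a0 * d⁻¹) * d⁻¹ * (d * t * d⁻¹) := by group
          _ = _ := by rw [comm_H h hdH]
      rw [e1, e2]
      have hc := V1comm t tV1 _ hb
      have hc2 := V1comm t tV1 _ (dV1 _ hb)
      calc a0 * t * (d * a0 * d⁻¹ * t) * (d * (d * a0 * d⁻¹) * d⁻¹ * t)
          = a0 * (t * (d * a0 * d⁻¹)) * t * (d * (d * a0 * d⁻¹) * d⁻¹) * t := by group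
        _ = a0 * (d * a0 * d⁻¹) * (t * t) * (d * (d * a0 * d⁻¹) * d⁻¹) * t := by rw [hc]; group
        _ = 1 := by rw [ht2, mul_one, e, ht2]
  have hbV : d * a * d⁻¹ ∈ V1 := dV1 _ haV
  have haR := V1R a haV
  have haM := h.R_le_M haR
  have a_sq := V1sq a haV
  have a_comm := V1comm a haV _ hbV
  -- the matrix of `a`
  have dinv : d⁻¹ = d ^ 2 := inv_eq_of_mul_eq_one_right (by rw [← pow_succ']; exact hwd.d_pow)
  have hdi : mat c d⁻¹ = mpow D0 2 := by rw [dinv, mat_pow h B hdM, hmd]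
  have mat_one' : mat c (1 : G) = Mat.one := mat_mem B (one_mem A)
  obtain ⟨trR, -⟩ := R_trace h B
  have ma : mat c a = A0 := by
    obtain ⟨b, hb, eb⟩ := exists_cor (isMat_mat h B haM).1 eaR
    have hbM : d * a * d⁻¹ ∈ normalizer (V : Set G) := h.R_le_M (V1R _ hbV)
    have mb : mat c (d * a * d⁻¹) = mmul (mmul D0 (mat c a)) (mpow D0 2) := by
      rw [mat_mul h B (mul_mem hdM haM) (inv_mem hdM), mat_mul h B hdM haM, hmd, hdi]
    have mc : mat c (d * (d * a * d⁻¹) * d⁻¹) =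
        mmul (mmul D0 (mmul (mmul D0 (mat c a)) (mpow D0 2))) (mpow D0 2) := by
      rw [mat_mul h B (mul_mem hdM hbM) (inv_mem hdM), mat_mul h B hdM hbM, mb, hmd, hdi]
    rw [eb]
    refine lift_A b hb ?_ ⟨?_, ?_⟩ ?_ ?_
    · rw [← eb, ← mat_mul h B haM haM, a_sq, mat_one']
    · rw [← eb, ← mb, ← mat_mul h B haM hbM, ← mat_mul h B hbM haM, a_comm]
    · show mmul (mmul (cor A0 b) _) _ = _
      rw [← eb, ← mc, ← mb, ← mat_mul h B haM hbM,
        ← mat_mul h B (mul_mem haM hbM) (mul_mem (mul_mem hdM hbM) (inv_mem hdM)), hprod, mat_one']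
    · intro v hv hi
      have e := (isMat_mat h B haM).2 v hv
      have hcomm := h.R_comm a haR _ ((trR v hv).2 hi)
      have hl := apv_lt (mat c a) v
      have hn := (ad_table v hv 0 (by norm_num)).2.2.2.2
      rw [e, ← B.neg hv, ← B.add _ hl _ hn] at hcomm
      rw [← eb]
      rcases hcomm with e' | e'
      · exact Or.inl (B.inj _ (ad_lt _ _) 0 (by norm_num) (e'.trans B.zero.symm))
      · exact Or.inr (B.inj _ (ad_lt _ _) T0 (by decide) (e'.trans B.t_code.symm))
    · intro i hi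
      have hg : a * w ^ (i + 1) ∈ normalizer (V : Set G) := mul_mem haM (pow_mem hwd.w_mem _)
      have em : mat c (a * w ^ (i + 1)) = mmul (mat c a) (mpow W0 (i + 1)) := by
        rw [mat_mul h B haM (pow_mem hwd.w_mem _), mat_pow h B hwd.w_mem, hmw]
      rw [← eb, ← em, ← mat_pow h B hg]
      refine (mat_one_iff h B (pow_mem hg _)).2 (mem_A_of_redM h B (pow_mem hg _) ?_)
      rw [mat_pow h B hg, em]
      exact (redM_pow (redM_mul eaR rfl) _).trans (ordAW_ok i hi)
  -- the inverting involution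
  have hwdM : w * d ∈ normalizer (V : Set G) := mul_mem hwd.w_mem hdM
  set s0 := w * d * a * (w * d)⁻¹ with hs0
  have s0M : s0 ∈ normalizer (V : Set G) := mul_mem (mul_mem hwdM haM) (inv_mem hwdM)
  have s0sq : s0 * s0 = 1 := by
    rw [hs0, show w * d * a * (w * d)⁻¹ * (w * d * a * (w * d)⁻¹) = w * d * (a * a) * (w * d)⁻¹ by group,
      a_sq, mul_one, mul_inv_cancel]
  have ms0 : mat c s0 = S0 := by
    have winv : w⁻¹ = w ^ 6 := inv_eq_of_mul_eq_one_right (by rw [← pow_succ']; exact hwd.w_pow)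
    have ei : mat c (w * d)⁻¹ = mmul (mpow D0 2) (mpow W0 6) := by
      rw [mul_inv_rev, mat_mul h B (inv_mem hdM) (inv_mem hwd.w_mem), hdi, winv, mat_pow h B hwd.w_mem, hmw]
    rw [hs0, mat_mul h B (mul_mem hwdM haM) (inv_mem hwdM), mat_mul h B hwdM haM,
      mat_mul h B hwd.w_mem hdM, ma, ei, hmw, hmd]
    exact fS
  have he : s0 * d * s0 * d ∈ A := by
    refine (mat_one_iff h B (mul_mem (mul_mem (mul_mem s0M hdM) s0M) hdM)).1 ?_
    rw [mat_mul h B (mul_mem (mul_mem s0M hdM) s0M) hdM, mat_mul h B (mul_mem s0M hdM) s0M,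
      mat_mul h B s0M hdM, ms0, hmd, fSD]
    decide +kernel
  obtain ⟨e, hel, ee⟩ := B.surj _ he
  have msd : IsMat c (s0 * d) (mmul S0 D0) :=
    B.isMat_mul (ms0 ▸ isMat_mat h B s0M) hwd.mat_d
  have hfix : apv (mmul S0 D0) e = e := by
    refine B.inj _ (apv_lt _ _) _ hel ?_
    rw [← msd.2 e hel, ee]
    group
  have e1 : s0 * d * s0 = c e * d⁻¹ := by rw [ee]; group
  have hnorm : ad e (ad (apv D0 e) (apv (mpow D0 2) e)) = 0 := by
    have h3 : (c e * d⁻¹) * (c e * d⁻¹) * (c e * d⁻¹) = 1 := by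
      rw [← e1, show s0 * d * s0 * (s0 * d * s0) * (s0 * d * s0) =
        s0 * d * (s0 * s0) * d * (s0 * s0) * d * s0 by group, s0sq, mul_one, mul_one,
        show s0 * d * d * d * s0 = s0 * d ^ 3 * s0 by simp [pow_succ, mul_assoc], hwd.d_pow, mul_one, s0sq]
    have m2 : IsMat c d⁻¹ (mpow D0 2) := dinv ▸ B.isMat_pow hwd.mat_d 2
    have m1 : IsMat c (d⁻¹ * d⁻¹) D0 := by
      have : d⁻¹ * d⁻¹ = d := by
        rw [dinv, ← pow_add, show 2 + 2 = 3 + 1 from rfl, pow_add, hwd.d_pow, one_mul, pow_one]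
      rw [this]; exact hwd.mat_d
    have h4 : c e * (d⁻¹ * c e * d⁻¹⁻¹) * (d⁻¹ * d⁻¹ * c e * (d⁻¹ * d⁻¹)⁻¹) * (d⁻¹ * d⁻¹ * d⁻¹) = 1 := by
      rw [← h3]; group
    rw [show d⁻¹ * d⁻¹ * d⁻¹ = (d ^ 3)⁻¹ by group, hwd.d_pow, inv_one, mul_one, m2.2 e hel,
      m1.2 e hel] at h4
    rw [← B.add e hel _ (apv_lt _ _), ← B.add _ (ad_lt _ _) _ (apv_lt _ _)] at h4
    rw [ad_comm' (apv D0 e), ← ad_assoc']
    exact B.inj _ (ad_lt _ _) 0 (by norm_num) (h4.trans B.zero.symm)
  obtain ⟨q, hq, eq⟩ := shift_s e hel hfix hnorm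
  set p := ad q (ng (apv S0 q)) with hp
  set s := c q * s0 * (c q)⁻¹ with hs
  have hqM : c q ∈ normalizer (V : Set G) := h.A_le (B.mem q hq)
  have sM : s ∈ normalizer (V : Set G) := mul_mem (mul_mem hqM s0M) (inv_mem hqM)
  have mS0 : IsMat c s0 S0 := ms0 ▸ isMat_mat h B s0M
  have hsp : s = c p * s0 := by
    have hn := (ad_table _ (apv_lt S0 q) 0 (by norm_num)).2.2.2.2
    rw [hp, B.add q hq _ hn, B.neg (apv_lt _ _), ← mS0.2 q hq, hs]
    group
  have hms : IsMat c s S0 := by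
    rw [hsp]
    have := B.isMat_mul (B.isMat_mem (B.mem p (ad_lt _ _))) mS0
    rwa [one_mmul (mS0.1)] at this
  have s_sq : s * s = 1 := by
    rw [hs, show c q * s0 * (c q)⁻¹ * (c q * s0 * (c q)⁻¹) = c q * (s0 * s0) * (c q)⁻¹ by group,
      s0sq, mul_one, mul_inv_cancel]
  have sd : s * d * s = d⁻¹ := by
    have hl : p < 64 := ad_lt _ _
    calc s * d * s = c p * (s0 * d * c p * (s0 * d)⁻¹) * (s0 * d * s0) := by rw [hsp]; group
      _ = c p * c (apv (mmul S0 D0) p) * c e * d⁻¹ := by rw [msd.2 p hl, e1]; group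
      _ = d⁻¹ := by
        rw [← B.add p hl _ (apv_lt _ _), ← B.add _ (ad_lt _ _) e hel, eq, B.zero, one_mul]
  clear_value s
  have sH : s ∈ centralizer ({t} : Set G) :=
    (mem_H_iff h B sM).2 (by rw [mat_of_isMat B hms, fS8])
  have hs1 : π ⟨s, sH⟩ p1 = p1 := by
    have hfixd : π ⟨d, hdH⟩ (π ⟨s, sH⟩ p1) = π ⟨s, sH⟩ p1 := by
      have e2 : (⟨d, hdH⟩ : ↥(centralizer ({t} : Set G))) * ⟨s, sH⟩ = ⟨s, sH⟩ * ⟨d, hdH⟩⁻¹ :=
        Subtype.ext (show d * s = s * d⁻¹ by rw [← sd, ← mul_assoc, ← mul_assoc, s_sq, one_mul])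
      rw [← Equiv.Perm.mul_apply, ← map_mul, e2, map_mul, map_inv, Equiv.Perm.mul_apply,
        Equiv.Perm.inv_eq_iff_eq.2 hp1.symm]
    rcases huniq _ hfixd with e0 | e0
    · exfalso
      refine hp0 ((π ⟨s, sH⟩).injective ?_)
      rw [e0, (P.stab ⟨s, sH⟩).2 sM]
    · exact e0
  have hsV1 : ∀ x ∈ V1, s * x * s⁻¹ ∈ V1 := by
    intro x hx
    rw [memV1]
    have := (mem_normalizer_iff.1 (stabk s sH hs1) _).1 ((memV1 x).1 hx)
    convert this using 1
    group
  have sinv : s⁻¹ = s := inv_eq_of_mul_eq_one_right s_sq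
  have sa : s * a * s = a := by
    have hδ : s * a * s * a ∈ A := by
      refine (mat_one_iff h B (mul_mem (mul_mem (mul_mem sM haM) sM) haM)).1 ?_
      rw [mat_mul h B (mul_mem (mul_mem sM haM) sM) haM, mat_mul h B (mul_mem sM haM) sM,
        mat_mul h B sM haM, mat_of_isMat B hms, ma, fSA]
      decide +kernel
    have hδV : s * a * s * a ∈ V1 := mul_mem (by simpa [sinv] using hsV1 a haV) haV
    rcases inter _ hδV hδ with e2 | e2
    · calc s * a * s = s * a * s * a * a := by rw [mul_assoc _ a a, a_sq, mul_one]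
        _ = a := by rw [e2, one_mul]
    exfalso
    have ea : s * a * s = a * t := by
      calc s * a * s = s * a * s * a * a := by rw [mul_assoc _ a a, a_sq, mul_one]
        _ = a * t := by rw [e2]; exact V1comm t tV1 a haV
    have sd' : s * d = d⁻¹ * s := by
      rw [← sd, mul_assoc, s_sq, mul_one]
    have ds' : s * d⁻¹ = d * s := by
      rw [← sd, ← mul_assoc, ← mul_assoc, s_sq, one_mul]
    set b := d * a * d⁻¹ with hbdef
    set cc := d * b * d⁻¹ with hcdef
    have hd2 : d⁻¹ * a * d = cc := by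
      have d1 : d * d = d⁻¹ := by rw [dinv, sq]
      have d2 : d⁻¹ * d⁻¹ = d := by rw [← mul_inv_rev, d1, inv_inv]
      rw [hcdef, hbdef, show d * (d * a * d⁻¹) * d⁻¹ = d * d * a * (d⁻¹ * d⁻¹) by group, d1, d2]
    have eb : s * b * s = cc * t := by
      calc s * b * s = (s * d) * a * (d⁻¹ * s) := by rw [hbdef]; group
        _ = d⁻¹ * s * a * (s * d) := by rw [← sd']
        _ = d⁻¹ * (s * a * s) * d := by group
        _ = d⁻¹ * a * d * (d⁻¹ * t * d⁻¹⁻¹) := by rw [ea]; group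
        _ = cc * t := by rw [hd2, comm_H h (inv_mem hdH)]
    have ec : s * cc * s = b * t := by
      have := congrArg (fun x => s * x * s) eb
      rw [show s * (s * b * s) * s = (s * s) * b * (s * s) by group, s_sq, one_mul, mul_one] at this
      rw [show s * (cc * t) * s = s * cc * s * (s⁻¹ * t * s⁻¹⁻¹) by group,
        comm_H h (inv_mem sH)] at this
      rw [this, mul_assoc (s * cc * s) t t, ht2, mul_one]
    have hcV : cc ∈ V1 := dV1 _ hbV
    have e3 : a * t * (cc * t) * (b * t) = 1 := by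
      rw [← ea, ← eb, ← ec, show s * a * s * (s * b * s) * (s * cc * s) =
        s * a * (s * s) * b * (s * s) * cc * s by group, s_sq, mul_one, mul_one,
        show s * a * b * cc * s = s * (a * b * cc) * s by group, hprod, mul_one, s_sq]
    have e4 : a * t * (cc * t) * (b * t) = a * b * cc * t := by
      calc a * t * (cc * t) * (b * t) = a * (t * cc) * t * b * t := by group
        _ = a * cc * (t * t) * b * t := by rw [V1comm t tV1 cc hcV]; group
        _ = a * (cc * b) * t := by rw [ht2, mul_one]; group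
        _ = a * b * cc * t := by rw [V1comm cc hcV b hbV]; group
    rw [e4, hprod, one_mul] at e3
    have := h.ord_t
    rw [e3, orderOf_one] at this
    norm_num at this
  exact ⟨c, w, d, a, s, hwd, haR, ma ▸ isMat_mat h B haM, hms, sM, a_sq, s_sq, a_comm, hprod, sd, sa,
    k, hkH, hkM, hdk, (memV1 a).1 haV⟩

end CfsgLib.HSUniq
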