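import Cfsg.Agent.HSUniq.Act
import Cfsg.Agent.HSUniq.CertH

/-!
# The element of order five and the relators of the involution centralizer
-/

set_option autoImplicit false
set_option linter.unusedSectionVars false
set_option maxRecDepth 100000

namespace CfsgLib.HSUniq

open Subgroup Mat CfsgLib.Coset

variable {G : Type*} [Group G] [Finite G] {t : G} {R V A : Subgroup G} {c : ℕ → G} {w d a s x : G}

/-- The sixteen letters. -/
def letters16 (c : ℕ → G) (w d a s x : G) : List G := lettersG c w d a s ++ [x, x ^ 4]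

/-- The five generators of the core as numbers. -/
def gensN : List ℕ := [1, 4, 8, 16, 32]

theorem gensN_facts : (∀ k < 5, gensN.getD k 0 < 64) ∧
    (∀ n < 64, rmul n n = 2 → (∀ k < 5, rmul n (gensN.getD k 0) = rmul (gensN.getD k 0) n) → n = 1 ∨ n = 3) ∧
    (∀ n < 64, (∀ k < 5, rmul n (gensN.getD k 0) = rmul (gensN.getD k 0) n) → n < 4) ∧
    (∀ n < 64, rmul 1 n = rmul n 1) ∧
    rmul 4 16 ≠ rmul 16 4 ∧ rmul 8 16 ≠ rmul 16 8 ∧ rmul 8 32 ≠ rmul 32 8 ∧ rmul 4 32 = rmul 32 4 ∧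
    (∀ k < 5, ext fci (gensN.getD k 0) = fci.getD k 0) ∧ (∀ k < 5, ext fh (gensN.getD k 0) = fh.getD k 0) ∧
    (∀ k < 5, ext fx (gensN.getD k 0) = fx.getD k 0) ∧ (∀ k < 5, fx.getD k 0 < 64) ∧
    winv [6, 9, 10, 4] = [5, 11, 8, 7] ∧ winv [9] = [8] := by
  decide +kernel

/-- The relators of the centralizer which express the action on the core. -/
theorem relsH_core : ∀ r ∈ [[14, 0, 0, 3, 4, 4, 15, 5, 5, 2, 1, 1], [14, 6, 15, 1, 1], [14, 0, 0, 15, 0, 7, 1],
    [14, 4, 4, 15, 9, 7, 8, 3], [14, 8, 6, 9, 15, 5, 5, 1, 1]],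
    ∃ n < 64, evP codesB (((r : List ℕ).drop 1).takeWhile fun l => l != 15) = codeR.getD n 0 ∧
      ∃ m < 64, evP codesB ((((r : List ℕ).drop 1).dropWhile fun l => l != 15).drop 1) = codeR.getD m 0 ∧
        rmul (ext fx n) m = 0 ∧
        r = 14 :: (((r : List ℕ).drop 1).takeWhile fun l => l != 15) ++
          15 :: ((((r : List ℕ).drop 1).dropWhile fun l => l != 15).drop 1) ∧
        (∀ l ∈ ((r : List ℕ).drop 1).takeWhile (fun l => l != 15), l < 12) ∧
        (∀ l ∈ (((r : List ℕ).drop 1).dropWhile fun l => l != 15).drop 1, l < 12) := by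
  decide +kernel

theorem phiR_eq_one (h : Hyp t R V A) (G' : Gens t R V A c w d a s) {g : G} (hg : g ∈ R)
    (hcomm : ∀ k < 5, g * phiR c d a (gensN.getD k 0) * g⁻¹ = phiR c d a (gensN.getD k 0)) :
    ∃ i < 4, g = c 38 ^ i := by
  obtain ⟨n, hn, rfl⟩ := phiR_surj h G' g hg
  obtain ⟨gl, -, cen, -⟩ := gensN_facts
  refine ⟨n, cen n hn fun k hk => phiR_inj h G' (codeR_mul n hn _ (gl k hk)).1 (codeR_mul _ (gl k hk) n hn).1 ?_, ?_⟩
  · rw [← phiR_mul h G' hn (gl k hk), ← phiR_mul h G' (gl k hk) hn]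
    exact mul_inv_eq_iff_eq_mul.1 (hcomm k hk)
  · have h4 : n < 4 := cen n hn fun k hk => phiR_inj h G' (codeR_mul n hn _ (gl k hk)).1
      (codeR_mul _ (gl k hk) n hn).1 (by
        rw [← phiR_mul h G' hn (gl k hk), ← phiR_mul h G' (gl k hk) hn]
        exact mul_inv_eq_iff_eq_mul.1 (hcomm k hk))
    interval_cases n <;> simp [phiR]

theorem phiR_inv (h : Hyp t R V A) (G' : Gens t R V A c w d a s) {n : ℕ} (hn : n < 64) :
    phiR c d a (rpw n 3) = (phiR c d a n)⁻¹ := by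
  obtain ⟨e, hl⟩ := inn_inv n hn
  exact eq_inv_of_mul_eq_one_right (by rw [phiR_mul h G' hn hl, e, phiR_zero])

theorem phiR_inn (h : Hyp t R V A) (G' : Gens t R V A c w d a s) {r n : ℕ} (hr : r < 64) (hn : n < 64) :
    inn r n < 64 ∧ phiR c d a r * phiR c d a n * (phiR c d a r)⁻¹ = phiR c d a (inn r n) := by
  obtain ⟨-, hl⟩ := inn_inv r hr
  have h1 := (codeR_mul r hr n hn).1
  exact ⟨(codeR_mul _ h1 _ hl).1, by rw [← phiR_inv h G' hr, phiR_mul h G' hr hn, phiR_mul h G' h1 hl]; rfl⟩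

theorem exists_five (h : Hyp t R V A) (G' : Gens t R V A c w d a s)
    {π : ↥(centralizer ({t} : Set G)) →* Equiv.Perm (Fin 5)} (hA : Act t R V c d a s π) :
    ∃ x, ∃ hx : x ∈ centralizer ({t} : Set G), π ⟨x, hx⟩ = tauP ∧ x ^ 5 = 1 ∧
      ∀ n, ext fx n < 64 ∧ x * phiR c d a n * x⁻¹ = phiR c d a (ext fx n) := by
  classical
  have B := G'.basis
  obtain ⟨gl, sq2, cen, com1, n1, n2, n3, n4, efci, efh, efx, fxl, wi1, wi2⟩ := gensN_facts
  obtain ⟨te1, te2, te0, te1', -, te5, te16⟩ := tau_eqs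
  obtain ⟨g0, g1, g2, g3, g4⟩ := phiR_gens h G'
  obtain ⟨⟨x0, hx0⟩, px0⟩ := hA.proj.surj tauP
  have hx0R : x0 ^ 5 ∈ R := by
    have := (hA.proj.ker (⟨x0, hx0⟩ ^ 5)).1 (by rw [map_pow, px0, te5])
    simpa using this
  have r4 : ∀ r ∈ R, r ^ 4 = 1 := by
    intro r hr
    have htt : t * t = 1 := h.V_sq t h.t_V
    rcases h.R_sq r hr with e | e <;> rw [show (4 : ℕ) = 2 * 2 from rfl, pow_mul, sq, sq, e]
    · rw [one_mul]
    · exact htt
  set x1 := x0 ^ 16 with hx1
  have hx1H : x1 ∈ centralizer ({t} : Set G) := pow_mem hx0 16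
  have x15 : x1 ^ 5 = 1 := by
    rw [hx1, ← pow_mul, show 16 * 5 = 5 * (4 * 4) from rfl, pow_mul, pow_mul, r4 _ hx0R, one_pow]
  have px1 : π ⟨x1, hx1H⟩ = tauP := by
    rw [show (⟨x1, hx1H⟩ : ↥(centralizer ({t} : Set G))) = ⟨x0, hx0⟩ ^ 16 from Subtype.ext rfl, map_pow, px0, te16]
  set f : G →* G := (MulAut.conj x1).toMonoidHom with hf
  have fR : ∀ n, ∃ m < 64, f (phiR c d a n) = phiR c d a m := fun n =>
    phiR_surj h G' _ (h.R_conj x1 hx1H _ (phiR_mem h G' n))
  -- the centre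
  have c1 : f (phiR c d a 1) = phiR c d a 1 := by
    obtain ⟨m, hm, em⟩ := fR 1
    have ht : phiR c d a 2 = t := by
      rw [show phiR c d a 2 = c 38 * c 38 by simp [phiR, sq], ← B.add 38 (by norm_num) 38 (by norm_num),
        ← B.t_code]
      rfl
    have ft : f t = t := comm_H h hx1H
    have hsq : rmul m m = 2 := by
      refine phiR_inj h G' (codeR_mul m hm m hm).1 (by norm_num) ?_
      rw [← phiR_mul h G' hm hm, ← em, ← map_mul, phiR_mul h G' (by norm_num) (by norm_num),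
        show rmul 1 1 = 2 by decide, ht, ft]
    have hcen : ∀ k < 5, rmul m (gensN.getD k 0) = rmul (gensN.getD k 0) m := by
      intro k hk
      obtain ⟨n, hn, en⟩ := phiR_surj h G' _ (h.R_conj x1⁻¹ (inv_mem hx1H) _ (phiR_mem h G' (gensN.getD k 0)))
      have efn : f (phiR c d a n) = phiR c d a (gensN.getD k 0) := by
        rw [← en]
        show x1 * (x1⁻¹ * phiR c d a (gensN.getD k 0) * x1⁻¹⁻¹) * x1⁻¹ = _
        group
      refine phiR_inj h G' (codeR_mul m hm _ (gl k hk)).1 (codeR_mul _ (gl k hk) m hm).1 ?_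
      rw [← phiR_mul h G' hm (gl k hk), ← phiR_mul h G' (gl k hk) hm, ← em, ← efn, ← map_mul, ← map_mul,
        phiR_mul h G' (by norm_num) hn, phiR_mul h G' hn (by norm_num), com1 n hn]
    rcases sq2 m hm hsq hcen with rfl | rfl
    · exact em
    · exfalso
      have e3 : phiR c d a 3 = phiR c d a 1 ^ 3 := by simp [phiR]
      have it : ∀ k : ℕ, x1 ^ k * phiR c d a 1 * (x1 ^ k)⁻¹ = phiR c d a 1 ^ (3 ^ k) := by
        intro k
        induction k with
        | zero => simp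
        | succ k ih =>
          rw [pow_succ' x1, show x1 * x1 ^ k * phiR c d a 1 * (x1 * x1 ^ k)⁻¹ =
            x1 * (x1 ^ k * phiR c d a 1 * (x1 ^ k)⁻¹) * x1⁻¹ by group, ih, ← conj_pow,
            show x1 * phiR c d a 1 * x1⁻¹ = phiR c d a 1 ^ 3 from (show f _ = _ from em.trans e3), ← pow_mul,
            pow_succ' 3]
      have h5 := it 5
      rw [x15, one_mul, inv_one, mul_one] at h5
      have h4 : phiR c d a 1 ^ 4 = 1 := r4 _ (phiR_mem h G' 1)
      rw [show 3 ^ 5 = 4 * 60 + 3 from rfl, pow_add, pow_mul, h4, one_pow, one_mul, ← e3] at h5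
      exact absurd (phiR_inj h G' (by norm_num) (by norm_num) h5) (by norm_num)
  -- the images
  have vv : ∀ n j, n ∈ vsets.getD j [] → ∀ hj : j < 5, ∃ m ∈ vsets.getD ((tauP ⟨j, hj⟩ : Fin 5) : ℕ) [],
      m < 64 ∧ f (phiR c d a n) = phiR c d a m := by
    intro n j hn hj
    obtain ⟨m, hm, e⟩ := px1 ▸ hA.vset x1 hx1H ⟨j, hj⟩ _ ⟨n, hn, rfl⟩
    have hlt := vsets_lt _ (by
      rw [List.getD_eq_getElem _ _ (by simpa [vsets] using (tauP ⟨j, hj⟩).2)]; exact List.getElem_mem _) m hm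
    exact ⟨m, hm, hlt, e⟩
  obtain ⟨p, hp, pl, ep⟩ := vv 4 0 (by decide) (by norm_num)
  obtain ⟨q, hq, ql, eq⟩ := vv 8 0 (by decide) (by norm_num)
  obtain ⟨a', ha, al, ea⟩ := vv 16 1 (by decide) (by norm_num)
  obtain ⟨b', hb, bl, eb⟩ := vv 32 1 (by decide) (by norm_num)
  rw [show (⟨0, (by norm_num : 0 < 5)⟩ : Fin 5) = 0 from rfl, te0] at hp hq
  rw [show (⟨1, (by norm_num : 1 < 5)⟩ : Fin 5) = 1 from rfl, te1'] at ha hb
  change p ∈ vsets.getD 2 [] at hp
  change q ∈ vsets.getD 2 [] at hq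
  change a' ∈ vsets.getD 0 [] at ha
  change b' ∈ vsets.getD 0 [] at hb
  set F := [1, p, q, a', b'] with hF
  have hFk : ∀ k < 5, F.getD k 0 < 64 ∧ f (phiR c d a (gensN.getD k 0)) = phiR c d a (F.getD k 0) := by
    intro k hk
    interval_cases k
    · exact ⟨by norm_num [hF], c1⟩
    · exact ⟨pl, ep⟩
    · exact ⟨ql, eq⟩
    · exact ⟨al, ea⟩
    · exact ⟨bl, eb⟩
  have hom := phiR_hom h G' f F hFk
  have finj : ∀ i j i' j', i < 64 → j < 64 → i' < 64 → j' < 64 → f (phiR c d a i) = phiR c d a i' →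
      f (phiR c d a j) = phiR c d a j' → (rmul i' j' = rmul j' i' ↔ rmul i j = rmul j i) := by
    intro i j i' j' hi hj hi' hj' e e'
    have k1 : ∀ u v, u < 64 → v < 64 → (rmul u v = rmul v u ↔ phiR c d a u * phiR c d a v = phiR c d a v * phiR c d a u) :=
      fun u v hu hv => by
        rw [phiR_mul h G' hu hv, phiR_mul h G' hv hu]
        exact ⟨fun e => by rw [e], phiR_inj h G' (codeR_mul u hu v hv).1 (codeR_mul v hv u hu).1⟩
    rw [k1 i' j' hi' hj', k1 i j hi hj, ← e, ← e', ← map_mul, ← map_mul]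
    exact (MulAut.conj x1).injective.eq_iff
  have hcomm : commOK p q a' b' = true := by
    simp only [commOK, Bool.and_eq_true, bne_iff_ne, ne_eq, beq_iff_eq]
    exact ⟨⟨⟨fun e => n1 ((finj 4 16 p a' (by norm_num) (by norm_num) pl al ep ea).1 e),
      fun e => n2 ((finj 8 16 q a' (by norm_num) (by norm_num) ql al eq ea).1 e)⟩,
      fun e => n3 ((finj 8 32 q b' (by norm_num) (by norm_num) ql bl eq eb).1 e)⟩,
      (finj 4 32 p b' (by norm_num) (by norm_num) pl bl ep eb).2 n4⟩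
  have itF : ∀ k, (fiter F k).length = 5 ∧ ∀ j < 5, (fiter F k).getD j 0 < 64 ∧
      x1 ^ k * phiR c d a (gensN.getD j 0) * (x1 ^ k)⁻¹ = phiR c d a ((fiter F k).getD j 0) := by
    intro k
    induction k with
    | zero => exact ⟨rfl, fun j hj => ⟨gl j hj, by simp [fiter, gensN]⟩⟩
    | succ k ih =>
      obtain ⟨hlen, ih⟩ := ih
      refine ⟨by simp [fiter, fcomp, hlen], fun j hj => ?_⟩
      have eg : (fiter F (k + 1)).getD j 0 = ext F ((fiter F k).getD j 0) := by
        rw [fiter, fcomp, List.getD_eq_getElem _ _ (by simp [hlen]; omega), List.getElem_map,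
          List.getD_eq_getElem _ _ (by omega)]
      rw [eg]
      refine ⟨(hom _).1, ?_⟩
      rw [← (hom _).2, ← (ih j hj).2, pow_succ' x1]
      show x1 * x1 ^ k * _ * (x1 * x1 ^ k)⁻¹ = x1 * (x1 ^ k * _ * (x1 ^ k)⁻¹) * x1⁻¹
      group
  have hit5 : fiter F 5 = [1, 4, 8, 16, 32] := by
    obtain ⟨hlen, h5⟩ := itF 5
    refine List.ext_getElem (by simp [hlen]) fun j hj1 hj2 => ?_
    obtain ⟨hl, e⟩ := h5 j (by omega)
    rw [x15, one_mul, inv_one, mul_one] at e
    have e' := phiR_inj h G' (gl j (by omega)) hl e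
    rw [List.getD_eq_getElem _ _ hj1] at e'
    rw [← e', gensN, List.getD_eq_getElem _ _ hj2]
  -- compatibility with the normalizer of the five-subgroup
  set LB := lettersB c d a s with hLB
  set C := ev LB [6, 9, 10, 4] with hC
  have hfl : ∀ l, fl LB l ∈ centralizer ({t} : Set G) := by
    intro l
    have hd : d ∈ centralizer ({t} : Set G) := ((G'.pre.four_facts h).1 (subset_closure (by simp))).2
    have hs : s ∈ centralizer ({t} : Set G) := ((G'.pre.four_facts h).1 (subset_closure (by simp))).2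
    have hcv := fun v (hv : v < 64) => h.A_le_H B (B.mem v hv)
    rcases l with _ | _ | _ | _ | _ | _ | _ | _ | _ | _ | _ | _ | l <;>
      simp only [hLB, lettersB, fl, List.getD_cons_succ, List.getD_cons_zero, List.getD_nil]
    exacts [hcv 1 (by norm_num), hcv 3 (by norm_num), hcv 4 (by norm_num), hcv 12 (by norm_num),
      hcv 16 (by norm_num), hcv 48 (by norm_num), h.R_le G'.a_mem, h.R_le G'.a_mem, hd, pow_mem hd 2, hs, hs,
      one_mem _]
  have hCH : C ∈ centralizer ({t} : Set G) := by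
    simp only [hC, ev_cons, ev_nil, mul_one]
    exact mul_mem (hfl 6) (mul_mem (hfl 9) (mul_mem (hfl 10) (hfl 4)))
  have pC : π ⟨C, hCH⟩ = dP⁻¹ * sP * trn 16 := by
    have hdH : d ∈ centralizer ({t} : Set G) := hfl 8
    have hsH : s ∈ centralizer ({t} : Set G) := hfl 10
    have hc16 : c 16 ∈ centralizer ({t} : Set G) := hfl 4
    have e : (⟨C, hCH⟩ : ↥(centralizer ({t} : Set G))) =
        ⟨a, h.R_le G'.a_mem⟩ * ⟨d, hdH⟩⁻¹ * ⟨s, hsH⟩ * ⟨c 16, hc16⟩ := by
      refine Subtype.ext ?_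
      show ev LB [6, 9, 10, 4] = a * d⁻¹ * s * c 16
      rw [show d⁻¹ = d ^ 2 from inv_eq_of_mul_eq_one_right (by rw [← pow_succ']; exact G'.pre.wd.d_pow)]
      simp [hLB, ev, fl, lettersB, mul_assoc]
    rw [e, map_mul, map_mul, map_mul, map_inv, hA.pi_a, hA.pi_d, hA.pi_s, hA.pi_c 16 (by norm_num), one_mul]
  have hyR : C * x1 * C⁻¹ * (x1 ^ 2)⁻¹ ∈ R := by
    refine (hA.proj.ker (⟨C, hCH⟩ * ⟨x1, hx1H⟩ * ⟨C, hCH⟩⁻¹ * (⟨x1, hx1H⟩ ^ 2)⁻¹)).1 ?_
    rw [map_mul, map_mul, map_mul, map_inv, map_inv, map_pow, pC, px1, te1, sq]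
    group
  have cjk : ∀ k < 5, C⁻¹ * phiR c d a (gensN.getD k 0) * C = phiR c d a (fci.getD k 0) := by
    intro k hk
    have := (phiR_conj h G' cj_checks.2.1 (gensN.getD k 0)).2
    rw [efci k hk, ← wi1, ev_winv (lettersB_inv h G'), inv_inv] at this
    exact this
  obtain ⟨rn, hrn, ern⟩ := phiR_surj h G' _ hyR
  have hcompat : compat F = true := by
    simp only [compat, List.any_eq_true, List.all_eq_true, List.mem_range, beq_iff_eq]
    refine ⟨rn / 4, by omega, fun k hk => ?_⟩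
    have hci : fci.getD k 0 < 64 := efci k hk ▸ (phiR_conj h G' cj_checks.2.1 (gensN.getD k 0)).1
    have hm := ((itF 2).2 k hk)
    rw [← inn_coset rn hrn _ hm.1]
    have hc2 := phiR_conj h G' cj_checks.1 (ext F (fci.getD k 0))
    refine phiR_inj h G' hc2.1 (phiR_inn h G' hrn hm.1).1 ?_
    rw [← hc2.2, ← (hom _).2, ← cjk k hk, ← (phiR_inn h G' hrn hm.1).2, ← hm.2, ← ern]
    show C * (x1 * (C⁻¹ * phiR c d a (gensN.getD k 0) * C) * x1⁻¹) * C⁻¹ = _
    group
  obtain ⟨r, hr, hconj⟩ := cand_table p hp q hq a' ha b' hb hcomm hit5 hcompat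
  set rho := phiR c d a (4 * r) with hrho
  have hr4 : 4 * r < 64 := by omega
  have hrhoR : rho ∈ R := phiR_mem h G' _
  have hrhoH := h.R_le hrhoR
  refine ⟨rho * x1 * rho⁻¹, mul_mem (mul_mem hrhoH hx1H) (inv_mem hrhoH), ?_, ?_, ?_⟩
  · have e : (⟨rho * x1 * rho⁻¹, mul_mem (mul_mem hrhoH hx1H) (inv_mem hrhoH)⟩ : ↥(centralizer ({t} : Set G))) =
        ⟨rho, hrhoH⟩ * ⟨x1, hx1H⟩ * ⟨rho, hrhoH⟩⁻¹ := Subtype.ext rfl
    rw [e, map_mul, map_mul, map_inv, (hA.proj.ker ⟨rho, hrhoH⟩).2 hrhoR, px1, one_mul, inv_one, mul_one]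
  · rw [conj_pow, x15, mul_one, mul_inv_cancel]
  · intro n
    refine phiR_hom h G' (MulAut.conj (rho * x1 * rho⁻¹)).toMonoidHom fx (fun k hk => ⟨fxl k hk, ?_⟩) n
    have hn3 := (inn_inv _ hr4).2
    have i1 := phiR_inn h G' hn3 (gl k hk)
    have i2 := phiR_inn h G' hr4 (hom (inn (rpw (4 * r) 3) (gensN.getD k 0))).1
    have hk' : inn (4 * r) (ext F (inn (rpw (4 * r) 3) (gensN.getD k 0))) = fx.getD k 0 := hconj k hk
    show rho * x1 * rho⁻¹ * phiR c d a (gensN.getD k 0) * (rho * x1 * rho⁻¹)⁻¹ = _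
    rw [← hk', ← i2.2, ← (hom _).2, ← i1.2, phiR_inv h G' hr4, inv_inv]
    show _ = rho * (x1 * (rho⁻¹ * phiR c d a (gensN.getD k 0) * rho) * x1⁻¹) * rho⁻¹
    group

theorem ev16_low (c : ℕ → G) (w d a s x : G) : ∀ r : List ℕ, (∀ l ∈ r, l < 14) →
    ev (letters16 c w d a s x) r = ev (lettersG c w d a s) r
  | [], _ => rfl
  | l :: r, hr => by
    rw [ev_cons, ev_cons, ev16_low c w d a s x r fun m hm => hr m (List.mem_cons_of_mem _ hm)]
    congr 1
    have hl := hr l (by simp)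
    simp only [fl, List.getD_eq_getElem?_getD, letters16]
    rw [List.getElem?_append_left (by simp [lettersG]; omega)]

theorem ev16_B (c : ℕ → G) (w d a s x : G) : ∀ r : List ℕ, (∀ l ∈ r, l < 12) →
    ev (letters16 c w d a s x) r = ev (lettersB c d a s) r
  | [], _ => rfl
  | l :: r, hr => by
    rw [ev_cons, ev_cons, ev16_B c w d a s x r fun m hm => hr m (List.mem_cons_of_mem _ hm)]
    congr 1
    have hl := hr l (by simp)
    interval_cases l <;> rfl

theorem fl14 (c : ℕ → G) (w d a s x : G) : fl (letters16 c w d a s x) 14 = x ∧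
    fl (letters16 c w d a s x) 15 = x ^ 4 := ⟨rfl, rfl⟩

theorem ev_app_cons (L : List G) (u v : List ℕ) (l : ℕ) : ev L (u ++ l :: v) = ev L u * (fl L l * ev L v) := by
  rw [ev_append, ev_cons]

theorem relsM_low : (∀ r ∈ relsM, ∀ l ∈ r, l < 14) ∧ (∀ r ∈ relsX, ∀ l ∈ r, l < 14) ∧
    (∀ r ∈ relsB, r ∈ relsM) := by decide +kernel

theorem exists_x (h : Hyp t R V A) (G' : Gens t R V A c w d a s)
    {π : ↥(centralizer ({t} : Set G)) →* Equiv.Perm (Fin 5)} (hA : Act t R V c d a s π) :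
    ∃ x, ∃ hx : x ∈ centralizer ({t} : Set G), π ⟨x, hx⟩ = tauP ∧
      (∀ n, ext fx n < 64 ∧ x * phiR c d a n * x⁻¹ = phiR c d a (ext fx n)) ∧
      RelsC (letters16 c w d a s x) ∧
      ∀ r ∈ relsI ++ relsM ++ relsH ++ relsX, ev (letters16 c w d a s x) r = 1 := by
  obtain ⟨x, hxH, px, x5, hx⟩ := exists_five h G' hA
  refine ⟨x, hxH, px, hx, ?_⟩
  have B := G'.basis
  have P := G'.pre
  obtain ⟨gl, -, -, -, -, -, -, -, efci, efh, efx, fxl, wi1, wi2⟩ := gensN_facts
  obtain ⟨te1, te2, -, -, -, -, -⟩ := tau_eqs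
  obtain ⟨g0, -, -, -, -⟩ := phiR_gens h G'
  obtain ⟨lM, lX, hBM⟩ := relsM_low
  obtain ⟨fx1, fh2, -⟩ := fx_eqs
  set L := letters16 c w d a s x with hL
  set LB := lettersB c d a s with hLB
  have dd : d ^ 2 = d⁻¹ := eq_inv_of_mul_eq_one_right (by rw [← pow_succ']; exact P.wd.d_pow)
  have x4 : x ^ 4 = x⁻¹ := eq_inv_of_mul_eq_one_right (by rw [← pow_succ']; exact x5)
  have cx : x * c 38 * x⁻¹ = c 38 := by
    have := (hx 1).2
    rw [g0, show ext fx 1 = 1 by decide +kernel, g0] at this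
    exact this
  have c4' : c 38 ^ 4 = 1 := by
    rw [← g0]
    rcases h.R_sq _ (phiR_mem h G' 1) with e | e <;> rw [show (4 : ℕ) = 2 * 2 from rfl, pow_mul, sq, sq, e]
    · rw [one_mul]
    · exact h.V_sq t h.t_V
  -- pairs of inverse letters
  have hI : ∀ r ∈ relsI, ev L r = 1 := by
    have invB := lettersB_inv h G'
    have w7 := P.wd.w_pow
    intro r hr
    have e14 : fl L 14 = x := rfl
    have e15 : fl L 15 = x ^ 4 := rfl
    have e12 : fl L 12 = w := rfl
    have e13 : fl L 13 = w ^ 6 := rfl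
    by_cases hlow : ∀ l ∈ r, l < 12
    · rw [ev16_B c w d a s x r hlow]
      have := (show ∀ r ∈ relsI, (∀ l ∈ r, l < 12) → ∃ l, r = [l, iv l] by
        intro r hr _
        simp [relsI] at hr
        rcases hr with rfl | rfl | rfl | rfl | rfl | rfl | rfl | rfl | rfl | rfl | rfl | rfl | rfl | rfl | rfl | rfl <;>
          exact ⟨_, rfl⟩) r hr hlow
      obtain ⟨l, rfl⟩ := this
      simp [ev, invB]
    · have := (show ∀ r ∈ relsI, ¬ (∀ l ∈ r, l < 12) → r = [12, 13] ∨ r = [13, 12] ∨ r = [14, 15] ∨ r = [15, 14] by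
        decide) r hr hlow
      rcases this with rfl | rfl | rfl | rfl <;>
        simp only [ev_cons, ev_nil, mul_one, e12, e13, e14, e15, ← pow_succ, ← pow_succ']
      exacts [w7, w7, x5, x5]
  -- the action on the core
  have hcore : ∀ n < 64, ∀ m < 64, rmul (ext fx n) m = 0 →
      x * phiR c d a n * x⁻¹ * phiR c d a m = 1 := by
    intro n _ m hm e
    rw [(hx n).2, phiR_mul h G' (hx n).1 hm, e, phiR_zero]
  obtain ⟨hle, htriv⟩ := four_compl h G'
  have evR : ∀ r n, n < 64 → evP codesB r = codeR.getD n 0 → ev LB r = phiR c d a n := by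
    intro r n hn e
    have := Rep.ev_rep B _ (rep_lettersB G') r
    rw [e] at this
    exact Rep.eq h B hle htriv this (rep_phiR h G' hn)
  -- the normalizer of the five-subgroup
  set C := ev LB [6, 9, 10, 4] with hC
  have hCeq : C = a * d⁻¹ * s * c 16 := by
    rw [hC, ← dd]
    simp [hLB, ev, fl, lettersB, mul_assoc]
  have hB4 := (P.four_facts h).1
  have hdH : d ∈ centralizer ({t} : Set G) := (hB4 (subset_closure (by simp))).2
  have hsH : s ∈ centralizer ({t} : Set G) := (hB4 (subset_closure (by simp))).2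
  have hc16 : c 16 ∈ centralizer ({t} : Set G) := h.A_le_H B (B.mem 16 (by norm_num))
  have haH := h.R_le G'.a_mem
  have hCH : C ∈ centralizer ({t} : Set G) := hCeq ▸ mul_mem (mul_mem (mul_mem haH (inv_mem hdH)) hsH) hc16
  have hcommc : ∀ {g : G}, g * c 38 * g⁻¹ = c 38 → ∀ i : ℕ, Commute (c 38 ^ i) g := fun {g} hg i =>
    Commute.pow_left (show Commute (c 38) g from (mul_inv_eq_iff_eq_mul.1 hg).symm) i
  have relC : C * x * C⁻¹ = x ^ 2 := by
    set z := C * x * C⁻¹ * (x ^ 2)⁻¹ with hz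
    have hzR : z ∈ R := by
      refine (hA.proj.ker (⟨C, hCH⟩ * ⟨x, hxH⟩ * ⟨C, hCH⟩⁻¹ * (⟨x, hxH⟩ ^ 2)⁻¹)).1 ?_
      have e : (⟨C, hCH⟩ : ↥(centralizer ({t} : Set G))) =
          ⟨a, haH⟩ * ⟨d, hdH⟩⁻¹ * ⟨s, hsH⟩ * ⟨c 16, hc16⟩ := Subtype.ext hCeq
      rw [map_mul, map_mul, map_mul, map_inv, map_inv, map_pow, e, map_mul, map_mul, map_mul, map_inv,
        hA.pi_a, hA.pi_d, hA.pi_s, hA.pi_c 16 (by norm_num), one_mul, px, te1, sq]
      group
    have hfix : ∀ k < 5, z * phiR c d a (gensN.getD k 0) * z⁻¹ = phiR c d a (gensN.getD k 0) := by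
      -- on the images under the square
      have key : ∀ k < 5, C * x * C⁻¹ * phiR c d a (gensN.getD k 0) * (C * x * C⁻¹)⁻¹ =
          x ^ 2 * phiR c d a (gensN.getD k 0) * (x ^ 2)⁻¹ := by
        intro k hk
        have e1 : C⁻¹ * phiR c d a (gensN.getD k 0) * C = phiR c d a (fci.getD k 0) := by
          have := (phiR_conj h G' cj_checks.2.1 (gensN.getD k 0)).2
          rw [efci k hk, ← wi1, ev_winv (lettersB_inv h G'), inv_inv] at this
          exact this
        have e2 : x ^ 2 * phiR c d a (gensN.getD k 0) * (x ^ 2)⁻¹ = phiR c d a ((fiter fx 2).getD k 0) := by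
          have eq2 : (fiter fx 2).getD k 0 = ext fx (ext fx (gensN.getD k 0)) := by
            interval_cases k <;> rfl
          rw [eq2, ← (hx _).2, ← (hx _).2, sq]
          group
        rw [e2, ← fx1 k hk, ← (phiR_conj h G' cj_checks.1 _).2, ← (hx _).2, ← e1, hC, hLB]
        group
      intro k hk
      have hall : ∀ n, C * x * C⁻¹ * phiR c d a n * (C * x * C⁻¹)⁻¹ = x ^ 2 * phiR c d a n * (x ^ 2)⁻¹ := by
        intro n
        have hx2 : ∀ j < 5, (fiter fx 2).getD j 0 < 64 ∧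
            x ^ 2 * phiR c d a (gensN.getD j 0) * (x ^ 2)⁻¹ = phiR c d a ((fiter fx 2).getD j 0) := by
          intro j hj
          have eq2 : (fiter fx 2).getD j 0 = ext fx (ext fx (gensN.getD j 0)) := by
            interval_cases j <;> rfl
          rw [eq2]
          refine ⟨(hx _).1, ?_⟩
          rw [← (hx _).2, ← (hx _).2, sq]
          group
        have h1 := phiR_hom h G' (MulAut.conj (C * x * C⁻¹)).toMonoidHom (fiter fx 2)
          (fun j hj => ⟨(hx2 j hj).1, (key j hj).trans (hx2 j hj).2⟩) n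
        have h2 := phiR_hom h G' (MulAut.conj (x ^ 2)).toMonoidHom (fiter fx 2) hx2 n
        exact h1.2.trans h2.2.symm
      obtain ⟨n, hn, en⟩ := phiR_surj h G' _
        (h.R_conj _ (inv_mem (pow_mem hxH 2)) _ (phiR_mem h G' (gensN.getD k 0)))
      have en' : phiR c d a (gensN.getD k 0) = x ^ 2 * phiR c d a n * (x ^ 2)⁻¹ := by
        rw [← en]; group
      rw [en']
      conv_rhs => rw [← hall n]
      rw [hz]; group
    obtain ⟨i, -, ei⟩ := phiR_eq_one h G' hzR hfix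
    have hzc : Commute z (x ^ 2) := ei ▸ (hcommc cx i).pow_right 2
    have hy5 : (z * x ^ 2) ^ 5 = 1 := by
      rw [hz, inv_mul_cancel_right, conj_pow, x5, mul_one, mul_inv_cancel]
    rw [hzc.mul_pow, ← pow_mul, show 2 * 5 = 5 * 2 from rfl, pow_mul, x5, one_pow, mul_one] at hy5
    have z4 : z ^ 4 = 1 := by rw [ei, ← pow_mul, mul_comm, pow_mul, c4', one_pow]
    have z1 : z = 1 := by rw [← hy5, pow_succ, z4, one_mul]
    exact mul_inv_eq_one.1 z1
  -- the elements of order three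
  set g := ev LB [6, 8, 4] with hg
  have hgeq : g = a * d * c 16 := by simp [hg, hLB, ev, fl, lettersB, mul_assoc]
  have hgH : g ∈ centralizer ({t} : Set G) := hgeq ▸ mul_mem (mul_mem haH hdH) hc16
  have g3 : g * g * g = 1 := by
    have e := Rep.ev_rep B _ (rep_lettersB G') [6, 8, 4, 6, 8, 4, 6, 8, 4]
    rw [cj_checks.2.2.2.2] at e
    have e' := Rep.eq h B hle htriv e (Rep.one B _)
    rw [show ([6, 8, 4, 6, 8, 4, 6, 8, 4] : List ℕ) = [6, 8, 4] ++ [6, 8, 4] ++ [6, 8, 4] from rfl,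
      ev_append, ev_append] at e'
    exact e'
  have relG : x⁻¹ * g * x * d = 1 := by
    set z := d * (x⁻¹ * g * x) with hz
    have hzR : z ∈ R := by
      refine (hA.proj.ker (⟨d, hdH⟩ * (⟨x, hxH⟩⁻¹ * ⟨g, hgH⟩ * ⟨x, hxH⟩))).1 ?_
      have e : (⟨g, hgH⟩ : ↥(centralizer ({t} : Set G))) = ⟨a, haH⟩ * ⟨d, hdH⟩ * ⟨c 16, hc16⟩ :=
        Subtype.ext hgeq
      rw [map_mul, map_mul, map_mul, map_inv, e, map_mul, map_mul, hA.pi_a, hA.pi_d,
        hA.pi_c 16 (by norm_num), one_mul, px, mul_assoc tauP⁻¹, te2]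
      group
    have hfix : ∀ k < 5, z * phiR c d a (gensN.getD k 0) * z⁻¹ = phiR c d a (gensN.getD k 0) := by
      intro k hk
      have e1 : d⁻¹ * phiR c d a (gensN.getD k 0) * d = phiR c d a (fh.getD k 0) := by
        have := (phiR_conj h G' cj_checks.2.2.2.1 (gensN.getD k 0)).2
        rw [efh k hk, ev_cons, ev_nil, mul_one] at this
        rw [← this, show fl (lettersB c d a s) 9 = d⁻¹ from dd, inv_inv]
      have e3 : x * phiR c d a (gensN.getD k 0) * x⁻¹ = phiR c d a (fx.getD k 0) := by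
        rw [(hx _).2, efx k hk]
      have e4 : x * (d⁻¹ * phiR c d a (gensN.getD k 0) * d) * x⁻¹ =
          g * (x * phiR c d a (gensN.getD k 0) * x⁻¹) * g⁻¹ := by
        rw [e1, e3, (hx _).2, fh2 k hk, ← (phiR_conj h G' cj_checks.2.2.1 _).2]
      calc z * phiR c d a (gensN.getD k 0) * z⁻¹
          = d * (x⁻¹ * (g * (x * phiR c d a (gensN.getD k 0) * x⁻¹) * g⁻¹) * x) * d⁻¹ := by rw [hz]; group
        _ = _ := by rw [← e4]; group
    obtain ⟨i, -, ei⟩ := phiR_eq_one h G' hzR hfix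
    have hdc : d * c 38 * d⁻¹ = c 38 := by
      rw [G'.mat_d.2 38 (by norm_num), show apv D0 38 = 38 by decide +kernel]
    have hzc : Commute z d⁻¹ := ei ▸ (hcommc hdc i).inv_right
    have e5 : x⁻¹ * g * x = d⁻¹ * z := by rw [hz, inv_mul_cancel_left]
    have e6 : (d⁻¹ * z) ^ 3 = 1 := by
      rw [← e5, pow_succ, sq, show x⁻¹ * g * x * (x⁻¹ * g * x) * (x⁻¹ * g * x) = x⁻¹ * (g * g * g) * x by group,
        g3, mul_one, inv_mul_cancel]
    rw [hzc.symm.mul_pow, inv_pow, P.wd.d_pow, inv_one, one_mul] at e6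
    have z4 : z ^ 4 = 1 := by rw [ei, ← pow_mul, mul_comm, pow_mul, c4', one_pow]
    have z1 : z = 1 := by rw [← z4, pow_succ, e6, one_mul]
    rw [e5, z1, mul_one, inv_mul_cancel]
  -- assemble
  have hH : ∀ r ∈ relsH, ev L r = 1 := by
    intro r hr
    simp only [relsH, List.mem_cons, List.not_mem_nil, or_false] at hr
    rcases hr with e | hr | hr | hr | hr | hr | e | e
    · subst e
      simp only [ev_cons, ev_nil, mul_one, (fl14 c w d a s x).1, hL]
      rw [show x * (x * (x * (x * x))) = x ^ 5 by simp [pow_succ, mul_assoc], x5]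
    iterate 5
      · obtain ⟨n, hn, en, m, hm, em, e0, er, lA, lB⟩ := relsH_core r (by simp [hr])
        rw [er, List.cons_append, ev_cons, ev_append, ev_cons, ev16_B c w d a s x _ lA,
          ev16_B c w d a s x _ lB, evR _ n hn en, evR _ m hm em, (fl14 c w d a s x).1, (fl14 c w d a s x).2, x4,
          ← hcore n hn m hm e0]
        group
    · subst e
      rw [show ([6, 9, 10, 4, 14, 5, 11, 8, 7, 15, 15] : List ℕ) =
        [6, 9, 10, 4] ++ 14 :: ([5, 11, 8, 7] ++ [15, 15]) from rfl, ev_app_cons, ev_append L [5, 11, 8, 7],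
        ev16_B c w d a s x _ (by decide), ev16_B c w d a s x [5, 11, 8, 7] (by decide), ← wi1,
        ev_winv (lettersB_inv h G'), ev_cons (L := L) 15 [15], ev_cons (L := L) 15 [], ev_nil, (fl14 c w d a s x).1, (fl14 c w d a s x).2, x4,
        mul_one]
      calc C * (x * (C⁻¹ * (x⁻¹ * x⁻¹))) = C * x * C⁻¹ * (x ^ 2)⁻¹ := by rw [sq]; group
        _ = 1 := by rw [relC, mul_inv_cancel]
    · subst e
      rw [show ([15, 6, 8, 4, 14, 8] : List ℕ) = 15 :: ([6, 8, 4] ++ 14 :: [8]) from rfl, ev_cons (L := L), ev_app_cons L,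
        ev16_B c w d a s x _ (by decide), ev16_B c w d a s x [8] (by decide), (fl14 c w d a s x).1,
        (fl14 c w d a s x).2, x4, ev_cons (L := lettersB c d a s) 8 [], ev_nil, mul_one,
        show fl (lettersB c d a s) 8 = d from rfl, ← relG, hg, hLB]
      group
  have hM : ∀ r ∈ relsM ++ relsX, ev L r = 1 := fun r hr => by
    rw [ev16_low c w d a s x r (by
      rcases List.mem_append.1 hr with e | e
      · exact lM r e
      · exact lX r e)]
    exact G'.rels r hr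
  refine ⟨⟨by simp [hL, letters16, lettersG], fun r hr => ?_⟩, fun r hr => ?_⟩
  · rcases List.mem_append.1 hr with e | e
    · rcases List.mem_append.1 e with e | e
      · exact hI r e
      · exact hM r (List.mem_append_left _ (hBM r e))
    · exact hH r e
  · rcases List.mem_append.1 hr with e | e
    · rcases List.mem_append.1 e with e | e
      · rcases List.mem_append.1 e with e | e
        · exact hI r e
        · exact hM r (List.mem_append_left _ e)
      · exact hH r e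
    · exact hM r (List.mem_append_right _ e)

end CfsgLib.HSUniq
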