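/-!
Programs: the sixteen letters from the generators of the Higman–Sims group, and back.
-/

set_option autoImplicit false
set_option maxRecDepth 100000

namespace CfsgLib.HSUniq.Img

/-- The program for the sixteen letters. -/
def fwd : List (Nat × Nat) := [(1, 0), (3, 0), (4, 0), (5, 2), (6, 0), (7, 1), (8, 0), (9, 9),
    (10, 10), (1, 0), (12, 1), (13, 0), (14, 1), (15, 2), (16, 0), (17, 1),
    (18, 0), (19, 0), (20, 20), (20, 21), (2, 1), (23, 0), (24, 2), (25, 2),
    (26, 0), (27, 1), (28, 1), (29, 22), (29, 29), (29, 31), (31, 31), (32, 33),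
    (30, 34), (35, 35), (36, 36), (11, 35), (38, 35), (39, 11), (40, 35), (41, 11),
    (42, 35), (43, 35), (44, 11), (45, 35), (11, 46), (37, 47), (37, 48), (37, 49),
    (11, 50), (37, 51), (37, 52), (11, 53), (37, 54), (11, 35), (56, 35), (57, 35),
    (58, 11), (59, 35), (60, 11), (61, 35), (62, 11), (63, 35), (64, 11), (65, 11),
    (66, 35), (11, 67), (55, 68), (37, 69), (11, 70), (55, 71), (37, 72), (55, 73),
    (37, 74), (55, 75), (37, 76), (11, 35), (78, 11), (79, 35), (80, 35), (81, 35),
    (82, 11), (83, 11), (84, 11), (85, 35), (86, 35), (87, 35), (88, 11), (89, 35),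
    (37, 90), (11, 91), (77, 77), (77, 93), (94, 92), (55, 95), (37, 96), (94, 97),
    (37, 98), (35, 35), (100, 11), (101, 11), (102, 11), (103, 35), (104, 35), (105, 35),
    (106, 11), (107, 11), (108, 35), (11, 109), (99, 99), (111, 111), (112, 112), (99, 113),
    (114, 110), (37, 115), (94, 116), (37, 117), (94, 118), (11, 119), (55, 120), (11, 35),
    (122, 35), (123, 11), (124, 35), (125, 11), (126, 35), (127, 11), (94, 128), (37, 129),
    (11, 130), (37, 131), (37, 132), (94, 133), (114, 134), (114, 135), (11, 136), (35, 11),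
    (138, 35), (139, 11), (140, 35), (141, 11), (142, 11), (143, 11), (144, 11), (145, 11),
    (146, 11), (121, 121), (121, 148), (149, 147), (149, 150), (137, 137), (137, 152), (153, 151),
    (37, 154), (149, 155), (153, 156), (94, 157), (149, 158), (11, 11), (160, 11), (161, 35),
    (162, 11), (163, 35), (164, 35), (165, 35), (166, 35), (167, 11), (159, 159), (159, 169),
    (170, 168), (37, 171), (11, 172), (94, 173), (55, 174), (37, 175), (114, 176), (153, 177),
    (94, 178), (11, 179), (153, 180), (55, 181), (170, 182), (11, 11), (184, 35), (185, 11),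
    (186, 35), (187, 35), (188, 11), (189, 11), (190, 35), (191, 11), (192, 35), (114, 193),
    (114, 194), (11, 195), (114, 196), (94, 197), (37, 198), (153, 199), (94, 200), (55, 201),
    (202, 202), (202, 203), (11, 35), (205, 35), (206, 11), (207, 35), (208, 11), (209, 35),
    (210, 35), (149, 211), (114, 212), (37, 213), (153, 214), (37, 215), (37, 216), (153, 217),
    (114, 218), (94, 219), (153, 220), (204, 221), (149, 222), (149, 223), (170, 224), (202, 121),
    (226, 121), (227, 159), (228, 183), (121, 159), (230, 225), (11, 121), (232, 121), (233, 159),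
    (99, 202), (235, 77), (236, 11), (237, 55), (238, 202), (239, 225), (240, 183), (99, 202),
    (242, 77), (243, 11), (244, 137), (245, 202), (246, 121), (247, 121), (248, 225), (35, 99),
    (250, 11), (251, 55), (252, 35), (253, 35), (254, 202), (255, 99), (256, 137), (257, 202),
    (258, 159), (259, 225), (202, 99), (261, 77), (262, 11), (263, 55), (264, 202), (265, 121),
    (266, 121), (267, 159), (268, 225), (269, 183), (229, 229), (229, 271), (159, 159), (159, 273),
    (231, 231), (231, 275), (241, 241), (260, 260), (278, 278), (278, 279), (270, 270), (281, 281)]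

/-- The positions of the sixteen letters. -/
def sel : List Nat := [229, 272, 159, 274, 231, 276, 234, 234, 241, 277, 249, 249, 260, 280, 270, 282]

/-- The program for the three generators from the eight generators. -/
def bwd : List (Nat × Nat) := [(6, 6), (8, 8), (8, 9), (7, 7), (11, 11), (2, 2), (2, 13), (1, 2),
    (15, 1), (16, 5), (17, 6), (18, 3), (19, 0), (20, 3), (21, 2), (22, 6),
    (23, 6), (3, 24), (4, 4), (26, 25), (10, 27), (26, 28), (14, 29), (0, 0),
    (0, 31), (32, 30), (0, 0), (34, 0), (35, 4), (36, 4), (37, 0), (38, 1),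
    (39, 4), (40, 1), (41, 0), (42, 6), (43, 3), (44, 0), (12, 45), (14, 46),
    (32, 47), (32, 48), (33, 49), (1, 4), (51, 5), (52, 2), (53, 1), (54, 0),
    (55, 4), (56, 1), (57, 7), (58, 2), (10, 59), (3, 60), (14, 61), (32, 62),
    (50, 50), (50, 64), (65, 63), (33, 66), (65, 67), (1, 2), (69, 4), (70, 6),
    (71, 4), (72, 4), (73, 3), (74, 1), (75, 4), (76, 7), (77, 3), (78, 6),
    (79, 3), (12, 80), (3, 81), (1, 1), (1, 83), (84, 82), (5, 7), (86, 4),
    (87, 7), (88, 7), (89, 4), (90, 0), (91, 3), (92, 5), (93, 3), (94, 3),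
    (95, 6), (96, 6), (97, 0), (14, 98), (65, 99), (26, 100), (84, 101), (65, 102),
    (85, 85), (104, 104), (105, 103), (32, 106), (65, 107), (68, 68), (109, 108), (105, 110),
    (65, 111), (109, 112), (109, 113), (114, 114), (115, 115), (3, 2), (117, 6), (118, 5),
    (119, 5), (120, 2), (121, 3), (122, 4), (123, 1), (124, 7), (125, 4), (126, 2),
    (127, 6), (128, 1), (12, 129), (14, 130), (32, 131), (109, 132), (109, 133), (33, 134),
    (65, 135), (65, 136), (116, 137), (3, 138), (139, 3), (140, 68), (141, 50), (142, 33),
    (143, 50), (144, 68), (145, 114), (146, 114), (147, 114), (148, 138), (7, 50), (150, 6),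
    (151, 1), (152, 114), (153, 3), (154, 68), (155, 50), (156, 33), (157, 114), (158, 50),
    (159, 114), (160, 114), (161, 114), (162, 138)]

/-- The positions of the three generators. -/
def bsel : List Nat := [149, 114, 163]

end CfsgLib.HSUniq.Img
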