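import Cfsg.Agent.HSMult.Base
import Cfsg.Agent.HSUniq.Data
import Cfsg.Agent.HSUniq.ImageData

/-!
Lists run by programs, and the codes of the sixteen letters in the Higman–Sims group.
-/

set_option autoImplicit false
set_option maxRecDepth 100000
set_option maxHeartbeats 0

namespace CfsgLib.HSUniq.Img

open CfsgLib.Co0Model CfsgLib.CentralCert
open CfsgLib.ExtCert (forceN forceN_eq)

/-- Extend a list by the products named in a program. -/
def runG {M : Type*} [Monoid M] : List (ℕ × ℕ) → List M → List M
  | [], l => l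
  | (a, b) :: ps, l => runG ps (l ++ [l.getD a 1 * l.getD b 1])

/-- The same on codes. -/
def runN (one : ℕ) (mul : ℕ → ℕ → ℕ) : List (ℕ × ℕ) → List ℕ → List ℕ
  | [], l => l
  | (a, b) :: ps, l => forceN (mul (l.getD a one) (l.getD b one)) fun v => runN one mul ps (l ++ [v])

theorem map_run {G : Type*} [Group G] (md : Model G ℕ) : ∀ (ps : List (ℕ × ℕ)) (l : List G),
    (runG ps l).map md.enc = runN md.one md.mul ps (l.map md.enc) := by
  intro ps
  induction ps with
  | nil => intro l; rfl
  | cons e ps ih =>
    intro l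
    obtain ⟨a, b⟩ := e
    rw [runG, runN, forceN_eq, getD_map_enc, getD_map_enc, ← md.enc_mul, ih, List.map_append]
    rfl

theorem getD_mem_of {G : Type*} [Group G] {K : Subgroup G} {l : List G} (h : ∀ x ∈ l, x ∈ K) (i : ℕ) :
    l.getD i 1 ∈ K := by
  rcases lt_or_ge i l.length with hi | hi
  · rw [List.getD_eq_getElem _ _ hi]; exact h _ (List.getElem_mem hi)
  · rw [List.getD_eq_default _ _ hi]; exact one_mem _

theorem run_mem {G : Type*} [Group G] {K : Subgroup G} : ∀ (ps : List (ℕ × ℕ)) (l : List G),
    (∀ x ∈ l, x ∈ K) → ∀ x ∈ runG ps l, x ∈ K := by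
  intro ps
  induction ps with
  | nil => intro l h; exact h
  | cons e ps ih =>
    intro l h
    obtain ⟨a, b⟩ := e
    refine ih _ fun x hx => ?_
    rcases List.mem_append.1 hx with hx | hx
    · exact h x hx
    · rw [List.mem_singleton.1 hx]; exact mul_mem (getD_mem_of h a) (getD_mem_of h b)

/-- The codes of the sixteen letters. -/
def letterCodes : List ℕ := pick oneCode (slpN oneCode mmul fwd CfsgLib.HSMult.base 3) sel

/-- The even letters. -/
def eight (l : List ℕ) : List ℕ := [0, 2, 4, 6, 8, 10, 12, 14].map fun i => l.getD i oneCode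

theorem codes_checks :
    ((relsI ++ relsM ++ relsH ++ [relGood]).all fun w => tab oneCode mmul letterCodes w == oneCode) = true ∧
    bsel.map (fun i => (runN oneCode mmul bwd (eight letterCodes)).getD i oneCode) =
      [CfsgLib.HSMult.bCode, CfsgLib.HSMult.cCode, CfsgLib.HSMult.eCode] := by
  decide +kernel

end CfsgLib.HSUniq.Img
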