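import Cfsg.Agent.HSUniq.Coords
import Cfsg.Agent.HSUniq.Lin

/-!
# The matrices of the normalizer and the elements of orders seven and three
-/

set_option autoImplicit false
set_option linter.unusedSectionVars false
set_option maxRecDepth 4000

namespace CfsgLib.HSUniq

open Subgroup Mat

variable {G : Type*} [Group G] [Finite G] {t : G} {R V A : Subgroup G} {c : ℕ → G}

/-- The matrix of an element normalizing `A`. -/
noncomputable def mat (c : ℕ → G) (g : G) : ℕ := by
  classical exact if h : ∃ X, IsMat c g X then h.choose else 0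

theorem mat_of_isMat (B : Basis t A c) {g : G} {X : ℕ} (hX : IsMat c g X) : mat c g = X := by
  classical
  have h : ∃ X, IsMat c g X := ⟨X, hX⟩
  rw [mat, dif_pos h]
  exact B.mat_unique h.choose_spec hX

theorem isMat_mat (h : Hyp t R V A) (B : Basis t A c) {g : G} (hg : g ∈ normalizer (V : Set G)) :
    IsMat c g (mat c g) := by
  obtain ⟨X, hX⟩ := B.exists_mat fun x hx => h.A_conj g hg x hx
  rwa [mat_of_isMat B hX]

theorem mat_mul (h : Hyp t R V A) (B : Basis t A c) {g k : G} (hg : g ∈ normalizer (V : Set G))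
    (hk : k ∈ normalizer (V : Set G)) : mat c (g * k) = mmul (mat c g) (mat c k) :=
  mat_of_isMat B (B.isMat_mul (isMat_mat h B hg) (isMat_mat h B hk))

theorem mat_pow (h : Hyp t R V A) (B : Basis t A c) {g : G} (hg : g ∈ normalizer (V : Set G)) (n : ℕ) :
    mat c (g ^ n) = mpow (mat c g) n :=
  mat_of_isMat B (B.isMat_pow (isMat_mat h B hg) n)

theorem mat_mem (B : Basis t A c) {x : G} (hx : x ∈ A) : mat c x = one :=
  mat_of_isMat B (B.isMat_mem hx)

theorem Basis.neg (B : Basis t A c) {v : ℕ} (hv : v < 64) : c (ng v) = (c v)⁻¹ := by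
  obtain ⟨-, -, -, h0, hn⟩ := ad_table v hv v hv
  exact eq_inv_of_mul_eq_one_right (by rw [← B.add v hv _ hn, h0, B.zero])

theorem Basis.sq_eq_one (B : Basis t A c) {v : ℕ} (hv : v < 64) :
    c v * c v = 1 ↔ ∃ r < 8, v = dbl r := by
  rw [← B.add v hv v hv, ← B.zero]
  constructor
  · intro e
    have e0 := B.inj _ (ad_table v hv v hv).1 _ (by norm_num) e
    exact dbl_iff v hv (by rw [(sm_table v hv).2.2.1, e0])
  · rintro ⟨r, hr, rfl⟩
    rw [(dbl_table r hr).2.2.1]

theorem mem_V_iff (h : Hyp t R V A) (B : Basis t A c) {x : G} :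
    x ∈ V ↔ ∃ r < 8, x = c (dbl r) := by
  constructor
  · intro hx
    obtain ⟨v, hv, rfl⟩ := B.surj x (h.V_le_A hx)
    obtain ⟨r, hr, rfl⟩ := (B.sq_eq_one hv).1 (h.V_sq _ hx)
    exact ⟨r, hr, rfl⟩
  · rintro ⟨r, hr, rfl⟩
    exact h.A_Omega _ (B.mem _ (dbl_table r hr).1)
      ((B.sq_eq_one (dbl_table r hr).1).2 ⟨r, hr, rfl⟩)

theorem conj_dbl (h : Hyp t R V A) (B : Basis t A c) {g : G} (hg : g ∈ normalizer (V : Set G))
    {r : ℕ} (hr : r < 8) : g * c (dbl r) * g⁻¹ = c (dbl (bapp (redM (mat c g)) r)) := by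
  rw [(isMat_mat h B hg).2 _ (dbl_table r hr).1, (apv_dbl _ r hr).1]

theorem redM_one_apply : ∀ r < 8, bapp (redM one) r = r := by decide +kernel

theorem mem_A_of_redM (h : Hyp t R V A) (B : Basis t A c) {g : G} (hg : g ∈ normalizer (V : Set G))
    (hr : redM (mat c g) = redM one) : g ∈ A := by
  refine h.A_faithful g hg fun v hv => ?_
  obtain ⟨r, hr', rfl⟩ := (mem_V_iff h B).1 hv
  rw [conj_dbl h B hg hr', hr, redM_one_apply r hr']

theorem mat_one_iff (h : Hyp t R V A) (B : Basis t A c) {g : G} (hg : g ∈ normalizer (V : Set G)) :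
    mat c g = one ↔ g ∈ A :=
  ⟨fun e => mem_A_of_redM h B hg (by rw [e]), fun hx => mat_mem B hx⟩

theorem inv2_redM (h : Hyp t R V A) (B : Basis t A c) {g : G} (hg : g ∈ normalizer (V : Set G)) :
    inv2 (redM (mat c g)) = true := by
  rw [inv2, List.all_eq_true]
  intro r hr
  rw [List.mem_range] at hr
  simp only [bne_iff_ne, ne_eq]
  intro e
  have e1 := conj_dbl h B hg (r := r + 1) (by omega)
  rw [e, show dbl 0 = 0 by decide, B.zero, mul_inv_eq_one, mul_eq_left, ← B.zero] at e1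
  have := B.inj _ (dbl_table _ (by omega)).1 _ (by norm_num) e1
  exact Nat.succ_ne_zero r ((dbl_table _ (by omega)).2.1 this)

theorem eq_of_bapp : ∀ p ∈ (List.range 512).filter inv2, ∀ q ∈ (List.range 512).filter inv2,
    (∀ r ∈ [1, 2, 4], bapp p r = bapp q r) → p = q := by
  intro p hp q hq e
  simp only [List.mem_filter, List.mem_range] at hp hq
  have k : ∀ p < 512, bapp p 1 + 8 * bapp p 2 + 64 * bapp p 4 = p := by decide +kernel
  rw [← k p hp.1, ← k q hq.1, e 1 (by simp), e 2 (by simp), e 4 (by simp)]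

theorem redM_eq_iff (h : Hyp t R V A) (B : Basis t A c) {g k : G} (hg : g ∈ normalizer (V : Set G))
    (hk : k ∈ normalizer (V : Set G)) : redM (mat c g) = redM (mat c k) ↔ g⁻¹ * k ∈ A := by
  constructor
  · intro e
    refine h.A_faithful _ (mul_mem (inv_mem hg) hk) fun v hv => ?_
    obtain ⟨r, hr', rfl⟩ := (mem_V_iff h B).1 hv
    have e1 := conj_dbl h B hg hr'
    rw [e, ← conj_dbl h B hk hr'] at e1
    calc g⁻¹ * k * c (dbl r) * (g⁻¹ * k)⁻¹ = g⁻¹ * (k * c (dbl r) * k⁻¹) * g := by group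
      _ = c (dbl r) := by rw [← e1]; group
  · intro hA
    have e : mat c k = mat c g := by
      rw [show k = g * (g⁻¹ * k) by group, mat_mul h B hg (mul_mem (inv_mem hg) hk), mat_mem B hA,
        mmul_one (isMat_mat h B hg).1]
    rw [e]

theorem card_A (B : Basis t A c) : Nat.card A = 64 := by
  let f : Fin 64 → ↥A := fun v => ⟨c v, B.mem v v.2⟩
  have hb : Function.Bijective f := ⟨fun v w e => Fin.ext (B.inj v v.2 w w.2 (congrArg Subtype.val e)),
    fun x => by
      obtain ⟨v, hv, e⟩ := B.surj x x.2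
      exact ⟨⟨v, hv⟩, Subtype.ext e⟩⟩
  rw [← Nat.card_congr (Equiv.ofBijective f hb), Nat.card_eq_fintype_card, Fintype.card_fin]

/-- Every invertible matrix modulo two comes from the normalizer. -/
theorem exists_redM (h : Hyp t R V A) (B : Basis t A c) {p : ℕ} (hp : p < 512) (hi : inv2 p = true) :
    ∃ g ∈ normalizer (V : Set G), redM (mat c g) = p := by
  classical
  haveI := Fintype.ofFinite G
  set S : Finset G := Finset.univ.filter (fun g => g ∈ normalizer (V : Set G)) with hS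
  set T : Finset ℕ := ((List.range 512).filter inv2).toFinset with hT
  have hmap : ∀ g ∈ S, redM (mat c g) ∈ T := by
    intro g hg
    simp only [hS, Finset.mem_filter] at hg
    simp only [hT, List.mem_toFinset, List.mem_filter, List.mem_range]
    exact ⟨redM_lt _, inv2_redM h B hg.2⟩
  have hfib : ∀ q ∈ T, (S.filter fun g => redM (mat c g) = q).card ≤ 64 := by
    intro q _
    rcases (S.filter fun g => redM (mat c g) = q).eq_empty_or_nonempty with e | ⟨g, hg⟩
    · simp [e]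
    simp only [hS, Finset.mem_filter] at hg
    rw [← card_A B, Nat.card_eq_fintype_card]
    refine (Finset.card_le_card_of_injOn (fun k => g⁻¹ * k) ?_ ?_).trans
      (Fintype.card_subtype (fun x => x ∈ A)).ge
    · intro k hk
      simp only [hS, Finset.coe_filter, Set.mem_setOf_eq, Finset.mem_filter] at hk
      simp only [Finset.coe_filter, Finset.mem_univ, true_and, Set.mem_setOf_eq]
      exact (redM_eq_iff h B hg.1.2 hk.1.2).1 (hg.2.trans hk.2.symm)
    · intro a _ b _ e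
      exact mul_left_cancel e
  have hcS : S.card = 10752 := by
    rw [hS, ← Fintype.card_subtype, ← Nat.card_eq_fintype_card]
    exact h.card_M
  have hcT : T.card = 168 := by
    rw [hT, List.toFinset_card_of_nodup (List.Nodup.filter _ List.nodup_range), count_inv2]
  by_contra hne
  push Not at hne
  have hpT : p ∈ T := by
    simp only [hT, List.mem_toFinset, List.mem_filter, List.mem_range]
    exact ⟨hp, hi⟩
  have hlt : S.card < 64 * T.card := by
    rw [Finset.card_eq_sum_card_fiberwise hmap, mul_comm]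
    calc _ < ∑ _q ∈ T, 64 := Finset.sum_lt_sum hfib ⟨p, hpT, by
          rw [Finset.filter_eq_empty_iff.2 fun g hg => hne g (by simpa [hS] using hg)]
          simp⟩
      _ = _ := by rw [Finset.sum_const, smul_eq_mul]
  omega

/-- Changing coordinates by a matrix congruent to the identity modulo two. -/
theorem Basis.change (B : Basis t A c) {q : ℕ} (hq : q < 512) :
    Basis t A (fun v => c (apv (cor one q) v)) ∧ ∀ {g : G} {X Y : ℕ}, IsMat c g X → Y < 2 ^ 18 →
      mmul X (cor one q) = mmul (cor one q) Y → IsMat (fun v => c (apv (cor one q) v)) g Y := by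
  obtain ⟨hPP, hPt⟩ := corP q hq
  set P := cor one q
  have inv : ∀ v < 64, apv P (apv P v) = v := fun v hv => by
    rw [apv_mmul, hPP, one_facts.2.2.2 v hv]
  refine ⟨⟨fun v _ => B.mem _ (apv_lt _ _), fun v hv w hw => ?_, fun v hv w hw e => ?_, fun x hx => ?_,
    ?_, fun v hv => ?_⟩, fun {g X Y} hX hY e => ⟨hY, fun v hv => ?_⟩⟩
  · rw [apv_ad, B.add _ (apv_lt _ _) _ (apv_lt _ _)]
  · rw [← inv v hv, B.inj _ (apv_lt _ _) _ (apv_lt _ _) e, inv w hw]
  · obtain ⟨v, hv, rfl⟩ := B.surj x hx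
    exact ⟨apv P v, apv_lt _ _, congrArg c (inv v hv)⟩
  · show c (apv P T0) = t
    rw [hPt, B.t_code]
  · obtain ⟨u0, u1, u2⟩ := apv_units P
    show c (apv P v) = c (apv P 1) ^ _ * c (apv P 4) ^ _ * c (apv P 16) ^ _
    rw [u0, u1, u2]
    exact B.apply_apv P v
  · show g * c (apv P v) * g⁻¹ = c (apv P (apv Y v))
    rw [hX.2 _ (apv_lt _ _), apv_mmul, apv_mmul, e]

/-- The elements of orders seven and three in their standard coordinates. -/
structure WD (t : G) (V A : Subgroup G) (c : ℕ → G) (w d : G) : Prop where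
  basis : Basis t A c
  w_mem : w ∈ normalizer (V : Set G)
  d_mem : d ∈ normalizer (V : Set G)
  w_pow : w ^ 7 = 1
  d_pow : d ^ 3 = 1
  dw : d * w * d⁻¹ = w ^ 2
  mat_w : IsMat c w W0
  mat_d : IsMat c d D0

theorem redM_W0D0 : inv2 (redM W0) = true ∧ inv2 (redM D0) = true ∧
    redM (mpow W0 7) = redM one ∧ redM (mpow D0 3) = redM one ∧
      redM (mmul D0 W0) = redM (mmul (mmul W0 W0) D0) ∧ mpow W0 7 = one ∧ mpow D0 3 = one ∧
      W0 < 2 ^ 18 ∧ D0 < 2 ^ 18 := by decide +kernel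

theorem shift_W : ∀ a < 64, ∃ q < 64, ad (ad q a) (ng (apv (mmul W0 W0) q)) = 0 := by decide +kernel

theorem red_mmul_congr {X X' Y Y' : ℕ} (hX : redM X = redM X') (hY : redM Y = redM Y') :
    ∀ r < 8, bapp (redM (mmul X Y)) r = bapp (redM (mmul X' Y')) r := by
  intro r hr
  have dinj : ∀ a < 8, ∀ b < 8, dbl a = dbl b → a = b := by decide +kernel
  have key : ∀ X Y, dbl (bapp (redM (mmul X Y)) r) = dbl (bapp (redM X) (bapp (redM Y) r)) := fun X Y => by
    rw [← (apv_dbl _ r hr).1, ← apv_mmul, (apv_dbl Y r hr).1, (apv_dbl X _ (apv_dbl Y r hr).2).1]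
  exact dinj _ (apv_dbl _ r hr).2 _ (apv_dbl _ r hr).2 (by rw [key, key, hX, hY])

theorem redM_ext {X Y : ℕ} (e : ∀ r < 8, bapp (redM X) r = bapp (redM Y) r) : redM X = redM Y := by
  have k : ∀ p < 512, bapp p 1 + 8 * bapp p 2 + 64 * bapp p 4 = p := by decide +kernel
  rw [← k _ (redM_lt X), ← k _ (redM_lt Y), e 1 (by norm_num), e 2 (by norm_num), e 4 (by norm_num)]

theorem redM_mul {X X' Y Y' : ℕ} (hX : redM X = redM X') (hY : redM Y = redM Y') :
    redM (mmul X Y) = redM (mmul X' Y') := redM_ext (red_mmul_congr hX hY)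

theorem redM_pow {X X' : ℕ} (hX : redM X = redM X') : ∀ n, redM (mpow X n) = redM (mpow X' n)
  | 0 => rfl
  | n + 1 => redM_mul (redM_pow hX n) hX

theorem exists_wd (h : Hyp t R V A) : ∃ c w d, WD t V A c w d := by
  obtain ⟨c, B⟩ := exists_coords h
  obtain ⟨iW, iD, rW7, rD3, rDW, hW7, hD3, lW, lD⟩ := redM_W0D0
  -- the element of order seven
  obtain ⟨u, hu, eu⟩ := exists_redM h B (redM_lt W0) iW
  have u7 : u ^ 7 ∈ A := mem_A_of_redM h B (pow_mem hu 7) (by
    rw [mat_pow h B hu, redM_pow eu 7, rW7])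
  have a4 : ∀ x ∈ A, x ^ 4 = 1 := fun x hx => by
    rw [show (4 : ℕ) = 2 * 2 from rfl, pow_mul, sq, sq]
    exact h.V_sq _ (h.A_two x hx)
  set w := u ^ 8 with hw
  have hwM : w ∈ normalizer (V : Set G) := pow_mem hu 8
  have w7 : w ^ 7 = 1 := by
    rw [hw, ← pow_mul, show 8 * 7 = 7 * (4 * 2) from rfl, pow_mul, pow_mul, a4 _ u7, one_pow]
  have ew : redM (mat c w) = redM W0 := by
    rw [← eu]
    refine ((redM_eq_iff h B hu hwM).2 ?_).symm
    rw [hw, show 8 = 1 + 7 from rfl, pow_add, pow_one, inv_mul_cancel_left]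
    exact u7
  obtain ⟨b, hb, eb⟩ := exists_cor (isMat_mat h B hwM).1 ew
  have hb7 : mpow (cor W0 b) 7 = one := by
    rw [← eb, ← mat_pow h B hwM, w7]
    exact mat_mem B (one_mem A)
  obtain ⟨hq, eq⟩ := lift_W b hb hb7
  obtain ⟨B', tr⟩ := B.change hq
  set c' := fun v => c (apv (cor one (look witW b)) v)
  have mw : IsMat c' w W0 := tr (X := cor W0 b) (eb ▸ isMat_mat h B hwM) lW eq
  -- the element of order three
  obtain ⟨g, hg, eg⟩ := exists_redM h B' (redM_lt D0) iD
  have g3 : g ^ 3 ∈ A := mem_A_of_redM h B' (pow_mem hg 3) (by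
    rw [mat_pow h B' hg, redM_pow eg 3, rD3])
  have ww : IsMat c' (w ^ 2) (mmul W0 W0) := by rw [sq]; exact B'.isMat_mul mw mw
  have hvA : (w ^ 2 * g)⁻¹ * (g * w) ∈ A := by
    refine (redM_eq_iff h B' (mul_mem (pow_mem hwM 2) hg) (mul_mem hg hwM)).1 ?_
    rw [mat_mul h B' (pow_mem hwM 2) hg, mat_mul h B' hg hwM, mat_of_isMat B' ww, mat_of_isMat B' mw]
    exact (redM_mul rfl eg).trans (rDW.symm.trans (redM_mul eg rfl).symm)
  have hv' : g * w * g⁻¹ * (w ^ 2)⁻¹ ∈ A := by
    have := h.A_conj _ (mul_mem (pow_mem hwM 2) hg) _ hvA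
    convert this using 1
    group
  obtain ⟨a, ha, ea⟩ := B'.surj _ hv'
  obtain ⟨q, hq', eq'⟩ := shift_W a ha
  set g' := c' q * g with hg'
  have hqM : c' q ∈ normalizer (V : Set G) := h.A_le (B'.mem q hq')
  have hg'M : g' ∈ normalizer (V : Set G) := mul_mem hqM hg
  have rel : g' * w * g'⁻¹ = w ^ 2 := by
    have e1 : g * w * g⁻¹ = c' a * w ^ 2 := by rw [ea, inv_mul_cancel_right]
    calc g' * w * g'⁻¹ = c' q * (g * w * g⁻¹) * (c' q)⁻¹ := by rw [hg']; group
      _ = c' q * c' a * (w ^ 2 * (c' q)⁻¹ * (w ^ 2)⁻¹) * w ^ 2 := by rw [e1]; group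
      _ = c' q * c' a * (w ^ 2 * c' q * (w ^ 2)⁻¹)⁻¹ * w ^ 2 := by group
      _ = w ^ 2 := by
        rw [ww.2 q hq', ← B'.neg (apv_lt _ _), ← B'.add q hq' a ha,
          ← B'.add _ (ad_lt _ _) _ (ad_table _ (apv_lt (mmul W0 W0) q) 0 (by norm_num)).2.2.2.2, eq', B'.zero, one_mul]
  have eg' : mat c' g' = mat c' g := by
    rw [hg', mat_mul h B' hqM hg, mat_mem B' (B'.mem q hq'), one_mmul (isMat_mat h B' hg).1]
  have g3' : g' ^ 3 ∈ A := mem_A_of_redM h B' (pow_mem hg'M 3) (by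
    rw [mat_pow h B' hg'M, eg', redM_pow eg 3, rD3])
  set d := g' ^ 4 with hd
  have hdM : d ∈ normalizer (V : Set G) := pow_mem hg'M 4
  have d3 : d ^ 3 = 1 := by
    rw [hd, ← pow_mul, show 4 * 3 = 3 * 4 from rfl, pow_mul, a4 _ g3']
  have md : mat c' d = mat c' g := by
    rw [hd, pow_succ, mat_mul h B' (pow_mem hg'M 3) hg'M, mat_mem B' g3',
      one_mmul (isMat_mat h B' hg'M).1, eg']
  have step : ∀ n, g' ^ n * w * (g' ^ n)⁻¹ = w ^ (2 ^ n) := by
    intro n
    induction n with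
    | zero => simp
    | succ n ih =>
      calc g' ^ (n + 1) * w * (g' ^ (n + 1))⁻¹ = g' * (g' ^ n * w * (g' ^ n)⁻¹) * g'⁻¹ := by
            rw [pow_succ']; group
        _ = (g' * w * g'⁻¹) ^ (2 ^ n) := by rw [ih, conj_pow]
        _ = _ := by rw [rel, ← pow_mul, pow_succ, mul_comm]
  have dw : d * w * d⁻¹ = w ^ 2 := by
    rw [hd, step 4, show (2 : ℕ) ^ 4 = 7 * 2 + 2 from rfl, pow_add, pow_mul, w7, one_pow, one_mul]
  obtain ⟨b', hb', eb'⟩ := exists_cor (isMat_mat h B' hdM).1 (by rw [md, eg] : redM (mat c' d) = redM D0)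
  have hb3 : mpow (cor D0 b') 3 = Mat.one := by
    rw [← eb', ← mat_pow h B' hdM, d3]
    exact mat_mem B' (one_mem A)
  have hbc : mmul (cor D0 b') W0 = mmul (mmul W0 W0) (cor D0 b') := by
    rw [← eb']
    have e : mat c' (d * w) = mat c' (w ^ 2 * d) := congrArg _ (by rw [← dw, inv_mul_cancel_right])
    rwa [mat_mul h B' hdM hwM, mat_mul h B' (pow_mem hwM 2) hdM, mat_of_isMat B' ww,
      mat_of_isMat B' mw] at e
  obtain ⟨hp, ep, ew'⟩ := lift_D b' hb' hb3 hbc
  obtain ⟨B'', tr'⟩ := B'.change hp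
  exact ⟨_, w, d, B'', hwM, hdM, w7, d3, dw, tr' mw lW ew',
    tr' (X := cor D0 b') (eb' ▸ isMat_mat h B' hdM) lD ep⟩

end CfsgLib.HSUniq
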