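import Cfsg.Agent.HSUniq.Local
import Mathlib.GroupTheory.SpecificGroups.Alternating.Simple
import Mathlib.GroupTheory.GroupAction.Quotient

/-!
# The five cosets of the point stabilizer in the involution centralizer
-/

set_option autoImplicit false
set_option linter.unusedSectionVars false
set_option maxRecDepth 4000

namespace CfsgLib.HSUniq

open Subgroup Mat

theorem surj_of_fibres {α β : Type*} [DecidableEq β] (S : Finset α) (T : Finset β) (f : α → β) (n : ℕ)
    (hmap : ∀ x ∈ S, f x ∈ T) (hfib : ∀ q ∈ T, (S.filter fun x => f x = q).card ≤ n)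
    (hcard : n * T.card ≤ S.card) : ∀ q ∈ T, (S.filter fun x => f x = q).card = n := by
  intro q hq
  refine le_antisymm (hfib q hq) ?_
  by_contra hlt
  have h1 : S.card < n * T.card := by
    rw [Finset.card_eq_sum_card_fiberwise hmap, mul_comm]
    calc _ < ∑ _q ∈ T, n := Finset.sum_lt_sum hfib ⟨q, hq, Nat.lt_of_not_le hlt⟩
      _ = _ := by rw [Finset.sum_const, smul_eq_mul]
  omega

variable {G : Type*} [Group G] [Finite G] {t : G} {R V A : Subgroup G} {c : ℕ → G}

theorem Hyp.A_le_H (h : Hyp t R V A) (B : Basis t A c) : A ≤ centralizer ({t} : Set G) :=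
  fun x hx => mem_centralizer_singleton_iff.2 (B.comm x hx t (h.V_le_A h.t_V))

theorem dbl_two : dbl 2 = T0 := by decide

theorem Hyp.R_le_M (h : Hyp t R V A) : R ≤ normalizer (V : Set G) := by
  have key : ∀ r ∈ R, ∀ v ∈ V, r * v * r⁻¹ ∈ V := by
    intro r hr v hv
    rcases h.R_comm r hr v (h.V_le hv) with e | e
    · rw [mul_inv_eq_one] at e; rwa [e]
    · rw [mul_inv_eq_iff_eq_mul] at e; rw [e]; exact mul_mem h.t_V hv
  intro r hr
  refine mem_normalizer_iff.2 fun v => ⟨key r hr v, fun hv => ?_⟩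
  have := key r⁻¹ (inv_mem hr) _ hv
  simpa [mul_assoc] using this

theorem mem_H_iff (h : Hyp t R V A) (B : Basis t A c) {g : G} (hg : g ∈ normalizer (V : Set G)) :
    g ∈ centralizer ({t} : Set G) ↔ bapp (redM (mat c g)) 2 = 2 := by
  rw [mem_centralizer_singleton_iff, ← mul_inv_eq_iff_eq_mul, ← B.t_code, ← dbl_two,
    conj_dbl h B hg (by norm_num : 2 < 8)]
  have hl := (apv_dbl (mat c g) 2 (by norm_num)).2
  refine ⟨fun e => ?_, fun e => by rw [e]⟩
  have e' := B.inj _ (dbl_table _ hl).1 _ (dbl_table 2 (by norm_num)).1 e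
  exact (by decide : ∀ a < 8, ∀ b < 8, dbl a = dbl b → a = b) _ hl 2 (by norm_num) e'

theorem count_fix : (((List.range 512).filter inv2).filter fun p => bapp p 2 == 2).length = 24 := by
  decide +kernel

theorem card_MH (h : Hyp t R V A) (B : Basis t A c) :
    Nat.card ↥(normalizer (V : Set G) ⊓ centralizer ({t} : Set G)) = 1536 := by
  classical
  set L := ((List.range 512).filter inv2).filter fun p => bapp p 2 == 2 with hL
  have mL : ∀ p, p ∈ L ↔ (p < 512 ∧ inv2 p = true) ∧ bapp p 2 = 2 := fun p => by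
    simp [hL, List.mem_filter, and_assoc, and_left_comm, and_comm]
  have hex : ∀ p : ↥L.toFinset, ∃ g ∈ normalizer (V : Set G), redM (mat c g) = (p : ℕ) := fun p =>
    exists_redM h B ((mL _).1 (List.mem_toFinset.1 p.2)).1.1 ((mL _).1 (List.mem_toFinset.1 p.2)).1.2
  choose g hg eg using hex
  let f : ↥L.toFinset × ↥A → ↥(normalizer (V : Set G) ⊓ centralizer ({t} : Set G)) := fun q =>
    ⟨g q.1 * q.2, mul_mem (hg q.1) (h.A_le q.2.2), mul_mem ((mem_H_iff h B (hg q.1)).2
      (by rw [eg]; exact ((mL _).1 (List.mem_toFinset.1 q.1.2)).2)) (h.A_le_H B q.2.2)⟩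
  have hbij : Function.Bijective f := by
    refine ⟨fun a b e => ?_, fun k => ?_⟩
    · have e' : g a.1 * (a.2 : G) = g b.1 * b.2 := congrArg Subtype.val e
      have e1 : a.1 = b.1 := by
        refine Subtype.ext ?_
        rw [← eg, ← eg, redM_eq_iff h B (hg _) (hg _)]
        rw [show (g a.1)⁻¹ * g b.1 = (a.2 : G) * (b.2 : G)⁻¹ by
          rw [eq_mul_inv_iff_mul_eq, mul_assoc, ← e', inv_mul_cancel_left]]
        exact mul_mem a.2.2 (inv_mem b.2.2)
      refine Prod.ext e1 (Subtype.ext ?_)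
      rw [e1] at e'
      exact mul_left_cancel e'
    · have hp : redM (mat c (k : G)) ∈ L.toFinset :=
        List.mem_toFinset.2 ((mL _).2 ⟨⟨redM_lt _, inv2_redM h B k.2.1⟩, (mem_H_iff h B k.2.1).1 k.2.2⟩)
      have hA := (redM_eq_iff h B (hg ⟨_, hp⟩) k.2.1).1 (eg ⟨_, hp⟩)
      exact ⟨(⟨_, hp⟩, ⟨_, hA⟩), Subtype.ext (mul_inv_cancel_left _ _)⟩
  have hLn : L.Nodup := (List.nodup_range.filter _).filter _
  have hcL : L.length = 24 := count_fix
  rw [← Nat.card_eq_of_bijective f hbij, Nat.card_prod, card_A B, Nat.card_eq_fintype_card,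
    Fintype.card_coe, List.toFinset_card_of_nodup hLn, hcL]

/-- The action on five points. -/
structure Proj (t : G) (R V : Subgroup G) (π : ↥(centralizer ({t} : Set G)) →* Equiv.Perm (Fin 5)) :
    Prop where
  surj : Function.Surjective π
  ker : ∀ x, π x = 1 ↔ (x : G) ∈ R
  stab : ∀ x, π x 0 = 0 ↔ (x : G) ∈ normalizer (V : Set G)

theorem Proj.relabel {π : ↥(centralizer ({t} : Set G)) →* Equiv.Perm (Fin 5)} (P : Proj t R V π)
    (σ : Equiv.Perm (Fin 5)) (hσ : σ 0 = 0) :
    Proj t R V (MonoidHom.comp (MulAut.conj σ).toMonoidHom π) := by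
  refine ⟨(MulAut.conj σ).surjective.comp P.surj, fun x => ?_, fun x => ?_⟩
  · rw [← P.ker]
    exact map_eq_one_iff (MulAut.conj σ) (MulAut.conj σ).injective
  · rw [← P.stab]
    show σ (π x (σ⁻¹ 0)) = 0 ↔ _
    have h0 : σ⁻¹ 0 = 0 := by
      rw [Equiv.Perm.inv_def, Equiv.symm_apply_eq, hσ]
    rw [h0]
    exact ⟨fun e => σ.injective (e.trans hσ.symm), fun e => by rw [e, hσ]⟩

theorem exists_proj (h : Hyp t R V A) (B : Basis t A c) :
    ∃ π : ↥(centralizer ({t} : Set G)) →* Equiv.Perm (Fin 5), Proj t R V π := by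
  classical
  set H := centralizer ({t} : Set G) with hH
  set K := (normalizer (V : Set G)).subgroupOf H with hK
  obtain ⟨p, hp, pk⟩ := h.R_proj
  have hKc : Nat.card K = 1536 := by
    rw [← card_MH h B, hK, ← card_map_of_injective (K := (normalizer (V : Set G)).subgroupOf H)
      H.subtype_injective, subgroupOf_map_subtype]
  have hidx : K.index = 5 := by
    have e := K.index_mul_card
    rw [hKc, show Nat.card ↥H = 7680 from h.card_H] at e
    omega
  haveI := Fintype.ofFinite (↥H ⧸ K)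
  obtain ⟨e0⟩ : Nonempty ((↥H ⧸ K) ≃ Fin 5) := by
    refine ⟨(Finite.equivFin _).trans (finCongr ?_)⟩
    exact hidx
  set one' : ↥H ⧸ K := ((1 : ↥H) : ↥H ⧸ K)
  let e : (↥H ⧸ K) ≃ Fin 5 := e0.trans (Equiv.swap (e0 one') 0)
  have e1 : e one' = 0 := Equiv.swap_apply_left _ _
  let π : ↥H →* Equiv.Perm (Fin 5) :=
    e.permCongrHom.toMonoidHom.comp (MulAction.toPermHom ↥H (↥H ⧸ K))
  have stab : ∀ x, π x 0 = 0 ↔ (x : G) ∈ normalizer (V : Set G) := by
    intro x
    show e (x • e.symm 0) = 0 ↔ _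
    rw [← e1, e.symm_apply_apply, e.apply_eq_iff_eq]
    show ((x * 1 : ↥H) : ↥H ⧸ K) = ((1 : ↥H) : ↥H ⧸ K) ↔ _
    rw [QuotientGroup.eq, mul_one, mul_one, inv_mem_iff]
    exact mem_subgroupOf
  have hRker : ∀ x : ↥H, (x : G) ∈ R → π x = 1 := by
    intro x hx
    have : ∀ q : ↥H ⧸ K, x • q = q := by
      intro q
      obtain ⟨y, rfl⟩ := QuotientGroup.mk_surjective q
      refine QuotientGroup.eq.2 (mem_subgroupOf.2 ?_)
      have hm := h.R_le_M (h.R_conj _ (inv_mem y.2) _ (inv_mem hx))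
      simpa [mul_assoc] using hm
    exact Equiv.ext fun i => (congrArg e (this (e.symm i))).trans (e.apply_symm_apply i)
  have hN : π.ker.map p = ⊥ := by
    by_contra hne
    haveI : (π.ker.map p).Normal := Subgroup.Normal.map inferInstance p hp
    have hA5 := Equiv.Perm.alternatingGroup_le_of_normal (α := Fin 5) (by simp)
      ((nontrivial_iff_ne_bot _).2 hne)
    have hle : π.ker.map p ≤ K.map p := map_mono fun x hx => mem_subgroupOf.2
      ((stab x).1 (by rw [MonoidHom.mem_ker] at hx; rw [hx]; rfl))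
    have hd := card_dvd_of_le (hA5.trans hle)
    have hR : p.ker ≤ K := fun x hx => mem_subgroupOf.2 (h.R_le_M ((pk x).1 hx))
    have hc : Nat.card ↥(K.map p) = 24 := by
      have i1 := index_map_eq K hp hR
      have i2 := (K.map p).index_mul_card
      rw [i1, hidx, Nat.card_eq_fintype_card (α := Equiv.Perm (Fin 5)), Fintype.card_perm,
        Fintype.card_fin, show Nat.factorial 5 = 120 from rfl] at i2
      omega
    have h60 : Nat.card ↥(alternatingGroup (Fin 5)) = 60 := by
      rw [nat_card_alternatingGroup, Nat.card_eq_fintype_card, Fintype.card_fin]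
      rfl
    rw [hc, h60] at hd
    norm_num at hd
  have hkp : π.ker = p.ker := le_antisymm ((Subgroup.map_eq_bot_iff _).1 hN) fun x hx => hRker x ((pk x).1 hx)
  refine ⟨π, ?_, fun x => ?_, stab⟩
  · rw [← MonoidHom.range_eq_top]
    apply eq_top_of_card_eq
    rw [← index_ker, hkp, index_ker, MonoidHom.range_eq_top.2 hp]
    simp
  · rw [← pk, ← MonoidHom.mem_ker, ← MonoidHom.mem_ker, hkp]

end CfsgLib.HSUniq
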