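import Cfsg.Agent.HSUniq.Lin
import Cfsg.Agent.HSUniq.Data

/-!
# Evaluation of words in the semidirect product and the choice of the complement
-/

set_option autoImplicit false
set_option maxRecDepth 100000
set_option synthInstance.maxSize 3000

namespace CfsgLib.HSUniq

open Mat

/-- The identity of the semidirect product. -/
def idP : Nat := 64 * Mat.one

/-- Evaluation at a numeral. -/
def withLit {β : Type} (n : Nat) (f : Nat → β) : β :=
  match n with
  | 0 => f 0
  | m + 1 => f (m + 1)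

theorem withLit_eq {β : Type} (n : Nat) (f : Nat → β) : withLit n f = f n := by cases n <;> rfl

/-- The value of a word in the semidirect product. -/
def evP (Lp : List Nat) : List Nat → Nat
  | [] => idP
  | l :: w => withLit (evP Lp w) fun r => sdmul (Lp.getD l idP) r

/-- The fourteen letters with vectors `va`, `vs`, `vw`. -/
def codesM (va vs vw : Nat) : List Nat :=
  [1 + idP, 3 + idP, 4 + idP, 12 + idP, 16 + idP, 48 + idP, va + 64 * A0, va + 64 * A0, 64 * D0,
    64 * mpow D0 2, vs + 64 * S0, vs + 64 * S0, vw + 64 * W0, evP [vw + 64 * W0] [0, 0, 0, 0, 0, 0]]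

/-- The pairs `(h, z₀, z₁, y)` followed through the conjugations by `d w`, `x⁴` and `w⁻¹`. -/
def chains : List (List Nat × List Nat × List Nat × List Nat) :=
  [([0, 0], [0, 0, 2, 2], [2, 2, 6], [0, 6, 9, 4, 6, 10]), ([2, 2], [0, 0], [6], [6, 9, 6, 10]),
   ([8, 6, 9], [9, 10], [10], [8, 6, 9]), ([0, 3, 4, 4], [2, 4, 4], [0, 0, 5, 6, 4], [0, 8, 3, 6, 8, 10]),
   ([0, 6, 9, 5, 6, 10], [0, 0, 8, 6, 9], [9, 0, 0, 8], [2, 2])]

/-- The inverse word. -/
def winv (w : List Nat) : List Nat := w.reverse.map iv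

/-- The relators needed from the normalizer of the four group. -/
def relsX : List (List Nat) :=
  chains.map (fun q => [8, 12] ++ q.1 ++ [13, 9] ++ winv q.2.1) ++
    chains.map (fun q => [13] ++ q.2.2.1 ++ [12] ++ winv q.2.2.2)

/-- The relators of the involutions and of the symmetric group of degree four. -/
def relsS4 : List (List Nat) :=
  [[6, 6], [6, 8, 6, 9, 6, 8, 6, 9], [6, 8, 6, 9, 8, 8, 6, 9, 9], [10, 10], [10, 8, 11, 8], [10, 6, 11, 7]]

/-- The candidates for the first vector. -/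
theorem va_cases : ∀ va < 64, evP (codesM va 0 0) [6, 6] = idP →
    evP (codesM va 0 0) [6, 8, 6, 9, 6, 8, 6, 9] = idP →
    evP (codesM va 0 0) [6, 8, 6, 9, 8, 8, 6, 9, 9] = idP → va ∈ [0, 17, 34, 51] := by
  decide +kernel

/-- The candidates for the second vector. -/
theorem vs_cases : ∀ vs < 64, evP (codesM 0 vs 0) [10, 10] = idP →
    evP (codesM 0 vs 0) [10, 8, 11, 8] = idP → vs ∈ [0, 8, 38, 46] := by
  decide +kernel

/-- Shifts of the second generator by central elements, and corrections of the element of order seven. -/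
theorem split_table : ∀ va ∈ [0, 17, 34, 51], ∀ vs ∈ [0, 8, 38, 46],
    evP (codesM va vs 0) [10, 6, 11, 7] = idP →
    ∃ k ∈ [0, C0, ng C0], ∃ vw ∈ [0, 27, 34, 57], ∀ r ∈ relsM ++ relsX,
      evP (codesM va (ad vs (apv S0 k)) vw) r = idP := by
  decide +kernel

theorem codes_indep : ∀ va vs : Nat, ∀ l : Nat,
    (l ≠ 10 → l ≠ 11 → (codesM va vs 0).getD l idP = (codesM va 0 0).getD l idP) ∧
    (l ≠ 6 → l ≠ 7 → (codesM va vs 0).getD l idP = (codesM 0 vs 0).getD l idP) := by
  intro va vs l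
  rcases l with _ | _ | _ | _ | _ | _ | _ | _ | _ | _ | _ | _ | _ | _ | l <;> simp [codesM]

theorem evP_congr {L L' : List Nat} : ∀ {w : List Nat}, (∀ l ∈ w, L.getD l idP = L'.getD l idP) →
    evP L w = evP L' w
  | [], _ => rfl
  | l :: w, h => by
    rw [evP, evP, withLit_eq, withLit_eq, h l (by simp), evP_congr fun m hm => h m (List.mem_cons_of_mem _ hm)]

theorem idP_parts : idP % 64 = 0 ∧ idP / 64 = Mat.one := by decide

theorem code_parts {v : Nat} (hv : v < 64) (X : Nat) : (v + 64 * X) % 64 = v ∧ (v + 64 * X) / 64 = X := by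
  omega

theorem sdmul_parts (p q : Nat) : sdmul p q % 64 = ad (p % 64) (apv (p / 64) (q % 64)) ∧
    sdmul p q / 64 = mmul (p / 64) (q / 64) := by
  unfold sdmul
  exact code_parts (ad_lt _ _) _

/-- The shifts that make the correction vanish. -/
theorem shift_one : ∀ a < 64, ∃ q < 64, ad q (ng (apv W0 q)) = a := by decide +kernel

theorem fixed_W2 : ∀ v < 64, ad v (ng (apv (mmul W0 W0) v)) = 0 → v = 0 := by decide +kernel

theorem neg_flip : ∀ v < 64, ∀ x < 64, ad (ng v) x = 0 → ad v (ng x) = 0 := by decide +kernel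

/-- The normal forms in the symmetric group of degree four. -/
def nfMat (i j k l : Nat) : Nat :=
  mmul (mmul (mmul (mpow A0 i) (mpow (mmul (mmul D0 A0) (mpow D0 2)) j)) (mpow D0 k)) (mpow S0 l)

theorem nf_facts : (∀ i < 2, ∀ j < 2, ∀ k < 3, ∀ l < 2, nfMat i j k l = Mat.one → i = 0 ∧ j = 0 ∧ k = 0 ∧ l = 0) ∧
    (∀ p ∈ ((List.range 512).filter inv2).filter (fun p => bapp p 2 == 2),
      ∃ i < 2, ∃ j < 2, ∃ k < 3, ∃ l < 2, redM (nfMat i j k l) = p) := by
  decide +kernel

end CfsgLib.HSUniq
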