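import Cfsg.Agent.HSUniq.Four
import Cfsg.Agent.HSUniq.SplitTable
import Cfsg.Agent.Solvable.GaschutzLocal
import Cfsg.Agent.Coset.Checker

/-!
# The complement in the normalizer of the four group and its exact relators
-/

set_option autoImplicit false
set_option linter.unusedSectionVars false
set_option maxRecDepth 4000

namespace CfsgLib.HSUniq

open Subgroup Mat CfsgLib.Coset

variable {G : Type*} [Group G] [Finite G] {t : G} {R V A : Subgroup G} {c : ℕ → G} {w d a s : G}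

/-- A complement to `A` in the normalizer. -/
structure Compl (V A L : Subgroup G) : Prop where
  le : L ≤ normalizer (V : Set G)
  triv : ∀ x ∈ L, x ∈ A → x = 1
  cover : ∀ g ∈ normalizer (V : Set G), ∃ q ∈ A, q⁻¹ * g ∈ L

/-- The element has the given code. -/
def Rep (c : ℕ → G) (L : Subgroup G) (g : G) (p : ℕ) : Prop :=
  ∃ x ∈ L, IsMat c x (p / 64) ∧ g = c (p % 64) * x

theorem Rep.mul (B : Basis t A c) {L : Subgroup G} {g k : G} {p q : ℕ} (hg : Rep c L g p)
    (hk : Rep c L k q) : Rep c L (g * k) (sdmul p q) := by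
  obtain ⟨x, hx, mx, rfl⟩ := hg
  obtain ⟨y, hy, my, rfl⟩ := hk
  obtain ⟨e1, e2⟩ := sdmul_parts p q
  refine ⟨x * y, mul_mem hx hy, e2 ▸ B.isMat_mul mx my, ?_⟩
  rw [e1, B.add _ (Nat.mod_lt _ (by norm_num)) _ (apv_lt _ _), ← mx.2 _ (Nat.mod_lt _ (by norm_num))]
  group

theorem Rep.one (B : Basis t A c) (L : Subgroup G) : Rep c L (1 : G) idP := by
  obtain ⟨e1, e2⟩ := idP_parts
  exact ⟨1, one_mem L, e2 ▸ B.isMat_one, by rw [e1, B.zero, one_mul]⟩

theorem Rep.eq_one (B : Basis t A c) {L : Subgroup G} (hL : Compl V A L) (h : Hyp t R V A) {g : G}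
    (hg : Rep c L g idP) : g = 1 := by
  obtain ⟨x, hx, mx, rfl⟩ := hg
  obtain ⟨e1, e2⟩ := idP_parts
  rw [e2] at mx
  rw [e1, B.zero, one_mul]
  exact hL.triv x hx ((mat_one_iff h B (hL.le hx)).1 (mat_of_isMat B mx))

theorem Rep.code (B : Basis t A c) {L : Subgroup G} (hL : Compl V A L) {p : ℕ}
    (hg : Rep c L (1 : G) p) : p = idP := by
  obtain ⟨x, hx, mx, e⟩ := hg
  have hp := Nat.mod_lt p (show 64 > 0 by norm_num)
  have hxA : x ∈ A := by
    rw [← inv_mul_cancel_left (c (p % 64)) x, ← e, mul_one]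
    exact inv_mem (B.mem _ hp)
  have x1 := hL.triv x hx hxA
  subst x1
  rw [mul_one, ← B.zero] at e
  have e0 := B.inj _ (by norm_num) _ hp e
  have e1 := B.mat_unique mx B.isMat_one
  unfold idP
  omega

theorem Rep.vec (B : Basis t A c) (L : Subgroup G) {v : ℕ} (hv : v < 64) : Rep c L (c v) (v + idP) := by
  obtain ⟨e1, e2⟩ := code_parts hv Mat.one
  exact ⟨1, one_mem L, by rw [idP, e2]; exact B.isMat_one, by rw [idP, e1, mul_one]⟩

theorem Rep.mem {L : Subgroup G} {g : G} {X v : ℕ} (hg : g ∈ L) (hX : IsMat c g X) (hv : v < 64) :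
    Rep c L (c v * g) (v + 64 * X) := by
  obtain ⟨e1, e2⟩ := code_parts hv X
  exact ⟨g, hg, by rw [e2]; exact hX, by rw [e1]⟩

theorem Rep.ev_rep (B : Basis t A c) (L : Subgroup G) {Ls : List G} {Lp : List ℕ}
    (hl : ∀ l, Rep c L (fl Ls l) (Lp.getD l idP)) : ∀ wd : List ℕ, Rep c L (ev Ls wd) (evP Lp wd)
  | [] => Rep.one B L
  | l :: wd => by
    rw [ev_cons, evP, withLit_eq]
    exact (hl l).mul B (Rep.ev_rep B L hl wd)

/-- The fourteen letters. -/
def lettersG (c : ℕ → G) (w d a s : G) : List G :=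
  [c 1, c 3, c 4, c 12, c 16, c 48, a, a, d, d ^ 2, s, s, w, w ^ 6]

theorem Pre.B_form (P : Pre t R V A c w d a s) :
    ∀ x ∈ closure ({a, d, s} : Set G), ∃ i < 2, ∃ j < 2, ∃ k < 3, ∃ l < 2,
      x = a ^ i * (d * a * d⁻¹) ^ j * d ^ k * s ^ l := by
  set b := d * a * d⁻¹ with hb
  have a2 := P.a_sq
  have b2 : b * b = 1 := by
    rw [hb, show d * a * d⁻¹ * (d * a * d⁻¹) = d * (a * a) * d⁻¹ by group, a2, mul_one, mul_inv_cancel]
  have ab : a * b = b * a := P.a_comm
  have hc : d * b * d⁻¹ = a * b := by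
    have e := eq_inv_of_mul_eq_one_right P.a_prod
    rw [← hb] at e
    rw [e, mul_inv_rev, inv_eq_of_mul_eq_one_right a2, inv_eq_of_mul_eq_one_right b2, ab]
  have d3 : d * d * d = 1 := by
    have := P.wd.d_pow
    rwa [pow_succ, sq] at this
  have dinv : d⁻¹ = d * d := inv_eq_of_mul_eq_one_right (by rw [← mul_assoc, d3])
  have da : d * a = b * d := by rw [hb]; group
  have db : d * b = a * b * d := by rw [← hc]; group
  have sinv : s⁻¹ = s := inv_eq_of_mul_eq_one_right P.s_sq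
  have sa : s * a = a * s := by
    calc s * a = s * a * (s * s) := by rw [P.s_sq, mul_one]
      _ = s * a * s * s := by group
      _ = a * s := by rw [P.sa]
  have sd : s * d = d * d * s := by
    rw [← dinv]
    calc s * d = s * d * (s * s) := by rw [P.s_sq, mul_one]
      _ = s * d * s * s := by group
      _ = d⁻¹ * s := by rw [P.sd]
  have sb : s * b = a * b * s := by
    have e1 : d⁻¹ * a * d = a * b := by
      rw [← hc, hb, dinv, show d * (d * a * (d * d)) * (d * d) = d * d * a * ((d * d * d) * d) by group,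
        d3, one_mul]
    calc s * b = (s * d) * a * d⁻¹ := by rw [hb]; group
      _ = (s * d) * a * (s * d * s) := by rw [P.sd]
      _ = d * d * s * a * (s * d * s) := by rw [← sd]
      _ = d * d * (s * a) * s * d * s := by group
      _ = d * d * a * (s * s) * d * s := by rw [sa]; group
      _ = a * b * s := by rw [P.s_sq, mul_one, ← dinv, e1]
  have keyA : ∀ i < 2, ∀ j < 2, ∀ k : ℕ, ∀ l : ℕ, ∃ i' < 2, ∃ j' < 2, ∀ y : G,
      a * (a ^ i * b ^ j * y) = a ^ i' * b ^ j' * y := by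
    intro i hi j hj k l
    refine ⟨1 - i, by omega, j, hj, fun y => ?_⟩
    interval_cases i <;> simp [← mul_assoc, a2]
  have keyD : ∀ i < 2, ∀ j < 2, ∃ i' < 2, ∃ j' < 2, d * (a ^ i * b ^ j) = a ^ i' * b ^ j' * d := by
    intro i hi j hj
    interval_cases i <;> interval_cases j
    · exact ⟨0, by norm_num, 0, by norm_num, by simp⟩
    · exact ⟨1, by norm_num, 1, by norm_num, by simp [db]⟩
    · exact ⟨0, by norm_num, 1, by norm_num, by simp [da]⟩
    · refine ⟨1, by norm_num, 0, by norm_num, ?_⟩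
      simp only [pow_one, pow_zero, mul_one]
      calc d * (a * b) = b * (d * b) := by rw [← mul_assoc, da, mul_assoc]
        _ = b * (a * b) * d := by rw [db]; group
        _ = a * (b * b) * d := by rw [← mul_assoc b a b, ← ab]; group
        _ = _ := by rw [b2, mul_one]
  have keyS : ∀ i < 2, ∀ j < 2, ∃ i' < 2, ∃ j' < 2, s * (a ^ i * b ^ j) = a ^ i' * b ^ j' * s := by
    intro i hi j hj
    interval_cases i <;> interval_cases j
    · exact ⟨0, by norm_num, 0, by norm_num, by simp⟩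
    · exact ⟨1, by norm_num, 1, by norm_num, by simp [sb]⟩
    · exact ⟨1, by norm_num, 0, by norm_num, by simp [sa]⟩
    · refine ⟨0, by norm_num, 1, by norm_num, ?_⟩
      simp only [pow_one, pow_zero, one_mul]
      calc s * (a * b) = a * (s * b) := by rw [← mul_assoc, sa, mul_assoc]
        _ = a * a * b * s := by rw [sb]; group
        _ = _ := by rw [a2, one_mul]
  have keyDk : ∀ k < 3, ∃ k' < 3, d * d ^ k = d ^ k' := by
    intro k hk
    refine ⟨(k + 1) % 3, by omega, ?_⟩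
    interval_cases k
    · simp
    · simp [sq]
    · simp [sq, ← mul_assoc, d3]
  have keySk : ∀ k < 3, ∃ k' < 3, s * d ^ k = d ^ k' * s := by
    intro k hk
    refine ⟨2 * k % 3, by omega, ?_⟩
    interval_cases k
    · simp
    · simp [sq, sd]
    · simp only [sq]
      calc s * (d * d) = (s * d) * d := (mul_assoc _ _ _).symm
        _ = (d * d * s) * d := by rw [sd]
        _ = d * d * (s * d) := mul_assoc _ _ _
        _ = (d * d * d) * d * s := by rw [sd]; group
        _ = _ := by rw [d3, one_mul]; simp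
  have hA : ∀ y : G, (∃ i < 2, ∃ j < 2, ∃ k < 3, ∃ l < 2, y = a ^ i * b ^ j * d ^ k * s ^ l) →
      ∃ i < 2, ∃ j < 2, ∃ k < 3, ∃ l < 2, a * y = a ^ i * b ^ j * d ^ k * s ^ l := by
    rintro y ⟨i, hi, j, hj, k, hk, l, hl, rfl⟩
    obtain ⟨i', hi', j', hj', e⟩ := keyA i hi j hj k l
    exact ⟨i', hi', j', hj', k, hk, l, hl, by rw [mul_assoc (a ^ i * b ^ j), e, ← mul_assoc]⟩
  have hD : ∀ y : G, (∃ i < 2, ∃ j < 2, ∃ k < 3, ∃ l < 2, y = a ^ i * b ^ j * d ^ k * s ^ l) →
      ∃ i < 2, ∃ j < 2, ∃ k < 3, ∃ l < 2, d * y = a ^ i * b ^ j * d ^ k * s ^ l := by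
    rintro y ⟨i, hi, j, hj, k, hk, l, hl, rfl⟩
    obtain ⟨i', hi', j', hj', e⟩ := keyD i hi j hj
    obtain ⟨k', hk', e'⟩ := keyDk k hk
    exact ⟨i', hi', j', hj', k', hk', l, hl, by rw [← mul_assoc, ← mul_assoc, e, mul_assoc _ d, e']⟩
  have hS : ∀ y : G, (∃ i < 2, ∃ j < 2, ∃ k < 3, ∃ l < 2, y = a ^ i * b ^ j * d ^ k * s ^ l) →
      ∃ i < 2, ∃ j < 2, ∃ k < 3, ∃ l < 2, s * y = a ^ i * b ^ j * d ^ k * s ^ l := by
    rintro y ⟨i, hi, j, hj, k, hk, l, hl, rfl⟩
    obtain ⟨i', hi', j', hj', e⟩ := keyS i hi j hj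
    obtain ⟨k', hk', e'⟩ := keySk k hk
    refine ⟨i', hi', j', hj', k', hk', (l + 1) % 2, by omega, ?_⟩
    rw [← mul_assoc, ← mul_assoc, e, mul_assoc _ s, e', ← mul_assoc, mul_assoc _ s]
    interval_cases l <;> simp [P.s_sq]
  intro x hx
  refine closure_induction_left (p := fun x _ => ∃ i < 2, ∃ j < 2, ∃ k < 3, ∃ l < 2,
    x = a ^ i * b ^ j * d ^ k * s ^ l) ⟨0, by norm_num, 0, by norm_num, 0, by norm_num, 0, by norm_num,
      by simp⟩ ?_ ?_ hx
  · intro g hg y _ hy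
    simp only [Set.mem_insert_iff, Set.mem_singleton_iff] at hg
    rcases hg with e | e | e <;> rw [e]
    · exact hA y hy
    · exact hD y hy
    · exact hS y hy
  · intro g hg y _ hy
    simp only [Set.mem_insert_iff, Set.mem_singleton_iff] at hg
    rcases hg with e | e | e <;> rw [e]
    · rw [inv_eq_of_mul_eq_one_right a2]; exact hA y hy
    · rw [dinv, mul_assoc]; exact hD _ (hD y hy)
    · rw [sinv]; exact hS y hy

theorem mat_form (h : Hyp t R V A) (P : Pre t R V A c w d a s) (i j k l : ℕ) :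
    mat c (a ^ i * (d * a * d⁻¹) ^ j * d ^ k * s ^ l) = nfMat i j k l := by
  have B := P.wd.basis
  have dinv : d⁻¹ = d ^ 2 := inv_eq_of_mul_eq_one_right (by rw [← pow_succ']; exact P.wd.d_pow)
  have mb : IsMat c (d * a * d⁻¹) (mmul (mmul D0 A0) (mpow D0 2)) := by
    rw [dinv]
    exact B.isMat_mul (B.isMat_mul P.wd.mat_d P.mat_a) (B.isMat_pow P.wd.mat_d 2)
  exact mat_of_isMat B (B.isMat_mul (B.isMat_mul (B.isMat_mul (B.isMat_pow P.mat_a i) (B.isMat_pow mb j))
    (B.isMat_pow P.wd.mat_d k)) (B.isMat_pow P.mat_s l))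

/-- The symmetric group of degree four meets `A` trivially and covers the stabilizer of `t` with it. -/
theorem Pre.four_facts (h : Hyp t R V A) (P : Pre t R V A c w d a s) :
    closure ({a, d, s} : Set G) ≤ normalizer (V : Set G) ⊓ centralizer ({t} : Set G) ∧
      (∀ x ∈ closure ({a, d, s} : Set G), x ∈ A → x = 1) ∧
      closure ({a, d, s} : Set G) ⊔ A = normalizer (V : Set G) ⊓ centralizer ({t} : Set G) := by
  have B := P.wd.basis
  obtain ⟨-, fD, -, -, -, -, -, fS8, fD8⟩ := facts_A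
  obtain ⟨fnf, fcover⟩ := nf_facts
  have hle : closure ({a, d, s} : Set G) ≤ normalizer (V : Set G) ⊓ centralizer ({t} : Set G) := by
    rw [closure_le]
    rintro x (rfl | rfl | rfl)
    · exact ⟨h.R_le_M P.a_mem, h.R_le P.a_mem⟩
    · exact ⟨P.wd.d_mem, (mem_H_iff h B P.wd.d_mem).2 (by rw [mat_of_isMat B P.wd.mat_d, fD8])⟩
    · exact ⟨P.s_mem, (mem_H_iff h B P.s_mem).2 (by rw [mat_of_isMat B P.mat_s, fS8])⟩
  refine ⟨hle, fun x hx hxA => ?_, le_antisymm (sup_le hle fun x hx => ⟨h.A_le hx, h.A_le_H B hx⟩) ?_⟩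
  · obtain ⟨i, hi, j, hj, k, hk, l, hl, rfl⟩ := P.B_form x hx
    have e := mat_mem B hxA
    rw [mat_form h P] at e
    obtain ⟨rfl, rfl, rfl, rfl⟩ := fnf i hi j hj k hk l hl e
    simp
  · intro g hg
    obtain ⟨i, -, j, -, k, -, l, -, e⟩ := fcover (redM (mat c g)) (by
      simp only [List.mem_filter, List.mem_range]
      exact ⟨⟨redM_lt _, inv2_redM h B hg.1⟩, by simp [(mem_H_iff h B hg.1).1 hg.2]⟩)
    have hmem : a ^ i * (d * a * d⁻¹) ^ j * d ^ k * s ^ l ∈ closure ({a, d, s} : Set G) := by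
      have ha : a ∈ closure ({a, d, s} : Set G) := subset_closure (by simp)
      have hd : d ∈ closure ({a, d, s} : Set G) := subset_closure (by simp)
      have hs : s ∈ closure ({a, d, s} : Set G) := subset_closure (by simp)
      exact mul_mem (mul_mem (mul_mem (pow_mem ha i) (pow_mem (mul_mem (mul_mem hd ha) (inv_mem hd)) j))
        (pow_mem hd k)) (pow_mem hs l)
    rw [← mat_form h P] at e
    have hA := (redM_eq_iff h B (hle hmem).1 hg.1).1 e
    have := mul_mem (mem_sup_left hmem) (mem_sup_right (S := closure ({a, d, s} : Set G)) hA)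
    rwa [mul_inv_cancel_left] at this

/-- Gaschütz: `A` has a complement in its normalizer containing `w` and `d`. -/
theorem exists_compl (h : Hyp t R V A) (P : Pre t R V A c w d a s) :
    ∃ L, Compl V A L ∧ w ∈ L ∧ d ∈ L := by
  have B := P.wd.basis
  obtain ⟨hle, htriv, hsup⟩ := P.four_facts h
  set M := normalizer (V : Set G) with hM
  set A' := A.subgroupOf M with hA'
  haveI hn : A'.Normal := ⟨fun x hx g => h.A_conj g g.2 x hx⟩
  haveI hc : IsMulCommutative A' :=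
    ⟨⟨fun x y => Subtype.ext (Subtype.ext (B.comm _ x.2 _ y.2))⟩⟩
  set K := (closure ({a, d, s} : Set G)).subgroupOf M
  have hdis : K ⊓ A' = ⊥ := by
    rw [eq_bot_iff]
    rintro x ⟨hx, hxA⟩
    exact Subtype.ext (htriv x hx hxA)
  have h7 : GaschutzLocal.HasPowerDerivation A' ((K ⊔ A').index : ℤ) :=
    GaschutzLocal.hasPowerDerivation_index A' _ K le_sup_right hdis rfl
  have hidx : (K ⊔ A').index = 7 := by
    have hmap : (K ⊔ A').map M.subtype = M ⊓ centralizer ({t} : Set G) := by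
      rw [Subgroup.map_sup, subgroupOf_map_subtype, subgroupOf_map_subtype,
        inf_eq_left.2 (hle.trans inf_le_left), inf_eq_left.2 h.A_le, hsup]
    have hcard : Nat.card ↥(K ⊔ A') = 1536 := by
      rw [← card_map_of_injective (K := K ⊔ A') M.subtype_injective, hmap]
      exact card_MH h B
    have e := (K ⊔ A').index_mul_card
    rw [hcard, h.card_M] at e
    omega
  rw [hidx] at h7
  have h4 : GaschutzLocal.HasPowerDerivation A' 4 := by
    refine ⟨fun _ => 1, fun g k => by simp, fun x => ?_⟩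
    refine Subtype.ext (Subtype.ext ?_)
    simp only [show ((4 : ℤ)) = ((4 : ℕ) : ℤ) from rfl, zpow_natCast, coe_one, coe_pow]
    rw [show (4 : ℕ) = 2 * 2 from rfl, pow_mul, sq, sq]
    exact (h.V_sq _ (h.A_two _ x.2)).symm
  have h1 : (1 : ℤ) ∈ GaschutzLocal.exponents A' := by
    rw [show (1 : ℤ) = (4 + 4) - 7 by norm_num]
    exact sub_mem (add_mem h4 h4) h7
  obtain ⟨K1, hK1⟩ := GaschutzLocal.complement_of_hasPowerDerivation A' h1
  set L0 := K1.map M.subtype with hL0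
  have hL : Compl V A L0 := by
    refine ⟨map_subtype_le _, ?_, fun g hg => ?_⟩
    · rintro _ ⟨x, hx, rfl⟩ hxA
      have : x ∈ K1 ⊓ A' := ⟨hx, hxA⟩
      rw [hK1.disjoint.eq_bot, mem_bot] at this
      simp [this]
    · obtain ⟨⟨⟨k, hk⟩, ⟨y, hy⟩⟩, e⟩ := hK1.existsUnique (⟨g, hg⟩ : ↥M)|>.exists
      have eg : (k : G) * (y : G) = g := congrArg Subtype.val e
      refine ⟨(k : G) * y * (k : G)⁻¹, h.A_conj _ k.2 _ hy, ?_⟩
      rw [← eg, show ((k : G) * y * (k : G)⁻¹)⁻¹ * ((k : G) * y) = k by group]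
      exact ⟨k, hk, rfl⟩
  -- conjugate so that `w` lies in the complement
  obtain ⟨q0, hq0, hwq⟩ := hL.cover w P.wd.w_mem
  obtain ⟨vw, hvw, rfl⟩ := B.surj q0 hq0
  obtain ⟨q, hq, eq⟩ := shift_one vw hvw
  set x := (c vw)⁻¹ * w with hx
  have hxM : x ∈ M := hL.le hwq
  have mx : IsMat c x W0 := by
    have := isMat_mat h B hxM
    rwa [hx, mat_mul h B (inv_mem (h.A_le (B.mem vw hvw))) P.wd.w_mem,
      mat_mem B (inv_mem (B.mem vw hvw)), mat_of_isMat B P.wd.mat_w, one_mmul (P.wd.mat_w.1)] at this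
  set L := L0.map (MulAut.conj (c q)).toMonoidHom with hLdef
  have hqM : c q ∈ M := h.A_le (B.mem q hq)
  have hLC : Compl V A L := by
    refine ⟨?_, ?_, fun g hg => ?_⟩
    · rintro _ ⟨y, hy, rfl⟩
      exact mul_mem (mul_mem hqM (hL.le hy)) (inv_mem hqM)
    · rintro _ ⟨y, hy, rfl⟩ hyA
      have := h.A_conj _ (inv_mem hqM) _ hyA
      rw [show (c q)⁻¹ * (MulAut.conj (c q)).toMonoidHom y * (c q)⁻¹⁻¹ = y by
        show (c q)⁻¹ * (c q * y * (c q)⁻¹) * (c q)⁻¹⁻¹ = y
        group] at this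
      simp [hL.triv y hy this]
    · obtain ⟨r, hr, hrg⟩ := hL.cover ((c q)⁻¹ * g * c q) (mul_mem (mul_mem (inv_mem hqM) hg) hqM)
      refine ⟨r, hr, ⟨_, hrg, ?_⟩⟩
      show c q * (r⁻¹ * ((c q)⁻¹ * g * c q)) * (c q)⁻¹ = r⁻¹ * g
      calc _ = c q * r⁻¹ * (c q)⁻¹ * g := by group
        _ = _ := by rw [B.comm _ (B.mem q hq) _ (inv_mem hr), mul_inv_cancel_right]
  have hwL : w ∈ L := by
    refine ⟨x, hwq, ?_⟩
    show c q * x * (c q)⁻¹ = w
    calc c q * x * (c q)⁻¹ = c q * (x * c q * x⁻¹)⁻¹ * x := by group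
      _ = c vw * x := by
        rw [mx.2 q hq, ← B.neg (apv_lt _ _),
          ← B.add q hq _ (ad_table _ (apv_lt W0 q) 0 (by norm_num)).2.2.2.2, eq]
      _ = w := by rw [hx, mul_inv_cancel_left]
  refine ⟨L, hLC, hwL, ?_⟩
  -- then also `d`
  obtain ⟨r, hr, hdr⟩ := hLC.cover d P.wd.d_mem
  obtain ⟨vd, hvd, rfl⟩ := B.surj r hr
  set y := (c vd)⁻¹ * d with hy
  have hz : y * w * y⁻¹ ∈ L := mul_mem (mul_mem hdr hwL) (inv_mem hdr)
  have hw2 : w ^ 2 ∈ L := pow_mem hwL 2
  have e : y * w * y⁻¹ = (c vd)⁻¹ * (w ^ 2 * c vd * (w ^ 2)⁻¹) * w ^ 2 := by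
    rw [← P.wd.dw, hy]; group
  have m2 : IsMat c (w ^ 2) (mmul W0 W0) := by rw [sq]; exact B.isMat_mul P.wd.mat_w P.wd.mat_w
  rw [m2.2 vd hvd, ← B.neg hvd, ← B.add _ (ad_table vd hvd 0 (by norm_num)).2.2.2.2 _ (apv_lt _ _)] at e
  have hin : c (ad (ng vd) (apv (mmul W0 W0) vd)) ∈ L := by
    have := mul_mem hz (inv_mem hw2)
    rwa [e, mul_inv_cancel_right] at this
  have h0 := hLC.triv _ hin (B.mem _ (ad_lt _ _))
  have hv0 : vd = 0 := by
    refine fixed_W2 vd hvd ?_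
    have h0' := B.inj _ (ad_lt _ _) 0 (by norm_num) (h0.trans B.zero.symm)
    exact neg_flip vd hvd _ (apv_lt _ _) h0'
  rw [hy, hv0, B.zero, inv_one, one_mul] at hdr
  exact hdr

/-- The exact generators of the normalizer of the four group. -/
structure Gens (t : G) (R V A : Subgroup G) (c : ℕ → G) (w d a s : G) : Prop where
  basis : Basis t A c
  w_mem : w ∈ normalizer (V : Set G)
  d_mem : d ∈ normalizer (V : Set G)
  s_mem : s ∈ normalizer (V : Set G)
  a_mem : a ∈ R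
  mat_a : IsMat c a A0
  mat_d : IsMat c d D0
  mat_s : IsMat c s S0
  mat_w : IsMat c w W0
  moved : ∃ k ∈ centralizer ({t} : Set G), k ∉ normalizer (V : Set G) ∧
    k⁻¹ * d * k ∈ normalizer (V : Set G) ∧ k⁻¹ * a * k ∈ V
  rels : ∀ r ∈ relsM ++ relsX, ev (lettersG c w d a s) r = 1

theorem rep_letters (B : Basis t A c) {L : Subgroup G} {a' s' : G} {va vs vw : ℕ}
    (hva : va < 64) (hvs : vs < 64) (hvw : vw < 64) (ha : a' ∈ L) (hd : d ∈ L) (hs : s' ∈ L) (hw : w ∈ L)
    (ma : IsMat c a' A0) (md : IsMat c d D0) (ms : IsMat c s' S0) (mw : IsMat c w W0) :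
    ∀ l, Rep c L (fl (lettersG c (c vw * w) d (c va * a') (c vs * s')) l)
      ((codesM va vs vw).getD l idP) := by
  have one' := Rep.one B L
  have rv := fun v (hv : v < 64) => Rep.vec B L hv
  have rw' := Rep.mem hw mw hvw
  have rd : Rep c L d (0 + 64 * D0) := by
    have := Rep.mem (v := 0) hd md (by norm_num)
    rwa [B.zero, one_mul] at this
  have rd2 : Rep c L (d ^ 2) (0 + 64 * mpow D0 2) := by
    have := Rep.mem (v := 0) (pow_mem hd 2) (B.isMat_pow md 2) (by norm_num)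
    rwa [B.zero, one_mul] at this
  rw [Nat.zero_add] at rd rd2
  have rw6 : Rep c L ((c vw * w) ^ 6) (evP [vw + 64 * W0] [0, 0, 0, 0, 0, 0]) := by
    have hl : ∀ l, Rep c L (fl [c vw * w] l) ([vw + 64 * W0].getD l idP) := by
      intro l
      rcases l with _ | l
      · exact rw'
      · exact one'
    have := Rep.ev_rep B L hl [0, 0, 0, 0, 0, 0]
    simpa [ev, fl, pow_succ, mul_assoc] using this
  intro l
  rcases l with _ | _ | _ | _ | _ | _ | _ | _ | _ | _ | _ | _ | _ | _ | l <;>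
    simp only [codesM, lettersG, fl, List.getD_cons_succ, List.getD_cons_zero, List.getD_nil]
  · exact rv 1 (by norm_num)
  · exact rv 3 (by norm_num)
  · exact rv 4 (by norm_num)
  · exact rv 12 (by norm_num)
  · exact rv 16 (by norm_num)
  · exact rv 48 (by norm_num)
  · exact Rep.mem ha ma hva
  · exact Rep.mem ha ma hva
  · exact rd
  · exact rd2
  · exact Rep.mem hs ms hvs
  · exact Rep.mem hs ms hvs
  · exact rw'
  · exact rw6
  · exact one'

theorem exists_gens (h : Hyp t R V A) : ∃ c w d a s, Gens t R V A c w d a s := by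
  obtain ⟨c, w, d, a, s, P⟩ := exists_pre h
  have B := P.wd.basis
  obtain ⟨L, hL, hw, hd⟩ := exists_compl h P
  obtain ⟨qa, hqa, haL⟩ := hL.cover a (h.R_le_M P.a_mem)
  obtain ⟨va, hva, rfl⟩ := B.surj qa hqa
  obtain ⟨qs, hqs, hsL⟩ := hL.cover s P.s_mem
  obtain ⟨vs, hvs, rfl⟩ := B.surj qs hqs
  set a' := (c va)⁻¹ * a with ha'
  set s' := (c vs)⁻¹ * s with hs'
  have ea : c va * a' = a := mul_inv_cancel_left _ _
  have es : c vs * s' = s := mul_inv_cancel_left _ _
  have ma : IsMat c a' A0 := by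
    have := B.isMat_mul (B.isMat_mem (inv_mem (B.mem va hva))) P.mat_a
    rwa [one_mmul P.mat_a.1] at this
  have ms : IsMat c s' S0 := by
    have := B.isMat_mul (B.isMat_mem (inv_mem (B.mem vs hvs))) P.mat_s
    rwa [one_mmul P.mat_s.1] at this
  have dinv : d⁻¹ = d ^ 2 := inv_eq_of_mul_eq_one_right (by rw [← pow_succ']; exact P.wd.d_pow)
  have reps := rep_letters B hva hvs (show (0 : ℕ) < 64 by norm_num) haL hd hsL hw ma P.wd.mat_d ms P.wd.mat_w
  rw [B.zero, one_mul, ea, es] at reps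
  have hmodel : ∀ r, ev (lettersG c w d a s) r = 1 → evP (codesM va vs 0) r = idP := by
    intro r e
    have := Rep.ev_rep B L reps r
    rw [e] at this
    exact this.code B hL
  have flv : fl (lettersG c w d a s) 6 = a ∧ fl (lettersG c w d a s) 7 = a ∧
      fl (lettersG c w d a s) 8 = d ∧ fl (lettersG c w d a s) 9 = d⁻¹ ∧
      fl (lettersG c w d a s) 10 = s ∧ fl (lettersG c w d a s) 11 = s := by
    rw [dinv]; exact ⟨rfl, rfl, rfl, rfl, rfl, rfl⟩
  obtain ⟨f6, f7, f8, f9, f10, f11⟩ := flv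
  have r1 : ev (lettersG c w d a s) [6, 6] = 1 := by simp [ev, f6, P.a_sq]
  have hb2 : d * a * d⁻¹ * (d * a * d⁻¹) = 1 := by
    rw [show d * a * d⁻¹ * (d * a * d⁻¹) = d * (a * a) * d⁻¹ by group, P.a_sq, mul_one, mul_inv_cancel]
  have r2 : ev (lettersG c w d a s) [6, 8, 6, 9, 6, 8, 6, 9] = 1 := by
    simp only [ev_cons, ev_nil, f6, f8, f9, mul_one]
    calc a * (d * (a * (d⁻¹ * (a * (d * (a * d⁻¹)))))) = a * (d * a * d⁻¹) * a * (d * a * d⁻¹) := by group
      _ = (d * a * d⁻¹) * (a * a) * (d * a * d⁻¹) := by rw [P.a_comm]; group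
      _ = 1 := by rw [P.a_sq, mul_one, hb2]
  have r3 : ev (lettersG c w d a s) [6, 8, 6, 9, 8, 8, 6, 9, 9] = 1 := by
    simp only [ev_cons, ev_nil, f6, f8, f9, mul_one]
    rw [← P.a_prod]; group
  have r4 : ev (lettersG c w d a s) [10, 10] = 1 := by simp [ev, f10, P.s_sq]
  have r5 : ev (lettersG c w d a s) [10, 8, 11, 8] = 1 := by
    simp only [ev_cons, ev_nil, f10, f8, f11, mul_one, ← mul_assoc, P.sd, inv_mul_cancel]
  have r6 : ev (lettersG c w d a s) [10, 6, 11, 7] = 1 := by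
    simp only [ev_cons, ev_nil, f10, f6, f11, f7, mul_one, ← mul_assoc, P.sa, P.a_sq]
  have cong6 : ∀ r : List ℕ, 10 ∉ r → 11 ∉ r → evP (codesM va vs 0) r = evP (codesM va 0 0) r :=
    fun r h10 h11 => evP_congr fun l hl =>
      (codes_indep va vs l).1 (fun e => h10 (e ▸ hl)) (fun e => h11 (e ▸ hl))
  have cong10 : ∀ r : List ℕ, 6 ∉ r → 7 ∉ r → evP (codesM va vs 0) r = evP (codesM 0 vs 0) r :=
    fun r h6 h7 => evP_congr fun l hl =>
      (codes_indep va vs l).2 (fun e => h6 (e ▸ hl)) (fun e => h7 (e ▸ hl))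
  have cva := va_cases va hva ((cong6 _ (by decide) (by decide)).symm.trans (hmodel _ r1))
    ((cong6 _ (by decide) (by decide)).symm.trans (hmodel _ r2))
    ((cong6 _ (by decide) (by decide)).symm.trans (hmodel _ r3))
  have cvs := vs_cases vs hvs ((cong10 _ (by decide) (by decide)).symm.trans (hmodel _ r4))
    ((cong10 _ (by decide) (by decide)).symm.trans (hmodel _ r5))
  obtain ⟨k, hk, vw, hvw, hrels⟩ := split_table va cva vs cvs (hmodel _ r6)
  have hk64 : k < 64 := (show ∀ k ∈ [0, C0, ng C0], k < 64 by decide) k hk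
  have hvw64 : vw < 64 := (show ∀ v ∈ [0, 27, 34, 57], v < 64 by decide) vw hvw
  set vs' := ad vs (apv S0 k)
  have e' : c vs' * s' = s * c k := by
    rw [B.add vs hvs _ (apv_lt _ _), ← ms.2 k hk64, ← es]; group
  have reps' := rep_letters B hva (ad_lt vs (apv S0 k)) hvw64 haL hd hsL hw ma P.wd.mat_d ms P.wd.mat_w
  rw [ea, e'] at reps'
  refine ⟨c, c vw * w, d, a, s * c k, B, mul_mem (h.A_le (B.mem _ hvw64)) P.wd.w_mem, P.wd.d_mem,
    mul_mem P.s_mem (h.A_le (B.mem _ hk64)), P.a_mem, P.mat_a, P.wd.mat_d, ?_, ?_, P.moved, fun r hr => ?_⟩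
  · have := B.isMat_mul P.mat_s (B.isMat_mem (B.mem k hk64))
    rwa [mmul_one P.mat_s.1] at this
  · have := B.isMat_mul (B.isMat_mem (B.mem vw hvw64)) P.wd.mat_w
    rwa [one_mmul P.wd.mat_w.1] at this
  · have := Rep.ev_rep B L reps' r
    rw [hrels r hr] at this
    exact this.eq_one B hL h

end CfsgLib.HSUniq
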