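import Cfsg.Agent.HSUniq.HRel
import Cfsg.Agent.HSUniq.CertGood
import Cfsg.Agent.HSUniq.CertBad

/-!
# The relation joining the two local subgroups
-/

set_option autoImplicit false
set_option linter.unusedSectionVars false
set_option maxRecDepth 100000

namespace CfsgLib.HSUniq

open Subgroup Mat CfsgLib.Coset CfsgLib.J2U

section
variable {G : Type*} [Group G] [Finite G] {t : G} {R V A : Subgroup G} {c : ℕ → G} {w d a s x : G}

/-- The letters generate the whole centralizer of `t`. -/
theorem genBy_eq (h : Hyp t R V A) (G' : Gens t R V A c w d a s)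
    {π : ↥(centralizer ({t} : Set G)) →* Equiv.Perm (Fin 5)} (hA : Act t R V c d a s π)
    (hx : x ∈ centralizer ({t} : Set G)) (px : π ⟨x, hx⟩ = tauP) :
    genBy (letters16 c w d a s x) lettersH = centralizer ({t} : Set G) := by
  have B := G'.basis
  obtain ⟨hB, -, hsup⟩ := G'.pre.four_facts h
  have hd : d ∈ centralizer ({t} : Set G) := (hB (subset_closure (by simp))).2
  have hs : s ∈ centralizer ({t} : Set G) := (hB (subset_closure (by simp))).2
  have hcv := fun v (hv : v < 64) => h.A_le_H B (B.mem v hv)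
  refine le_antisymm ((closure_le _).2 ?_) fun k hk => ?_
  · intro y hy
    obtain ⟨l, hl, rfl⟩ := List.mem_map.1 hy
    simp only [lettersH, List.mem_cons, List.not_mem_nil, or_false] at hl
    rcases hl with rfl | rfl | rfl | rfl | rfl | rfl | rfl | rfl | rfl | rfl | rfl | rfl | rfl | rfl
    exacts [hcv 1 (by norm_num), hcv 3 (by norm_num), hcv 4 (by norm_num), hcv 12 (by norm_num),
      hcv 16 (by norm_num), hcv 48 (by norm_num), h.R_le G'.a_mem, h.R_le G'.a_mem, hd, pow_mem hd 2, hs, hs,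
      hx, pow_mem hx 4]
  set K := genBy (letters16 c w d a s x) lettersH with hK
  have hmem : ∀ l, l ∈ lettersH → fl (letters16 c w d a s x) l ∈ K := fun l hl =>
    subset_closure (List.mem_map.2 ⟨l, hl, rfl⟩)
  have hxK : x ∈ K := hmem 14 (by decide)
  have hBK : closure ({a, d, s} : Set G) ⊔ A ≤ K := by
    refine sup_le ((closure_le _).2 ?_) fun y hy => ?_
    · rintro y (rfl | rfl | rfl)
      exacts [hmem 6 (by decide), hmem 8 (by decide), hmem 10 (by decide)]
    · obtain ⟨v, hv, rfl⟩ := B.surj y hy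
      rw [B.shape v hv]
      exact mul_mem (mul_mem (pow_mem (hmem 0 (by decide)) _) (pow_mem (hmem 2 (by decide)) _))
        (pow_mem (hmem 4 (by decide)) _)
  obtain ⟨-, -, -, -, hreach, -⟩ := tau_eqs
  obtain ⟨i, -, hi⟩ := hreach (π ⟨k, hk⟩ 0)
  have hM : (x ^ i)⁻¹ * k ∈ normalizer (V : Set G) := (hA.proj.stab ((⟨x, hx⟩ ^ i)⁻¹ * ⟨k, hk⟩)).1 (by
    rw [map_mul, map_inv, map_pow, px, Equiv.Perm.mul_apply, Equiv.Perm.inv_eq_iff_eq, hi])
  have h2 : (x ^ i)⁻¹ * k ∈ closure ({a, d, s} : Set G) ⊔ A := by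
    rw [hsup]
    exact mem_inf.2 ⟨hM, mul_mem (inv_mem (pow_mem hx i)) hk⟩
  have := mul_mem (pow_mem hxK i) (hBK h2)
  rwa [mul_inv_cancel_left] at this

end

/-- A word of the sixteen letters in the fourteen of the centralizer. -/
def toC (w : List ℕ) : List ℕ := w.map fun l => if 14 ≤ l then l - 2 else l

/-- A node passes the conditions on the element to be identified. -/
noncomputable def passNode (i : ℕ) : Bool :=
  cond (sameT TH.Tb 14 (pthC i ++ [6, 9, 6, 10]) ([6, 9, 6, 10] ++ pthC i))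
    (cond (sameT TH.Tb 14 (pthC i ++ pthC i ++ pthC i) [])
      (cond (sameT TH.Tb 14 ([0, 8, 3, 6, 8, 10] ++ pthC i ++ [0, 8, 3, 6, 8, 10] ++ pthC i) [])
        (sameT TH.Tb 14 (pthC i ++ [0, 6, 9, 4, 6, 10]) ([6, 9, 6, 10] ++ [8, 6, 9] ++ pthC i)) false) false)
    false

/-- The node of the first candidate. -/
noncomputable def nodeG : ℕ := nodeC [12, 5, 6, 12]

/-- The node of the second candidate. -/
noncomputable def nodeB : ℕ := nodeC [2, 8, 13]

theorem pass_table : allBelow 13 7680 (fun i => cond (passNode i)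
    (cond (Nat.beq i nodeG) true (cond (Nat.beq i nodeB) true (Nat.beq i 0))) true) = true := by
  decide +kernel

theorem chain_table : (chains.all fun q => sameT TH.Tb 14 ([12, 12, 12, 12] ++ q.2.1 ++ [13, 13, 13, 13]) q.2.2.1) =
    true := by
  decide +kernel

theorem source_table :
    sameT TH.Tb 14 ([2, 8, 13] ++ [2, 2]) ([2, 2] ++ [2, 8, 13]) = true ∧
    sameT TH.Tb 14 ([2, 8, 13] ++ [0, 6, 9, 5, 6, 10]) ([0, 6, 9, 5, 6, 10] ++ [2, 8, 13]) = true ∧
    sameT TH.Tb 14 ([2, 8, 13] ++ [2, 8, 13] ++ [2, 8, 13]) [] = true ∧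
    sameT TH.Tb 14 ([0, 3, 4, 4] ++ [2, 8, 13] ++ [0, 3, 4, 4] ++ [2, 8, 13]) [] = true ∧
    sameT TH.Tb 14 ([2, 8, 13] ++ [0, 0]) ([2, 2] ++ [8, 6, 9] ++ [2, 8, 13]) = true ∧
    nodeC [2, 8, 13] ≠ 0 := by
  decide +kernel

theorem toC_facts : toC [2, 8, 15] = [2, 8, 13] ∧ toC [14, 5, 6, 14] = [12, 5, 6, 12] ∧
    toC [14, 14, 14, 14] = [12, 12, 12, 12] ∧ toC [15, 15, 15, 15] = [13, 13, 13, 13] ∧
    (∀ q ∈ chains, (∀ l ∈ q.1, l < 12) ∧ (∀ l ∈ q.2.1, l < 12) ∧ (∀ l ∈ q.2.2.1, l < 12) ∧ (∀ l ∈ q.2.2.2, l < 12)) ∧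
    relGood = [13, 14, 14, 14, 14, 8, 12] ++ [2, 8, 15] ++ winv [13, 14, 14, 14, 14, 8, 12] ++ winv [14, 5, 6, 14] ∧
    relBad = [13, 14, 14, 14, 14, 8, 12] ++ [2, 8, 15] ++ winv [13, 14, 14, 14, 14, 8, 12] ++ winv [2, 8, 15] := by
  decide +kernel

variable {G : Type*} [Group G] [Finite G]

theorem ev_toC {L : List G} (hlen : L.length = 16) : ∀ r : List ℕ, (∀ l ∈ r, l ∈ lettersH) →
    ev L r = ev (lv L lettersH) (toC r) := by
  intro r hr
  rw [ev_lv, hlen, toC, List.map_map]
  congr 1
  refine (List.map_id r).symm.trans (List.map_congr_left fun l hl => ?_)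
  exact ((show ∀ l ∈ lettersH, lettersH.getD (if 14 ≤ l then l - 2 else l) 16 = l by decide) l (hr l hl)).symm

theorem low_mem : ∀ l, l < 12 → l ∈ lettersH := by
  intro l hl
  interval_cases l <;> decide

theorem toC_low : ∀ r : List ℕ, (∀ l ∈ r, l < 12) → toC r = r := by
  intro r hr
  conv_rhs => rw [← List.map_id r]
  exact List.map_congr_left fun l hl => by
    have := hr l hl
    simp only [id]
    rw [if_neg (by omega)]

/-- The relators of the Higman–Sims group hold. -/
theorem exists_rels {t : G} {R V A : Subgroup G} (h : Hyp t R V A) :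
    ∃ L : List G, RelsG L ∧ centralizer ({t} : Set G) ≤ closure {y | y ∈ L} := by
  obtain ⟨c, w, d, a, s, G'⟩ := exists_gens h
  obtain ⟨π, hA⟩ := exists_act h G'
  obtain ⟨x, hxH, px, -, hC, hrels⟩ := exists_x h G' hA
  have B := G'.basis
  set L := letters16 c w d a s x with hL
  have hK := genBy_eq h G' hA hxH px
  have hKle : centralizer ({t} : Set G) ≤ closure {y | y ∈ L} := hK ▸ genBy_le_closure L lettersH
  have hcard : 7680 ≤ Nat.card (closure {y | y ∈ lv L lettersH} : Subgroup G) := by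
    rw [show (closure {y | y ∈ lv L lettersH} : Subgroup G) = centralizer ({t} : Set G) from hK, h.card_H]
  have hlen : (lv L lettersH).length = 14 := lv_length L
  have hT := hC.table
  have hinv : ∀ r, ev L (winv r) = (ev L r)⁻¹ := ev_winv hC.inv
  have hlow : ∀ {r : List ℕ}, (∀ l ∈ r, l < 12) → ev L r = ev (lv L lettersH) r := fun {r} hr => by
    rw [ev_toC hC.len r fun l hl => low_mem l (hr l hl), toC_low r hr]
  obtain ⟨tc1, tc2, tc4, tc4', hch, eG, eB⟩ := toC_facts
  set hh := ev L [2, 8, 15] with hhh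
  have ehh : hh = ev (lv L lettersH) [2, 8, 13] := by rw [hhh, ev_toC hC.len _ (by decide), tc1]
  set g := ev L [13, 14, 14, 14, 14, 8, 12] with hg
  -- conjugation by `g` along the chains
  have hchain : ∀ q ∈ chains, g * ev L q.1 * g⁻¹ = ev L q.2.2.2 := by
    intro q hq
    obtain ⟨l1, l2, l3, l4⟩ := hch q hq
    have e1 : ev L [8, 12] * ev L q.1 * (ev L [8, 12])⁻¹ = ev L q.2.1 := by
      have := hrels ([8, 12] ++ q.1 ++ [13, 9] ++ winv q.2.1) (List.mem_append_right _
        (List.mem_append_left _ (List.mem_map.2 ⟨q, hq, rfl⟩)))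
      rw [ev_append, ev_append, ev_append, hinv, mul_inv_eq_one,
        show ([13, 9] : List ℕ) = winv [8, 12] by decide, hinv] at this
      exact this
    have e2 : ev L [14, 14, 14, 14] * ev L q.2.1 * (ev L [14, 14, 14, 14])⁻¹ = ev L q.2.2.1 := by
      rw [← hinv, show winv [14, 14, 14, 14] = [15, 15, 15, 15] by decide, ev_toC hC.len [14, 14, 14, 14] (by decide),
        ev_toC hC.len [15, 15, 15, 15] (by decide), tc4, tc4', hlow l2, hlow l3, ← ev_append, ← ev_append]
      exact ev_eq_of_sameT hT (by norm_num) hlen (List.all_eq_true.1 chain_table q hq)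
    have e3 : ev L [13] * ev L q.2.2.1 * (ev L [13])⁻¹ = ev L q.2.2.2 := by
      have := hrels ([13] ++ q.2.2.1 ++ [12] ++ winv q.2.2.2) (List.mem_append_right _
        (List.mem_append_right _ (List.mem_map.2 ⟨q, hq, rfl⟩)))
      rw [ev_append, ev_append, ev_append, hinv, mul_inv_eq_one,
        show ([12] : List ℕ) = winv [13] by decide, hinv] at this
      exact this
    rw [← e3, ← e2, ← e1, hg, show ([13, 14, 14, 14, 14, 8, 12] : List ℕ) = [13] ++ [14, 14, 14, 14] ++ [8, 12]
      from rfl, ev_append, ev_append]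
    group
  have k0 := hchain ([0, 0], [0, 0, 2, 2], [2, 2, 6], [0, 6, 9, 4, 6, 10]) (by simp [chains])
  have k1 := hchain ([2, 2], [0, 0], [6], [6, 9, 6, 10]) (by simp [chains])
  have k3 := hchain ([8, 6, 9], [9, 10], [10], [8, 6, 9]) (by simp [chains])
  have k4 := hchain ([0, 3, 4, 4], [2, 4, 4], [0, 0, 5, 6, 4], [0, 8, 3, 6, 8, 10]) (by simp [chains])
  have ks := hchain ([0, 6, 9, 5, 6, 10], [0, 0, 8, 6, 9], [9, 0, 0, 8], [2, 2]) (by simp [chains])
  simp only at k0 k1 k3 k4 ks
  -- the source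
  obtain ⟨s1, s2, s3, s4, s5, s6⟩ := source_table
  have src : ∀ u v : List ℕ, sameT TH.Tb 14 u v = true → ev (lv L lettersH) u = ev (lv L lettersH) v :=
    fun u v e => ev_eq_of_sameT hT (by norm_num) hlen e
  have S1 := src _ _ s1
  have S2 := src _ _ s2
  have S3 := src _ _ s3
  have S4 := src _ _ s4
  have S5 := src _ _ s5
  simp only [ev_append, ev_nil, ← ehh] at S1 S2 S3 S4 S5
  rw [← hlow (r := [2, 2]) (by decide)] at S1 S5
  rw [← hlow (r := [0, 6, 9, 5, 6, 10]) (by decide)] at S2
  rw [← hlow (r := [0, 3, 4, 4]) (by decide)] at S4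
  rw [← hlow (r := [0, 0]) (by decide), ← hlow (r := [8, 6, 9]) (by decide)] at S5
  have et : ev L [2, 2] = t := by
    rw [← B.t_code, show ev L [2, 2] = c 4 * c 4 by simp [hL, ev, fl, letters16, lettersG],
      ← B.add 4 (by norm_num) 4 (by norm_num)]
    rfl
  -- the target
  set y := g * hh * g⁻¹ with hy
  have conjg : ∀ p q : G, g * p * g⁻¹ * (g * q * g⁻¹) = g * (p * q) * g⁻¹ := fun p q => by group
  have Y1 : y * ev L [6, 9, 6, 10] = ev L [6, 9, 6, 10] * y := by rw [hy, ← k1, conjg, conjg, S1]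
  have Y2 : y * t = t * y := by rw [← et, hy, ← ks, conjg, conjg, S2]
  have Y3 : y * y * y = 1 := by rw [hy, conjg, conjg, S3, mul_one, mul_inv_cancel]
  have Y4 : ev L [0, 8, 3, 6, 8, 10] * y * ev L [0, 8, 3, 6, 8, 10] * y = 1 := by
    rw [hy, ← k4, conjg, conjg, conjg, S4, mul_one, mul_inv_cancel]
  have Y5 : y * ev L [0, 6, 9, 4, 6, 10] = ev L [6, 9, 6, 10] * ev L [8, 6, 9] * y := by
    rw [hy, ← k0, ← k1, ← k3, conjg, conjg, conjg, S5]
  have hyH : y ∈ genBy L lettersH := hK ▸ mem_centralizer_singleton_iff.2 Y2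
  obtain ⟨i, hi, ei⟩ := hC.exists_node hyH
  rw [ev_pth hC] at ei
  have hil : ∀ l ∈ pthC i, l < (lv L lettersH).length := hlen.symm ▸ pthC_lt hi
  have back : ∀ u v : List ℕ, (∀ l ∈ u, l < 14) → (∀ l ∈ v, l < 14) →
      ev (lv L lettersH) u = ev (lv L lettersH) v → sameT TH.Tb 14 u v = true := by
    intro u v hu hv e
    have := follow_eq_of_ev hT (by norm_num) hcard (hlen.symm ▸ hu) (hlen.symm ▸ hv) e
    unfold sameT
    rw [cond_false_eq_true, cond_false_eq_true]
    exact ⟨allList_iff.2 fun l hl => by rw [Nat.blt_eq]; exact hu l hl,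
      allList_iff.2 fun l hl => by rw [Nat.blt_eq]; exact hv l hl, by rw [this]; exact Nat.beq_refl _⟩
  have pl := pthC_lt hi
  have hpass : passNode i = true := by
    have b1 := back (pthC i ++ [6, 9, 6, 10]) ([6, 9, 6, 10] ++ pthC i)
      (by simp only [List.mem_append]; rintro l (e | e); exacts [pl l e, by revert l; decide])
      (by simp only [List.mem_append]; rintro l (e | e); exacts [by revert l; decide, pl l e])
      (by rw [ev_append, ev_append, ← ei, ← hlow (r := [6, 9, 6, 10]) (by decide), Y1])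
    have b2 := back (pthC i ++ pthC i ++ pthC i) []
      (by simp only [List.mem_append]; rintro l ((e | e) | e) <;> exact pl l e) (by simp)
      (by rw [ev_append, ev_append, ← ei, ev_nil, Y3])
    have b3 := back ([0, 8, 3, 6, 8, 10] ++ pthC i ++ [0, 8, 3, 6, 8, 10] ++ pthC i) []
      (by simp only [List.mem_append]; rintro l (((e | e) | e) | e)
          exacts [by revert l; decide, pl l e, by revert l; decide, pl l e]) (by simp)
      (by rw [ev_append, ev_append, ev_append, ← ei, ev_nil, ← hlow (r := [0, 8, 3, 6, 8, 10]) (by decide), Y4])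
    have b4 := back (pthC i ++ [0, 6, 9, 4, 6, 10]) ([6, 9, 6, 10] ++ [8, 6, 9] ++ pthC i)
      (by simp only [List.mem_append]; rintro l (e | e); exacts [pl l e, by revert l; decide])
      (by simp only [List.mem_append]; rintro l ((e | e) | e)
          exacts [by revert l; decide, by revert l; decide, pl l e])
      (by rw [ev_append, ev_append, ev_append, ← ei, ← hlow (r := [0, 6, 9, 4, 6, 10]) (by decide),
            ← hlow (r := [6, 9, 6, 10]) (by decide), ← hlow (r := [8, 6, 9]) (by decide), Y5])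
    unfold passNode
    rw [b1, b2, b3, b4]
    rfl
  have hcase : i = nodeG ∨ i = nodeB ∨ i = 0 := by
    have := of_allBelow pass_table i hi
    rw [hpass] at this
    simp only [cond_true] at this
    by_cases e1 : i = nodeG
    · exact Or.inl e1
    by_cases e2 : i = nodeB
    · exact Or.inr (Or.inl e2)
    rw [show Nat.beq i nodeG = false from Bool.eq_false_iff.2 fun hh => e1 (Nat.eq_of_beq_eq_true hh), show Nat.beq i nodeB = false from Bool.eq_false_iff.2 fun hh => e2 (Nat.eq_of_beq_eq_true hh)] at this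
    exact Or.inr (Or.inr (Nat.eq_of_beq_eq_true this))
  have key : ∀ wd : List ℕ, (∀ l ∈ wd, l < 14) → nodeC wd = i → y = ev (lv L lettersH) wd := by
    intro wd hwd e
    rw [ei]
    refine (ev_eq_of_follow hT (by norm_num) (hlen.symm ▸ hwd) hil ?_).symm
    exact e.trans (nodeC_pthC hi).symm
  rcases hcase with e | e | e
  · refine ⟨L, ⟨hC.len, fun r hr => ?_⟩, hKle⟩
    rcases List.mem_append.1 hr with hr | hr
    · exact hrels r (List.mem_append_left _ hr)
    rw [List.mem_singleton] at hr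
    subst hr
    rw [eG, ev_append, ev_append, ev_append, hinv, hinv, ← hg, ← hhh, ← hy, mul_inv_eq_one,
      key [12, 5, 6, 12] (by decide) e.symm, ev_toC hC.len _ (by decide), tc2]
  · exfalso
    have hbad : RelsBad L := by
      refine ⟨hC.len, fun r hr => ?_⟩
      rcases List.mem_append.1 hr with hr | hr
      · exact hrels r (List.mem_append_left _ hr)
      rw [List.mem_singleton] at hr
      subst hr
      rw [eB, ev_append, ev_append, ev_append, hinv, hinv, ← hg, ← hhh, ← hy, mul_inv_eq_one,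
        key [2, 8, 13] (by decide) e.symm, ← ehh]
    have hw : w ∈ centralizer ({t} : Set G) := hK ▸ hbad.w_mem
    have := (mem_H_iff h B G'.w_mem).1 hw
    rw [mat_of_isMat B G'.mat_w] at this
    exact absurd this (by decide +kernel)
  · exfalso
    have y1 : y = 1 := (key [] (by simp) (by rw [e]; rfl)).trans (ev_nil _)
    have hh1 : hh = 1 := by
      calc hh = g⁻¹ * y * g := by rw [hy]; group
        _ = 1 := by rw [y1]; group
    refine s6 ?_
    rw [ehh, ← ev_nil (lv L lettersH)] at hh1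
    exact follow_eq_of_ev hT (by norm_num) hcard (hlen.symm ▸ by decide) (by simp) hh1

end CfsgLib.HSUniq
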